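import Mathlib
import Cfsg.Prelude.Def_Perm

set_option autoImplicit false

/-!
Basic algebra of near-fields (`Cfsg.NearField`).
-/

namespace Cfsg.Agent.Lib.helper15.NearField

variable {F : Type*} [Cfsg.NearField F]

theorem nf_right_distrib (a b c : F) : (a + b) * c = a * c + b * c :=
  Cfsg.NearField.right_distrib a b c

theorem nf_mul_zero (a : F) : a * 0 = 0 := Cfsg.NearField.mul_zero a

theorem nf_zero_ne_one : (0 : F) ≠ 1 := Cfsg.NearField.zero_ne_one

theorem nf_zero_mul (a : F) : (0 : F) * a = 0 := by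
  have h := nf_right_distrib (0 : F) 0 a
  rw [add_zero] at h
  exact left_eq_add.mp h

theorem nf_neg_mul (x a : F) : (-x) * a = -(x * a) := by
  have h := nf_right_distrib (-x) x a
  rw [neg_add_cancel, nf_zero_mul] at h
  exact eq_neg_of_add_eq_zero_left h.symm

theorem nf_sub_mul (x y a : F) : (x - y) * a = x * a - y * a := by
  rw [sub_eq_add_neg, nf_right_distrib, nf_neg_mul, ← sub_eq_add_neg]

theorem nf_exists_inv (a : F) (ha : a ≠ 0) : ∃ b : F, b ≠ 0 ∧ a * b = 1 ∧ b * a = 1 := by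
  obtain ⟨b, h1, h2⟩ := Cfsg.NearField.exists_inv a ha
  refine ⟨b, ?_, h1, h2⟩
  rintro rfl
  rw [nf_mul_zero] at h1
  exact nf_zero_ne_one h1

theorem nf_mul_ne_zero (a b : F) (ha : a ≠ 0) (hb : b ≠ 0) : a * b ≠ 0 := by
  intro h
  obtain ⟨a', -, -, h2⟩ := nf_exists_inv a ha
  apply hb
  calc b = a' * a * b := by rw [h2, one_mul]
    _ = a' * (a * b) := mul_assoc _ _ _
    _ = 0 := by rw [h, nf_mul_zero]

/-- the affine permutation `x ↦ x * s + t` -/
def aff (s sinv t : F) (h1 : s * sinv = 1) (h2 : sinv * s = 1) : Equiv.Perm F where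
  toFun x := x * s + t
  invFun y := (y + -t) * sinv
  left_inv x := by
    simp only
    rw [add_neg_cancel_right, mul_assoc, h1, mul_one]
  right_inv y := by
    simp only
    rw [mul_assoc, h2, mul_one, neg_add_cancel_right]

theorem aff_apply (s sinv t : F) (h1 : s * sinv = 1) (h2 : sinv * s = 1) (x : F) :
    aff s sinv t h1 h2 x = x * s + t := rfl

/-- the affine group of a near-field -/
def affGroup (F : Type*) [Cfsg.NearField F] : Subgroup (Equiv.Perm F) where
  carrier := {σ | ∃ a b : F, a ≠ 0 ∧ ∀ x : F, σ x = x * a + b}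
  one_mem' := ⟨1, 0, fun h => nf_zero_ne_one h.symm, fun x => by simp⟩
  mul_mem' := by
    rintro σ τ ⟨a, b, ha, hσ⟩ ⟨c, d, hc, hτ⟩
    refine ⟨c * a, d * a + b, nf_mul_ne_zero c a hc ha, fun x => ?_⟩
    rw [Equiv.Perm.mul_apply, hτ, hσ, nf_right_distrib, mul_assoc, add_assoc]
  inv_mem' := by
    rintro σ ⟨a, b, ha, hσ⟩
    obtain ⟨a', ha', h1, h2⟩ := nf_exists_inv a ha
    refine ⟨a', (-b) * a', ha', fun x => ?_⟩
    apply σ.injective
    have e1 : σ (σ⁻¹ x) = x := Equiv.apply_symm_apply σ x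
    rw [e1, hσ (x * a' + -b * a'), nf_right_distrib, mul_assoc, h2, mul_one, mul_assoc, h2, mul_one,
      neg_add_cancel_right]

theorem mem_affGroup (σ : Equiv.Perm F) :
    σ ∈ affGroup F ↔ ∃ a b : F, a ≠ 0 ∧ ∀ x : F, σ x = x * a + b := Iff.rfl

theorem affGroup_two_trans {a b c d : F} (hab : a ≠ b) (hcd : c ≠ d) :
    ∃ g : affGroup F, g • a = c ∧ g • b = d := by
  have h1 : a - b ≠ 0 := sub_ne_zero.mpr hab
  have h2 : c - d ≠ 0 := sub_ne_zero.mpr hcd
  obtain ⟨u, hu, hu1, hu2⟩ := nf_exists_inv (a - b) h1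
  have hs : u * (c - d) ≠ 0 := nf_mul_ne_zero u (c - d) hu h2
  obtain ⟨s', hs', hs1, hs2⟩ := nf_exists_inv (u * (c - d)) hs
  have hkey : a * (u * (c - d)) - b * (u * (c - d)) = c - d := by
    rw [← nf_sub_mul, ← mul_assoc, hu1, one_mul]
  refine ⟨⟨aff (u * (c - d)) s' (-(b * (u * (c - d))) + d) hs1 hs2,
    ⟨u * (c - d), -(b * (u * (c - d))) + d, hs, fun x => rfl⟩⟩, ?_, ?_⟩
  · change a * (u * (c - d)) + (-(b * (u * (c - d))) + d) = c
    rw [← add_assoc, ← sub_eq_add_neg, hkey, sub_add_cancel]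
  · change b * (u * (c - d)) + (-(b * (u * (c - d))) + d) = d
    rw [← add_assoc, add_neg_cancel, zero_add]

theorem affGroup_sharp (g : affGroup F) (x y : F) (hxy : x ≠ y) (hx : g • x = x) (hy : g • y = y) :
    g = 1 := by
  obtain ⟨σ, a, b, ha, hσ⟩ := g
  have hx' : x * a + b = x := by rw [← hσ]; exact hx
  have hy' : y * a + b = y := by rw [← hσ]; exact hy
  have h1 : (x - y) * a = x - y := by
    rw [nf_sub_mul]
    have e1 : x * a = x - b := eq_sub_of_add_eq hx'
    have e2 : y * a = y - b := eq_sub_of_add_eq hy'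
    rw [e1, e2, sub_sub_sub_cancel_right]
  obtain ⟨u, -, -, hu2⟩ := nf_exists_inv (x - y) (sub_ne_zero.mpr hxy)
  have ha1 : a = 1 := by
    calc a = u * (x - y) * a := by rw [hu2, one_mul]
      _ = u * ((x - y) * a) := mul_assoc _ _ _
      _ = 1 := by rw [h1, hu2]
  have hb0 : b = 0 := by
    rw [ha1, mul_one] at hx'
    exact add_eq_left.mp hx'
  apply Subtype.ext
  apply Equiv.ext
  intro z
  change σ z = z
  rw [hσ, ha1, hb0, mul_one, add_zero]

theorem nf_nsmul_mul (n : ℕ) (a c : F) : (n • a) * c = n • (a * c) := by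
  induction n with
  | zero => rw [zero_nsmul, zero_nsmul, nf_zero_mul]
  | succ n ih => rw [succ_nsmul, succ_nsmul, nf_right_distrib, ih]

/-- every non-zero element is a right multiple of a given non-zero element -/
theorem nf_exists_mul_eq (z w : F) (hz : z ≠ 0) : ∃ c : F, z * c = w := by
  obtain ⟨z', -, h1, -⟩ := nf_exists_inv z hz
  exact ⟨z' * w, by rw [← mul_assoc, h1, one_mul]⟩

theorem finite_nearField [Finite F] : ∃ p j : ℕ, p.Prime ∧ 1 ≤ j ∧ Nat.card F = p ^ j ∧
    (∀ x y : F, x + y = y + x) ∧ ∀ x : F, p • x = 0 := by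
  have hnt : Nontrivial F := ⟨⟨0, 1, nf_zero_ne_one⟩⟩
  have hcard : 1 < Nat.card F := Finite.one_lt_card
  obtain ⟨p, hp, hpd⟩ := Nat.exists_prime_and_dvd (ne_of_gt hcard)
  have := Fact.mk hp
  obtain ⟨x₀, hx₀⟩ := exists_prime_addOrderOf_dvd_card' p hpd
  have hx₀0 : x₀ ≠ 0 := by
    rintro rfl
    rw [addOrderOf_zero] at hx₀
    exact hp.one_lt.ne hx₀
  have hpx₀ : p • x₀ = 0 := by
    rw [← hx₀]
    exact addOrderOf_nsmul_eq_zero x₀
  have hexp : ∀ y : F, p • y = 0 := by
    intro y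
    obtain ⟨c, rfl⟩ := nf_exists_mul_eq x₀ y hx₀0
    rw [← nf_nsmul_mul, hpx₀, nf_zero_mul]
  have hP : IsPGroup p (Multiplicative F) := by
    intro g
    refine ⟨1, ?_⟩
    rw [pow_one]
    exact congrArg Multiplicative.ofAdd (hexp (Multiplicative.toAdd g))
  obtain ⟨j, hj⟩ := IsPGroup.iff_card.mp hP
  have hj' : Nat.card F = p ^ j := hj
  have hcomm : ∀ x y : F, x + y = y + x := by
    have hntM : Nontrivial (Multiplicative F) := hnt
    have hc := hP.center_nontrivial
    obtain ⟨⟨z, hz⟩, hz1⟩ := exists_ne (1 : Subgroup.center (Multiplicative F))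
    have hz0 : Multiplicative.toAdd z ≠ 0 := by
      intro h
      apply hz1
      apply Subtype.ext
      exact h
    have hzc : ∀ y : F, Multiplicative.toAdd z + y = y + Multiplicative.toAdd z := by
      intro y
      have := (Subgroup.mem_center_iff.mp hz) (Multiplicative.ofAdd y)
      exact (congrArg Multiplicative.toAdd this).symm
    intro w y
    by_cases hw : w = 0
    · rw [hw, zero_add, add_zero]
    · obtain ⟨c, hc⟩ := nf_exists_mul_eq (Multiplicative.toAdd z) w hz0
      have hc0 : c ≠ 0 := by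
        rintro rfl
        rw [nf_mul_zero] at hc
        exact hw hc.symm
      obtain ⟨c', -, h1, h2⟩ := nf_exists_inv c hc0
      have hy : y = (y * c') * c := by rw [mul_assoc, h2, mul_one]
      rw [← hc]
      conv_lhs => rw [hy]
      conv_rhs => rw [hy]
      rw [← nf_right_distrib, ← nf_right_distrib, hzc]
  refine ⟨p, j, hp, ?_, hj', hcomm, hexp⟩
  by_contra hj0
  have hj0' : j = 0 := by omega
  rw [hj0', pow_zero] at hj'
  omega

end Cfsg.Agent.Lib.helper15.NearField
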