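import Mathlib
import Cfsg.Prelude.Def_Perm
import Cfsg.Agent.Lib.helper15.Sharp2

set_option autoImplicit false

/-!
A finite sharply doubly transitive group is the affine group of a near-field structure on the
permuted set.
-/

namespace Cfsg.Agent.Lib.helper15.Sharp2NF

open MulAction Cfsg.Agent.Lib.helper15.Sharp2

theorem exists_nearField {α : Type*} [Fintype α] [DecidableEq α] {G : Type*} [Group G] [Finite G]
    [MulAction G α]
    (h2t : ∀ a b c d : α, a ≠ b → c ≠ d → ∃ g : G, g • a = c ∧ g • b = d)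
    (hsh : ∀ (g : G) (a b : α), a ≠ b → g • a = a → g • b = b → g = 1)
    (hn : 2 ≤ Fintype.card α) :
    ∃ _ : Cfsg.NearField α, (∀ g : G, ∃ a b : α, a ≠ 0 ∧ ∀ x : α, g • x = x * a + b) ∧
      (∀ a b : α, a ≠ 0 → ∃ g : G, ∀ x : α, g • x = x * a + b) := by
  classical
  obtain ⟨p, N, hp, hpn, hNn, hmem, hcomm, hexp, hcard⟩ := main h2t hsh hn
  obtain ⟨o, e, hoe⟩ := Fintype.exists_pair_of_one_lt_card hn
  have hfree : ∀ n ∈ N, ∀ a : α, n • a = a → n = 1 := by
    intro n hn a ha
    rcases (hmem n).mp hn with h | h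
    · exact h
    · exact absurd ha (h a)
  have hinjN : ∀ n ∈ N, ∀ m ∈ N, ∀ a : α, n • a = m • a → n = m := by
    intro n hn m hm a h
    have h1 : (m⁻¹ * n) • a = a := by
      rw [mul_smul, h, inv_smul_smul]
    exact (inv_mul_eq_one.mp (hfree _ (mul_mem (inv_mem hm) hn) a h1)).symm
  have hbij : Function.Bijective (fun n : N => (n : G) • o) := by
    apply Function.Injective.bijective_of_nat_card_le
    · intro n m hnm
      exact Subtype.ext (hinjN n n.2 m m.2 o hnm)
    · rw [hcard, Nat.card_eq_fintype_card]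
  have hτex : ∀ a : α, ∃ n : G, n ∈ N ∧ n • o = a := fun a =>
    let ⟨n, hn⟩ := hbij.2 a
    ⟨n, n.2, hn⟩
  choose τ hτN hτ using hτex
  have hτuniq : ∀ n : G, n ∈ N → τ (n • o) = n := fun n hn =>
    hinjN _ (hτN _) n hn o (hτ _)
  have hγex : ∀ a : α, ∃ g : G, a ≠ o → (g • o = o ∧ g • e = a) := by
    intro a
    by_cases ha : a = o
    · exact ⟨1, fun h => absurd ha h⟩
    · obtain ⟨g, h1, h2⟩ := h2t o e o a hoe (Ne.symm ha)
      exact ⟨g, fun _ => ⟨h1, h2⟩⟩
  choose γ hγ using hγex
  have hγuniq : ∀ g : G, g • o = o → g • e ≠ o → γ (g • e) = g := by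
    intro g hg hge
    obtain ⟨h1, h2⟩ := hγ (g • e) hge
    have := hsh ((γ (g • e))⁻¹ * g) o e hoe
      (by rw [mul_smul, hg, inv_smul_eq_iff, h1]) (by rw [mul_smul, inv_smul_eq_iff, h2])
    exact (inv_mul_eq_one.mp this)
  have hτo : τ o = 1 := by
    have := hτuniq 1 (one_mem N)
    rwa [one_smul] at this
  have hγe : γ e = 1 := by
    have := hγuniq 1 (one_smul _ _) (by rw [one_smul]; exact Ne.symm hoe)
    rwa [one_smul] at this
  have hfixne : ∀ g : G, g • o = o → ∀ a : α, a ≠ o → g • a ≠ o := by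
    intro g hg a ha h
    apply ha
    have : g • a = g • o := by rw [h, hg]
    exact smul_left_cancel g this
  let addInst : Add α := ⟨fun x y => τ y • x⟩
  let zeroInst : Zero α := ⟨o⟩
  let negInst : Neg α := ⟨fun a => (τ a)⁻¹ • o⟩
  have hadd : ∀ x y : α, x + y = τ y • x := fun _ _ => rfl
  have hzero : (0 : α) = o := rfl
  have hneg : ∀ a : α, -a = (τ a)⁻¹ • o := fun _ => rfl
  let AG : AddGroup α := AddGroup.ofLeftAxioms
    (by
      intro a b c
      rw [hadd, hadd, hadd, hadd]
      have : τ (τ c • b) = τ c * τ b := by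
        have h1 := hτuniq (τ c * τ b) (mul_mem (hτN c) (hτN b))
        rwa [mul_smul, hτ] at h1
      rw [this, mul_smul])
    (by
      intro a
      rw [hadd, hzero, hτ])
    (by
      intro a
      rw [hadd, hneg, hzero, smul_inv_smul])
  let MO : Monoid α :=
    { mul := fun x a => if a = o then o else γ a • x
      one := e
      mul_assoc := by
        intro x a b
        change (if b = o then o else γ b • (if a = o then o else γ a • x)) =
          if (if b = o then o else γ b • a) = o then o else γ (if b = o then o else γ b • a) • x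
        by_cases hb : b = o
        · simp [hb]
        · by_cases ha : a = o
          · simp [hb, ha, (hγ b hb).1]
          · have h1 : γ b • a ≠ o := hfixne _ (hγ b hb).1 a ha
            have h2 : γ (γ b • a) = γ b * γ a := by
              have h3 := hγuniq (γ b * γ a) (by rw [mul_smul, (hγ a ha).1, (hγ b hb).1])
                (by rw [mul_smul, (hγ a ha).2]; exact h1)
              rwa [mul_smul, (hγ a ha).2] at h3
            simp only [hb, ha, h1, if_false]
            rw [h2, mul_smul]
      one_mul := by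
        intro a
        change (if a = o then o else γ a • e) = a
        by_cases ha : a = o
        · simp [ha]
        · simp [ha, (hγ a ha).2]
      mul_one := by
        intro a
        change (if e = o then o else γ e • a) = a
        simp [Ne.symm hoe, hγe] }
  have hmul : ∀ x a : α, x * a = if a = o then o else γ a • x := fun _ _ => rfl
  have hone : (1 : α) = e := rfl
  refine ⟨@Cfsg.NearField.mk α AG MO ?_ ?_ ?_ ?_, ?_, ?_⟩
  · intro a b c
    change (if c = o then o else γ c • (τ b • a)) =
      τ (if c = o then o else γ c • b) • (if c = o then o else γ c • a)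
    by_cases hc : c = o
    · simp [hc, hτo]
    · simp only [hc, if_false]
      have h1 : τ (γ c • b) = γ c * τ b * (γ c)⁻¹ := by
        have h2 := hτuniq (γ c * τ b * (γ c)⁻¹) (hNn.conj_mem _ (hτN b) _)
        rw [mul_smul, mul_smul, inv_smul_eq_iff.mpr (hγ c hc).1.symm, hτ] at h2
        exact h2
      rw [h1, mul_smul, mul_smul, inv_smul_smul]
  · intro a
    change (if o = o then o else γ o • a) = o
    simp
  · exact hoe
  · intro a ha
    have ha' : a ≠ o := ha
    have hb : (γ a)⁻¹ • e ≠ o := hfixne _ (inv_smul_eq_iff.mpr (hγ a ha').1.symm) e (Ne.symm hoe)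
    have hγb : γ ((γ a)⁻¹ • e) = (γ a)⁻¹ := hγuniq _ (inv_smul_eq_iff.mpr (hγ a ha').1.symm) hb
    refine ⟨(γ a)⁻¹ • e, ?_, ?_⟩
    · change (if (γ a)⁻¹ • e = o then o else γ ((γ a)⁻¹ • e) • a) = e
      simp only [hb, if_false]
      rw [hγb, inv_smul_eq_iff, (hγ a ha').2]
    · change (if a = o then o else γ a • ((γ a)⁻¹ • e)) = e
      simp only [ha', if_false]
      rw [smul_inv_smul]
  · intro g
    have h1 : ((τ (g • o))⁻¹ * g) • o = o := by
      rw [mul_smul, inv_smul_eq_iff, hτ]
    have h2 : ((τ (g • o))⁻¹ * g) • e ≠ o := hfixne _ h1 e (Ne.symm hoe)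
    refine ⟨((τ (g • o))⁻¹ * g) • e, g • o, h2, ?_⟩
    intro x
    change g • x = τ (g • o) • (if ((τ (g • o))⁻¹ * g) • e = o then o else
      γ (((τ (g • o))⁻¹ * g) • e) • x)
    simp only [h2, if_false]
    rw [hγuniq _ h1 h2, mul_smul, smul_inv_smul]
  · intro a b ha
    have ha' : a ≠ o := ha
    refine ⟨τ b * γ a, ?_⟩
    intro x
    change (τ b * γ a) • x = τ b • (if a = o then o else γ a • x)
    simp only [ha', if_false]
    rw [mul_smul]

end Cfsg.Agent.Lib.helper15.Sharp2NF
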