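/-
S5965 piece BC (`sff_sym_comb`): for `r ∈ {3, 5}`, a family of `r` residues mod `r` with sum zero
has a multiset of values symmetric about some residue.
-/
import Mathlib
import Cfsg.Agent.Lib.helper24.SffDefs

set_option autoImplicit false
set_option maxRecDepth 100000

namespace Cfsg.Agent.Lib.helper24

theorem h15_bc3 : ∀ x0 x1 : ZMod 3, ∃ b : ZMod 3, ∀ c : ZMod 3,
    ((if x0 = b + c then 1 else 0) + (if x1 = b + c then 1 else 0)
      + (if -(x0 + x1) = b + c then 1 else 0) : ℕ)
    = (if x0 = b - c then 1 else 0) + (if x1 = b - c then 1 else 0)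
      + (if -(x0 + x1) = b - c then 1 else 0) := by
  decide +kernel

theorem h15_bc5 : ∀ x0 x1 x2 x3 : ZMod 5, ∃ b : ZMod 5, ∀ c : ZMod 5,
    ((if x0 = b + c then 1 else 0) + (if x1 = b + c then 1 else 0)
      + (if x2 = b + c then 1 else 0) + (if x3 = b + c then 1 else 0)
      + (if -(x0 + x1 + x2 + x3) = b + c then 1 else 0) : ℕ)
    = (if x0 = b - c then 1 else 0) + (if x1 = b - c then 1 else 0)
      + (if x2 = b - c then 1 else 0) + (if x3 = b - c then 1 else 0)
      + (if -(x0 + x1 + x2 + x3) = b - c then 1 else 0) := by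
  decide +kernel

/-- BC -/
theorem sff_sym_comb (r : ℕ) [Fact r.Prime] (hr : r = 3 ∨ r = 5) (a : Fin r → ZMod r)
    (ha : ∑ j, a j = 0) :
    ∃ b : ZMod r, ∀ c : ZMod r, (Finset.univ.filter (fun j => a j = b + c)).card =
      (Finset.univ.filter (fun j => a j = b - c)).card := by
  rcases hr with rfl | rfl
  · have h2 : a 2 = -(a 0 + a 1) := by
      rw [Fin.sum_univ_three] at ha
      linear_combination ha
    obtain ⟨b, hb⟩ := h15_bc3 (a 0) (a 1)
    refine ⟨b, fun c => ?_⟩
    rw [Finset.card_filter, Finset.card_filter, Fin.sum_univ_three, Fin.sum_univ_three, h2]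
    exact hb c
  · have h4 : a 4 = -(a 0 + a 1 + a 2 + a 3) := by
      rw [Fin.sum_univ_five] at ha
      linear_combination ha
    obtain ⟨b, hb⟩ := h15_bc5 (a 0) (a 1) (a 2) (a 3)
    refine ⟨b, fun c => ?_⟩
    rw [Finset.card_filter, Finset.card_filter, Fin.sum_univ_five, Fin.sum_univ_five, h4]
    exact hb c

end Cfsg.Agent.Lib.helper24
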