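/-
S5965 piece PAIR (`sff_pair_conj`): a diagonalisable matrix whose eigenvalues `σ λ_j` satisfy
`λ_j ^ (q₀ + 1) = 1`, with the multiset of the `λ_j` closed under inversion, is conjugate by a
matrix of determinant one to `σ` times a matrix over `F₀`.
-/
import Mathlib
import Cfsg.Agent.Lib.helper24.SffDefs
import Cfsg.Agent.Lib.helper99.SubfD

set_option autoImplicit false

namespace Cfsg.Agent.Lib.helper24

open Matrix

/-- Two functions with fibres of the same size differ by a permutation of the source. -/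
theorem h15_exists_perm_of_fiber_card {ι α : Type*} [Fintype ι] [DecidableEq α] (f g : ι → α)
    (h : ∀ c, (Finset.univ.filter (fun j => f j = c)).card
      = (Finset.univ.filter (fun j => g j = c)).card) :
    ∃ τ : Equiv.Perm ι, ∀ j, g (τ j) = f j := by
  classical
  have e : ∀ c, {j // f j = c} ≃ {j // g j = c} := fun c =>
    Fintype.equivOfCardEq (by
      rw [Fintype.card_subtype, Fintype.card_subtype]
      exact h c)
  refine ⟨(Equiv.sigmaFiberEquiv f).symm.trans
    ((Equiv.sigmaCongrRight e).trans (Equiv.sigmaFiberEquiv g)), fun j => ?_⟩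
  exact ((e (f j)) ⟨j, rfl⟩).2

/-- The `|F₀|`-th power map is additive. -/
theorem h15_frob_add {F : Type*} [Field F] [Fintype F] (F₀ : Subfield F) (a b : F) :
    (a + b) ^ Nat.card F₀ = a ^ Nat.card F₀ + b ^ Nat.card F₀ := by
  classical
  obtain ⟨p, hp⟩ := CharP.exists F
  haveI := hp
  haveI : Fact p.Prime := ⟨CharP.char_is_prime F p⟩
  haveI : CharP F₀ p := RingHom.charP F₀.subtype Subtype.val_injective p
  let _ : Fintype F₀ := Fintype.ofFinite _
  obtain ⟨k, -, hk⟩ := FiniteField.card F₀ p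
  rw [Nat.card_eq_fintype_card, hk]
  exact add_pow_char_pow a b p k

/-- The pairing construction: a diagonal matrix whose entries are permuted to their inverses by
`τ` is conjugate to a matrix with entries `0`, `1`, `-1`, `λ + λ⁻¹` or `λ = λ⁻¹`. -/
theorem h15_pair_core {F : Type*} [Field F] [DecidableEq F] {n : ℕ} (ℓ : Fin n → F)
    (hℓ0 : ∀ j, ℓ j ≠ 0) (τ : Equiv.Perm (Fin n)) (hτ : ∀ j, (ℓ (τ j))⁻¹ = ℓ j)
    (r : F → ℕ) (hr : Function.Injective r) :
    ∃ Q M₀ : Matrix (Fin n) (Fin n) F, Q.det ≠ 0 ∧ Matrix.diagonal ℓ * Q = Q * M₀ ∧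
      ∀ i m, M₀ i m = 0 ∨ M₀ i m = 1 ∨ M₀ i m = -1 ∨ M₀ i m = ℓ m + (ℓ m)⁻¹ ∨
        (M₀ i m = ℓ m ∧ ℓ m = (ℓ m)⁻¹) := by
  classical
  have hτ' : ∀ j, ℓ (τ j) = (ℓ j)⁻¹ := fun j => by rw [← hτ j, inv_inv]
  have hτs : ∀ j, ℓ (τ.symm j) = (ℓ j)⁻¹ := by
    intro j
    have := hτ (τ.symm j)
    rw [Equiv.apply_symm_apply] at this
    exact this.symm
  -- the three types of indices
  have hT12 : ∀ m, r (ℓ m) < r (ℓ m)⁻¹ → r (ℓ (τ m))⁻¹ < r (ℓ (τ m)) := by
    intro m h
    rw [hτ m, hτ' m]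
    exact h
  have hT21 : ∀ m, r (ℓ m)⁻¹ < r (ℓ m) → r (ℓ (τ.symm m)) < r (ℓ (τ.symm m))⁻¹ := by
    intro m h
    rw [hτs m, inv_inv]
    exact h
  have hne1 : ∀ m, r (ℓ m) < r (ℓ m)⁻¹ → τ m ≠ m := by
    intro m h heq
    have h1 := hτ' m
    rw [heq] at h1
    rw [← h1] at h
    exact lt_irrefl _ h
  have hne2 : ∀ m, r (ℓ m)⁻¹ < r (ℓ m) → τ.symm m ≠ m := by
    intro m h heq
    have h1 := hτs m
    rw [heq] at h1
    rw [← h1] at h
    exact lt_irrefl _ h
  have hT0 : ∀ m, ¬ r (ℓ m) < r (ℓ m)⁻¹ → ¬ r (ℓ m)⁻¹ < r (ℓ m) → ℓ m = (ℓ m)⁻¹ := by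
    intro m h1 h2
    exact hr (le_antisymm (not_lt.1 h2) (not_lt.1 h1))
  let Q : Matrix (Fin n) (Fin n) F := fun i m =>
    if r (ℓ m) < r (ℓ m)⁻¹ then (if i = m then 1 else if i = τ m then 1 else 0)
    else if r (ℓ m)⁻¹ < r (ℓ m) then
      (if i = m then ℓ m else if i = τ.symm m then (ℓ m)⁻¹ else 0)
    else (if i = m then 1 else 0)
  let M₀ : Matrix (Fin n) (Fin n) F := fun i m =>
    if r (ℓ m) < r (ℓ m)⁻¹ then (if i = τ m then 1 else 0)
    else if r (ℓ m)⁻¹ < r (ℓ m) then
      (if i = m then ℓ m + (ℓ m)⁻¹ else if i = τ.symm m then -1 else 0)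
    else (if i = m then ℓ m else 0)
  have hQ1 : ∀ m, r (ℓ m) < r (ℓ m)⁻¹ → ∀ i,
      Q i m = if i = m then 1 else if i = τ m then 1 else 0 := by
    intro m h i
    show (if r (ℓ m) < r (ℓ m)⁻¹ then (if i = m then (1 : F) else if i = τ m then 1 else 0)
      else _) = _
    rw [if_pos h]
  have hQ2 : ∀ m, r (ℓ m)⁻¹ < r (ℓ m) → ∀ i,
      Q i m = if i = m then ℓ m else if i = τ.symm m then (ℓ m)⁻¹ else 0 := by
    intro m h i
    show (if r (ℓ m) < r (ℓ m)⁻¹ then _ else if r (ℓ m)⁻¹ < r (ℓ m) then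
      (if i = m then ℓ m else if i = τ.symm m then (ℓ m)⁻¹ else 0) else _) = _
    rw [if_neg (not_lt_of_gt h), if_pos h]
  have hQ0 : ∀ m, ¬ r (ℓ m) < r (ℓ m)⁻¹ → ¬ r (ℓ m)⁻¹ < r (ℓ m) → ∀ i,
      Q i m = if i = m then 1 else 0 := by
    intro m h1 h2 i
    show (if r (ℓ m) < r (ℓ m)⁻¹ then _ else if r (ℓ m)⁻¹ < r (ℓ m) then _
      else (if i = m then (1 : F) else 0)) = _
    rw [if_neg h1, if_neg h2]
  have hM1 : ∀ m, r (ℓ m) < r (ℓ m)⁻¹ → ∀ i, M₀ i m = if i = τ m then 1 else 0 := by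
    intro m h i
    show (if r (ℓ m) < r (ℓ m)⁻¹ then (if i = τ m then (1 : F) else 0) else _) = _
    rw [if_pos h]
  have hM2 : ∀ m, r (ℓ m)⁻¹ < r (ℓ m) → ∀ i,
      M₀ i m = if i = m then ℓ m + (ℓ m)⁻¹ else if i = τ.symm m then -1 else 0 := by
    intro m h i
    show (if r (ℓ m) < r (ℓ m)⁻¹ then _ else if r (ℓ m)⁻¹ < r (ℓ m) then
      (if i = m then ℓ m + (ℓ m)⁻¹ else if i = τ.symm m then -1 else 0) else _) = _
    rw [if_neg (not_lt_of_gt h), if_pos h]
  have hM0 : ∀ m, ¬ r (ℓ m) < r (ℓ m)⁻¹ → ¬ r (ℓ m)⁻¹ < r (ℓ m) → ∀ i,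
      M₀ i m = if i = m then ℓ m else 0 := by
    intro m h1 h2 i
    show (if r (ℓ m) < r (ℓ m)⁻¹ then _ else if r (ℓ m)⁻¹ < r (ℓ m) then _
      else (if i = m then ℓ m else 0)) = _
    rw [if_neg h1, if_neg h2]
  refine ⟨Q, M₀, ?_, ?_, ?_⟩
  · -- invertibility, through the left kernel
    intro hdet
    obtain ⟨v, hv, hvQ⟩ := Matrix.exists_vecMul_eq_zero_iff.2 hdet
    apply hv
    have col : ∀ m, ∑ i, v i * Q i m = 0 := fun m => congrFun hvQ m
    have key : ∀ m, r (ℓ m) < r (ℓ m)⁻¹ → v m = 0 ∧ v (τ m) = 0 := by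
      intro m h
      have c1 := col m
      rw [Fintype.sum_eq_add m (τ m) (hne1 m h).symm (by
        intro i hi
        rw [hQ1 m h i, if_neg hi.1, if_neg hi.2, mul_zero])] at c1
      rw [hQ1 m h m, hQ1 m h (τ m), if_pos rfl, if_neg (hne1 m h), if_pos rfl] at c1
      have c2 := col (τ m)
      have h2 := hT12 m h
      rw [Fintype.sum_eq_add (τ m) (τ.symm (τ m)) (hne2 (τ m) h2).symm (by
        intro i hi
        rw [hQ2 (τ m) h2 i, if_neg hi.1, if_neg hi.2, mul_zero])] at c2
      rw [hQ2 (τ m) h2 (τ m), hQ2 (τ m) h2 (τ.symm (τ m)), if_pos rfl,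
        if_neg (hne2 (τ m) h2), if_pos rfl, Equiv.symm_apply_apply, hτ m, hτ' m] at c2
      have hℓne : ℓ m - (ℓ m)⁻¹ ≠ 0 := by
        intro h0
        rw [sub_eq_zero] at h0
        rw [← h0] at h
        exact lt_irrefl _ h
      have hvm : v m * (ℓ m - (ℓ m)⁻¹) = 0 := by
        linear_combination c2 - (ℓ m)⁻¹ * c1
      have hvm0 : v m = 0 := by
        rcases mul_eq_zero.1 hvm with h0 | h0
        · exact h0
        · exact absurd h0 hℓne
      refine ⟨hvm0, ?_⟩
      linear_combination c1 - hvm0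
    funext m
    show v m = 0
    by_cases h1 : r (ℓ m) < r (ℓ m)⁻¹
    · exact (key m h1).1
    · by_cases h2 : r (ℓ m)⁻¹ < r (ℓ m)
      · have := (key (τ.symm m) (hT21 m h2)).2
        rwa [Equiv.apply_symm_apply] at this
      · have c1 := col m
        rw [Fintype.sum_eq_single m (by
          intro i hi
          rw [hQ0 m h1 h2 i, if_neg hi, mul_zero])] at c1
        rw [hQ0 m h1 h2 m, if_pos rfl, mul_one] at c1
        exact c1
  · -- the intertwining relation
    ext i m
    rw [Matrix.diagonal_mul, Matrix.mul_apply]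
    by_cases h1 : r (ℓ m) < r (ℓ m)⁻¹
    · have h2 := hT12 m h1
      rw [Fintype.sum_eq_single (τ m) (by
        intro l hl
        rw [hM1 m h1 l, if_neg hl, mul_zero])]
      rw [hM1 m h1 (τ m), if_pos rfl, mul_one, hQ1 m h1 i, hQ2 (τ m) h2 i,
        Equiv.symm_apply_apply, hτ m]
      by_cases him : i = m
      · subst him
        rw [if_pos rfl, if_neg (hne1 i h1).symm, if_pos rfl, mul_one]
      · by_cases hit : i = τ m
        · subst hit
          rw [if_neg him, if_pos rfl, if_pos rfl, mul_one]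
        · rw [if_neg him, if_neg hit, if_neg hit, if_neg him, mul_zero]
    · by_cases h2 : r (ℓ m)⁻¹ < r (ℓ m)
      · have h3 := hT21 m h2
        rw [Fintype.sum_eq_add m (τ.symm m) (hne2 m h2).symm (by
          intro l hl
          rw [hM2 m h2 l, if_neg hl.1, if_neg hl.2, mul_zero])]
        rw [hM2 m h2 m, hM2 m h2 (τ.symm m), if_pos rfl, if_neg (hne2 m h2), if_pos rfl,
          hQ2 m h2 i, hQ1 (τ.symm m) h3 i, Equiv.apply_symm_apply]
        have hm0 := hℓ0 m
        by_cases him : i = m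
        · subst him
          rw [if_pos rfl, if_neg (hne2 i h2).symm, if_pos rfl]
          field_simp
          ring
        · by_cases hit : i = τ.symm m
          · subst hit
            rw [if_neg him, if_pos rfl, if_pos rfl, hτs m]
            field_simp
            ring
          · rw [if_neg him, if_neg hit, if_neg hit, if_neg him]
            ring
      · rw [Fintype.sum_eq_single m (by
          intro l hl
          rw [hM0 m h1 h2 l, if_neg hl, mul_zero])]
        rw [hM0 m h1 h2 m, if_pos rfl, hQ0 m h1 h2 i]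
        by_cases him : i = m
        · subst him
          rw [if_pos rfl, mul_one, one_mul]
        · rw [if_neg him, mul_zero, zero_mul]
  · -- the entries
    intro i m
    by_cases h1 : r (ℓ m) < r (ℓ m)⁻¹
    · rw [hM1 m h1 i]
      by_cases h : i = τ m
      · rw [if_pos h]
        exact Or.inr (Or.inl rfl)
      · rw [if_neg h]
        exact Or.inl rfl
    · by_cases h2 : r (ℓ m)⁻¹ < r (ℓ m)
      · rw [hM2 m h2 i]
        by_cases h : i = m
        · rw [if_pos h]
          exact Or.inr (Or.inr (Or.inr (Or.inl rfl)))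
        · rw [if_neg h]
          by_cases h' : i = τ.symm m
          · rw [if_pos h']
            exact Or.inr (Or.inr (Or.inl rfl))
          · rw [if_neg h']
            exact Or.inl rfl
      · rw [hM0 m h1 h2 i]
        by_cases h : i = m
        · rw [if_pos h]
          exact Or.inr (Or.inr (Or.inr (Or.inr ⟨rfl, hT0 m h1 h2⟩)))
        · rw [if_neg h]
          exact Or.inl rfl

/-- PAIR -/
theorem sff_pair_conj {F : Type*} [Field F] [Fintype F] [DecidableEq F] (F₀ : Subfield F) {n : ℕ}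
    (x K : Matrix (Fin n) (Fin n) F) (μ : Fin n → F) (hK : K.det ≠ 0)
    (hx : x * K = K * Matrix.diagonal μ) (σ : F) (hσ : σ ≠ 0)
    (hμ : ∀ j, (μ j / σ) ^ (Nat.card F₀ + 1) = 1)
    (hsym : ∀ c : F, (Finset.univ.filter (fun j => μ j = σ * c)).card =
      (Finset.univ.filter (fun j => μ j = σ * c⁻¹)).card)
    (j₀ : Fin n) (hj₀ : μ j₀ = σ) : SffConj F₀ x := by
  classical
  have hℓ0 : ∀ j, μ j / σ ≠ 0 := by
    intro j h0
    have h1 := hμ j
    rw [h0, zero_pow (Nat.succ_ne_zero _)] at h1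
    exact zero_ne_one h1
  obtain ⟨τ, hτ⟩ := h15_exists_perm_of_fiber_card (fun j => μ j / σ) (fun j => (μ j / σ)⁻¹) (by
    intro c
    have e1 : (Finset.univ.filter (fun j => μ j / σ = c))
        = Finset.univ.filter (fun j => μ j = σ * c) := by
      apply Finset.filter_congr
      intro j _
      rw [div_eq_iff hσ, mul_comm]
    have e2 : (Finset.univ.filter (fun j => (μ j / σ)⁻¹ = c))
        = Finset.univ.filter (fun j => μ j = σ * c⁻¹) := by
      apply Finset.filter_congr
      intro j _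
      rw [inv_eq_iff_eq_inv, div_eq_iff hσ, mul_comm]
    rw [e1, e2]
    exact hsym c)
  obtain ⟨Q, M₀, hQdet, hQM, hM⟩ := h15_pair_core (fun j => μ j / σ) hℓ0 τ hτ
    (fun c : F => ((Fintype.equivFin F c : Fin (Fintype.card F)) : ℕ))
    (fun a b h => (Fintype.equivFin F).injective (Fin.ext h))
  -- Frobenius
  have hfrob : ∀ j, (μ j / σ) ^ Nat.card F₀ = (μ j / σ)⁻¹ := by
    intro j
    have h1 := hμ j
    rw [pow_succ] at h1
    exact eq_inv_of_mul_eq_one_left h1
  have hmem : ∀ i m, M₀ i m ∈ F₀ := by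
    intro i m
    rcases hM i m with h | h | h | h | ⟨h, h'⟩
    · rw [h]
      exact F₀.zero_mem
    · rw [h]
      exact F₀.one_mem
    · rw [h]
      exact F₀.neg_mem F₀.one_mem
    · rw [h]
      apply Cfsg.Agent.Lib.helper99.Subf.mem_subfield_of_pow
      rw [h15_frob_add, inv_pow, hfrob m, inv_inv, add_comm]
    · rw [h]
      apply Cfsg.Agent.Lib.helper99.Subf.mem_subfield_of_pow
      rw [hfrob m]
      exact h'.symm
  -- rescaling
  refine ⟨K * Matrix.diagonal (fun j => if j = j₀ then (K.det * Q.det)⁻¹ else 1) * Q, M₀, σ,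
    ?_, hσ, hmem, ?_⟩
  · rw [Matrix.det_mul, Matrix.det_mul, Matrix.det_diagonal,
      Finset.prod_ite_eq' Finset.univ j₀ (fun _ => (K.det * Q.det)⁻¹), if_pos (Finset.mem_univ _)]
    field_simp
  · have hμℓ : Matrix.diagonal μ = σ • Matrix.diagonal (fun j => μ j / σ) := by
      ext i j
      by_cases h : i = j
      · subst h
        simp only [Matrix.smul_apply, Matrix.diagonal_apply_eq, smul_eq_mul]
        field_simp
      · simp [Matrix.diagonal_apply_ne _ h]
    have hcomm : Matrix.diagonal μ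
          * Matrix.diagonal (fun j => if j = j₀ then (K.det * Q.det)⁻¹ else 1)
        = Matrix.diagonal (fun j => if j = j₀ then (K.det * Q.det)⁻¹ else 1)
          * Matrix.diagonal μ := by
      rw [Matrix.diagonal_mul_diagonal, Matrix.diagonal_mul_diagonal]
      congr 1
      funext j
      ring
    calc x * (K * Matrix.diagonal (fun j => if j = j₀ then (K.det * Q.det)⁻¹ else 1) * Q)
        = (x * K) * Matrix.diagonal (fun j => if j = j₀ then (K.det * Q.det)⁻¹ else 1) * Q := by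
          simp only [Matrix.mul_assoc]
      _ = K * (Matrix.diagonal μ
            * Matrix.diagonal (fun j => if j = j₀ then (K.det * Q.det)⁻¹ else 1)) * Q := by
          rw [hx]
          simp only [Matrix.mul_assoc]
      _ = K * Matrix.diagonal (fun j => if j = j₀ then (K.det * Q.det)⁻¹ else 1)
            * (σ • (Matrix.diagonal (fun j => μ j / σ) * Q)) := by
          rw [hcomm, hμℓ]
          simp only [Matrix.mul_assoc, Matrix.smul_mul, Matrix.mul_smul]
      _ = K * Matrix.diagonal (fun j => if j = j₀ then (K.det * Q.det)⁻¹ else 1) * Q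
            * (σ • M₀) := by
          rw [hQM]
          simp only [Matrix.mul_assoc, Matrix.mul_smul]

end Cfsg.Agent.Lib.helper24
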