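import Mathlib
import Cfsg.Agent.Lib.helper42.AICDefs
import Cfsg.Agent.Lib.helper26.CIT

/-! S2202 piece A1 (helper15): Sylow 2-subgroups are commutative. -/

set_option autoImplicit false

open Cfsg.Agent.Lib.helper42.AIC

namespace Cfsg.Agent.Lib.helper15.AIC

/-- A1 -/
theorem sylow_comm {G : Type*} [Group G] [Finite G] (hA : AIC G) (hnc : NCyc G) (P : Sylow 2 G) :
    ∀ x ∈ (P : Subgroup G), ∀ y ∈ (P : Subgroup G), x * y = y * x := by
  intro x hx y hy
  obtain ⟨z, hzP, hz, hzc⟩ := Cfsg.Agent.Lib.helper26.CIT.exists_central_involution P (hnc P)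
  have hcomm := hA z hz
  have hx' : x ∈ Subgroup.centralizer ({z} : Set G) := by
    rw [Subgroup.mem_centralizer_singleton_iff]
    exact hzc x hx
  have hy' : y ∈ Subgroup.centralizer ({z} : Set G) := by
    rw [Subgroup.mem_centralizer_singleton_iff]
    exact hzc y hy
  have := mul_comm' (⟨x, hx'⟩ : Subgroup.centralizer ({z} : Set G)) ⟨y, hy'⟩
  exact congrArg Subtype.val this

end Cfsg.Agent.Lib.helper15.AIC
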