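import Mathlib
import Cfsg.Agent.Lib.helper42.AICDefs
import Cfsg.Agent.Lib.helper26.CIT
import Cfsg.Agent.Lib.helper44.LinSix
import Cfsg.Agent.Lib.helper15.AIC_A1

/-! S2202 pieces A11, A12 (helper15): every Sylow 2-subgroup contains two distinct commuting
involutions, hence at least three involutions. -/

set_option autoImplicit false

open Cfsg.Agent.Lib.helper42.AIC

namespace Cfsg.Agent.Lib.helper15.AIC

/-- A11 : two distinct commuting involutions in every Sylow 2-subgroup -/
theorem exists_two_inv {G : Type*} [Group G] [Finite G] (hA : AIC G) (hnc : NCyc G) (P : Sylow 2 G) :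
    ∃ s t : G, s ∈ (P : Subgroup G) ∧ t ∈ (P : Subgroup G) ∧ orderOf s = 2 ∧ orderOf t = 2 ∧
      s ≠ t ∧ s * t = t * s := by
  obtain ⟨z, hzP, hz, hzc⟩ := Cfsg.Agent.Lib.helper26.CIT.exists_central_involution P (hnc P)
  have hz2 : z ^ 2 = 1 := by rw [← hz]; exact pow_orderOf_eq_one z
  by_contra hcon
  apply hnc P
  apply Cfsg.Agent.Lib.helper44.isCyclic_of_comm_of_pow_le 2 (P : Subgroup G) P.isPGroup'
    (sylow_comm hA hnc P) z hz2
  intro y hy hy2
  by_contra hyz
  have hy1 : y ≠ 1 := fun h => hyz (h ▸ one_mem _)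
  have hyo : orderOf y = 2 := orderOf_eq_prime hy2 hy1
  have hne : z ≠ y := fun h => hyz (h ▸ Subgroup.mem_zpowers z)
  exact hcon ⟨z, y, hzP, hy, hz, hyo, hne, (hzc y hy).symm⟩

/-- A12 -/
theorem three_le_inv {G : Type*} [Group G] [Finite G] (hA : AIC G) (hnc : NCyc G) (P : Sylow 2 G) :
    3 ≤ Nat.card {t : G // orderOf t = 2 ∧ t ∈ (P : Subgroup G)} := by
  classical
  obtain ⟨s, t, hsP, htP, hs, ht, hst, hcomm⟩ := exists_two_inv hA hnc P
  have hs2 : s * s = 1 := by rw [← pow_two, ← hs]; exact pow_orderOf_eq_one s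
  have ht2 : t * t = 1 := by rw [← pow_two, ← ht]; exact pow_orderOf_eq_one t
  have hs1 : s ≠ 1 := by intro h; rw [h, orderOf_one] at hs; norm_num at hs
  have ht1 : t ≠ 1 := by intro h; rw [h, orderOf_one] at ht; norm_num at ht
  have hst1 : s * t ≠ 1 := by
    intro h
    apply hst
    calc s = s * (t * t) := by rw [ht2, mul_one]
      _ = (s * t) * t := by rw [mul_assoc]
      _ = t := by rw [h, one_mul]
  have hst2 : (s * t) ^ 2 = 1 := by
    rw [pow_two]
    calc s * t * (s * t) = s * (t * s) * t := by group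
      _ = s * (s * t) * t := by rw [hcomm]
      _ = (s * s) * (t * t) := by group
      _ = 1 := by rw [hs2, ht2, one_mul]
  have hsto : orderOf (s * t) = 2 := orderOf_eq_prime hst2 hst1
  have := Fintype.ofFinite {t : G // orderOf t = 2 ∧ t ∈ (P : Subgroup G)}
  rw [Nat.card_eq_fintype_card]
  have h3 : ({⟨s, hs, hsP⟩, ⟨t, ht, htP⟩, ⟨s * t, hsto, mul_mem hsP htP⟩} :
      Finset {t : G // orderOf t = 2 ∧ t ∈ (P : Subgroup G)}).card = 3 := by
    rw [Finset.card_eq_three]
    refine ⟨_, _, _, ?_, ?_, ?_, rfl⟩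
    · intro h
      exact hst (congrArg Subtype.val h)
    · intro h
      have h4 : s = s * t := congrArg Subtype.val h
      apply ht1
      calc t = s * (s * t) := by rw [← mul_assoc, hs2, one_mul]
        _ = s * s := by rw [← h4]
        _ = 1 := hs2
    · intro h
      have h4 : t = s * t := congrArg Subtype.val h
      apply hs1
      calc s = (s * t) * t := by rw [mul_assoc, ht2, mul_one]
        _ = t * t := by rw [← h4]
        _ = 1 := ht2
  rw [← h3]
  exact Finset.card_le_univ _

end Cfsg.Agent.Lib.helper15.AIC
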