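import Mathlib
import Cfsg.Agent.Lib.helper42.AICDefs
import Cfsg.Agent.Lib.helper26.CIT
import Cfsg.Agent.Lib.helper15.AIC_A1

/-! S2202 pieces A2, A2' (helper15): `C(t) = C(P)` for an involution `t` of `P`; `C(P)` is
commutative. -/

set_option autoImplicit false

open Cfsg.Agent.Lib.helper42.AIC

namespace Cfsg.Agent.Lib.helper15.AIC

/-- A2 -/
theorem cent_eq {G : Type*} [Group G] [Finite G] (hA : AIC G) (hnc : NCyc G) (P : Sylow 2 G) {t : G}
    (ht : orderOf t = 2) (htP : t ∈ (P : Subgroup G)) :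
    Subgroup.centralizer ({t} : Set G) = CP P := by
  have hcomm := hA t ht
  apply le_antisymm
  · intro g hg
    rw [Subgroup.mem_centralizer_iff]
    intro x hx
    have hx' : x ∈ Subgroup.centralizer ({t} : Set G) := by
      rw [Subgroup.mem_centralizer_singleton_iff]
      exact sylow_comm hA hnc P x hx t htP
    have := mul_comm' (⟨x, hx'⟩ : Subgroup.centralizer ({t} : Set G)) ⟨g, hg⟩
    exact congrArg Subtype.val this
  · intro g hg
    rw [Subgroup.mem_centralizer_iff] at hg
    rw [Subgroup.mem_centralizer_singleton_iff]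
    exact (hg t htP).symm

/-- A2' -/
theorem cp_comm {G : Type*} [Group G] [Finite G] (hA : AIC G) (hnc : NCyc G) (P : Sylow 2 G) :
    ∀ x ∈ CP P, ∀ y ∈ CP P, x * y = y * x := by
  intro x hx y hy
  obtain ⟨z, hzP, hz, hzc⟩ := Cfsg.Agent.Lib.helper26.CIT.exists_central_involution P (hnc P)
  have hcomm := hA z hz
  rw [← cent_eq hA hnc P hz hzP] at hx hy
  have := mul_comm' (⟨x, hx⟩ : Subgroup.centralizer ({z} : Set G)) ⟨y, hy⟩
  exact congrArg Subtype.val this

end Cfsg.Agent.Lib.helper15.AIC
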