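import Mathlib
import Cfsg.Agent.Lib.helper42.AICDefs
import Cfsg.Agent.Lib.helper26.CIT
import Cfsg.Agent.Lib.helper15.AIC_A2

/-! S2202 piece A3 (helper15): Sylow 2-subgroups are TI. -/

set_option autoImplicit false

open Cfsg.Agent.Lib.helper42.AIC

namespace Cfsg.Agent.Lib.helper15.AIC

/-- A nontrivial `2`-element has a power of order `2`. -/
theorem exists_pow_involution {G : Type*} [Group G] {x : G} (k : ℕ) (hk : x ^ (2 ^ k) = 1)
    (hx : x ≠ 1) : ∃ m : ℕ, orderOf (x ^ m) = 2 := by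
  have h1 : orderOf x ∣ 2 ^ k := orderOf_dvd_of_pow_eq_one hk
  obtain ⟨j, hj, hj'⟩ := (Nat.dvd_prime_pow Nat.prime_two).mp h1
  have hj0 : j ≠ 0 := by
    rintro rfl
    rw [pow_zero, orderOf_eq_one_iff] at hj'
    exact hx hj'
  refine ⟨2 ^ (j - 1), ?_⟩
  apply orderOf_eq_prime
  · rw [← pow_mul, ← pow_succ, Nat.sub_add_cancel (Nat.pos_of_ne_zero hj0), ← hj']
    exact pow_orderOf_eq_one x
  · intro h
    have h2 : orderOf x ∣ 2 ^ (j - 1) := orderOf_dvd_of_pow_eq_one h
    rw [hj'] at h2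
    have h3 := Nat.le_of_dvd (by positivity) h2
    have h4 : 2 ^ (j - 1) < 2 ^ j := Nat.pow_lt_pow_right (by norm_num) (by omega)
    omega

/-- A3 : Sylow 2-subgroups are TI -/
theorem sylow_ti {G : Type*} [Group G] [Finite G] (hA : AIC G) (hnc : NCyc G) (P Q : Sylow 2 G) {x : G}
    (hxP : x ∈ (P : Subgroup G)) (hxQ : x ∈ (Q : Subgroup G)) (hx : x ≠ 1) : P = Q := by
  obtain ⟨k, hk⟩ := P.isPGroup' ⟨x, hxP⟩
  have hk' : x ^ (2 ^ k) = 1 := by
    have := congrArg Subtype.val hk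
    simpa using this
  obtain ⟨m, hm⟩ := exists_pow_involution k hk' hx
  have htP : x ^ m ∈ (P : Subgroup G) := pow_mem hxP m
  have htQ : x ^ m ∈ (Q : Subgroup G) := pow_mem hxQ m
  have hPQ : CP P = CP Q := by
    rw [← cent_eq hA hnc P hm htP, ← cent_eq hA hnc Q hm htQ]
  -- `P` centralizes `Q`
  have hPc : (P : Subgroup G) ≤ CP Q := by
    intro a ha
    have haP : a ∈ CP P := by
      rw [Subgroup.mem_centralizer_iff]
      intro b hb
      exact sylow_comm hA hnc P b hb a ha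
    rw [hPQ] at haP
    exact haP
  have hnorm : (P : Subgroup G) ≤ Subgroup.normalizer ((Q : Subgroup G) : Set G) :=
    hPc.trans (Subgroup.centralizer_le_normalizer _)
  have h3 : IsPGroup 2 ((P : Subgroup G) ⊔ (Q : Subgroup G) : Subgroup G) :=
    P.isPGroup'.to_sup_of_normal_right' Q.isPGroup' hnorm
  have h4 := P.is_maximal' h3 le_sup_left
  have h5 := Q.is_maximal' h3 le_sup_right
  exact Sylow.ext (h4.symm.trans h5)

end Cfsg.Agent.Lib.helper15.AIC
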