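import Mathlib
import Cfsg.Agent.Lib.helper42.AICDefs
import Cfsg.Agent.Lib.helper26.CIT

/-! S2202 piece A4 (helper15): a 2-element normalizing a Sylow 2-subgroup lies in it. -/

set_option autoImplicit false

open Cfsg.Agent.Lib.helper42.AIC

namespace Cfsg.Agent.Lib.helper15.AIC

/-- A4 : a 2-element normalizing a Sylow 2-subgroup lies in it (general) -/
theorem mem_of_np {G : Type*} [Group G] [Finite G] (P : Sylow 2 G) {x : G} (hx : x ∈ NP P) (k : ℕ)
    (hk : x ^ (2 ^ k) = 1) : x ∈ (P : Subgroup G) :=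
  Cfsg.Agent.Lib.helper26.mem_sylow_of_mem_normalizer P hx ⟨k, hk⟩

end Cfsg.Agent.Lib.helper15.AIC
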