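import Mathlib
import Cfsg.Agent.Lib.helper42.AICDefs
import Cfsg.Agent.Lib.helper15.AIC_A3
import Cfsg.Agent.Lib.helper15.AIC_A4

/-! S2202 piece A5 (helper15): an element of `C(P) ∩ N(Q)`, `P ≠ Q`, has odd order. -/

set_option autoImplicit false

open Cfsg.Agent.Lib.helper42.AIC

namespace Cfsg.Agent.Lib.helper15.AIC

/-- A5 -/
theorem odd_of_cp_np {G : Type*} [Group G] [Finite G] (hA : AIC G) (hnc : NCyc G) (P Q : Sylow 2 G)
    (hPQ : P ≠ Q) {x : G} (hxP : x ∈ CP P) (hxQ : x ∈ NP Q) : Odd (orderOf x) := by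
  obtain ⟨a, m, hm, hn⟩ := Nat.exists_eq_two_pow_mul_odd (orderOf_pos x).ne'
  have hy : (x ^ m) ^ (2 ^ a) = 1 := by
    rw [← pow_mul, mul_comm, ← hn]
    exact pow_orderOf_eq_one x
  have hyP : x ^ m ∈ (P : Subgroup G) :=
    mem_of_np P (Subgroup.centralizer_le_normalizer _ (pow_mem hxP m)) a hy
  have hyQ : x ^ m ∈ (Q : Subgroup G) := mem_of_np Q (pow_mem hxQ m) a hy
  have h1 : x ^ m = 1 := by
    by_contra h
    exact hPQ (sylow_ti hA hnc P Q hyP hyQ h)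
  exact Odd.of_dvd_nat hm (orderOf_dvd_of_pow_eq_one h1)

end Cfsg.Agent.Lib.helper15.AIC
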