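import Mathlib
import Cfsg.Prelude.Def_Involutions
import Cfsg.Agent.Lib.helper42.AICDefs
import Cfsg.Agent.Lib.helper26.CIT
import Cfsg.Agent.Lib.helper26.StronglyEmbedded
import Cfsg.Agent.Lib.helper15.AIC_A3
import Cfsg.Agent.Lib.helper15.AIC_A4

/-! S2202 piece A6 (helper15): the normalizer of a Sylow 2-subgroup is strongly embedded. -/

set_option autoImplicit false

open Cfsg.Agent.Lib.helper42.AIC

namespace Cfsg.Agent.Lib.helper15.AIC

/-- A6 -/
theorem se_np {G : Type*} [Group G] [Finite G] (hA : AIC G) (hnc : NCyc G) (hnn : NNor G)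
    (P : Sylow 2 G) : Cfsg.IsStronglyEmbedded (NP P) := by
  obtain ⟨z, hzP, hz, -⟩ := Cfsg.Agent.Lib.helper26.CIT.exists_central_involution P (hnc P)
  refine ⟨?_, ?_, ?_⟩
  · intro h
    exact hnn P (Subgroup.normalizer_eq_top_iff.1 h)
  · rw [even_iff_two_dvd]
    have h1 : orderOf (⟨z, Subgroup.le_normalizer hzP⟩ : NP P) ∣ _ := orderOf_dvd_natCard _
    rwa [Subgroup.orderOf_mk, hz] at h1
  · intro g hg
    by_contra hodd
    rw [Nat.not_odd_iff_even, even_iff_two_dvd] at hodd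
    obtain ⟨s, hs⟩ := exists_prime_orderOf_dvd_card'
      (G := ↥(NP P ⊓ (NP P).map (MulAut.conj g).toMonoidHom)) 2 hodd
    have hso : orderOf (s : G) = 2 := by rw [Subgroup.orderOf_coe]; exact hs
    have hs1 : (s : G) ∈ NP P := s.2.1
    have hs2 : g⁻¹ * (s : G) * g ∈ NP P :=
      (Cfsg.Agent.Lib.helper26.SE.mem_map_conj_iff _ g s).1 s.2.2
    have hsq : (s : G) ^ (2 ^ 1) = 1 := by rw [pow_one, ← hso]; exact pow_orderOf_eq_one _
    have hsq' : (g⁻¹ * (s : G) * g) ^ (2 ^ 1) = 1 := by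
      have h1 : g⁻¹ * (s : G) * g = g⁻¹ * (s : G) * g⁻¹⁻¹ := by rw [inv_inv]
      rw [h1, conj_pow, hsq]
      group
    have hsP : (s : G) ∈ (P : Subgroup G) := mem_of_np P hs1 1 hsq
    have hsP' : g⁻¹ * (s : G) * g ∈ (P : Subgroup G) := mem_of_np P hs2 1 hsq'
    have hsgP : (s : G) ∈ ((g • P : Sylow 2 G) : Subgroup G) := by
      rw [Sylow.coe_subgroup_smul, Subgroup.mem_pointwise_smul_iff_inv_smul_mem]
      simpa [MulAut.smul_def, MulAut.conj_inv_apply] using hsP'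
    have hs1' : (s : G) ≠ 1 := by
      intro h
      rw [h, orderOf_one] at hso
      norm_num at hso
    have h5 : P = g • P := sylow_ti hA hnc P (g • P) hsP hsgP hs1'
    exact hg (Sylow.smul_eq_iff_mem_normalizer.1 h5.symm)

end Cfsg.Agent.Lib.helper15.AIC
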