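import Mathlib
import Cfsg.Prelude.Def_Involutions
import Cfsg.Agent.Lib.helper42.AICDefs
import Cfsg.Agent.Lib.helper26.StronglyEmbedded
import Cfsg.Agent.Lib.helper15.AIC_A4
import Cfsg.Agent.Lib.helper15.AIC_A6

/-! S2202 piece A7 (helper15): exactly `q - 1` involutions map `P` to `Q`. -/

set_option autoImplicit false

open Cfsg.Agent.Lib.helper42.AIC

namespace Cfsg.Agent.Lib.helper15.AIC

/-- A7 : exactly `q - 1` involutions map `P` to `Q` -/
theorem card_swap {G : Type*} [Group G] [Finite G] (hA : AIC G) (hnc : NCyc G) (hnn : NNor G)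
    (P Q : Sylow 2 G) (hPQ : P ≠ Q) :
    Nat.card {i : G // orderOf i = 2 ∧ i • P = Q} =
      Nat.card {t : G // orderOf t = 2 ∧ t ∈ (P : Subgroup G)} := by
  obtain ⟨g, hg⟩ := MulAction.exists_smul_eq G P Q
  have h := Cfsg.Agent.Lib.helper26.SE.card_coset_eq (se_np hA hnc hnn P) g
  have e1 : {i : G // orderOf i = 2 ∧ i • P = Q} ≃ {i : G // orderOf i = 2 ∧ g⁻¹ * i ∈ NP P} :=
    Equiv.subtypeEquivRight (fun i => by
      constructor
      · rintro ⟨h1, h2⟩
        refine ⟨h1, ?_⟩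
        apply Sylow.smul_eq_iff_mem_normalizer.1
        rw [mul_smul, h2, ← hg, inv_smul_smul]
      · rintro ⟨h1, h2⟩
        refine ⟨h1, ?_⟩
        have h2' := Sylow.smul_eq_iff_mem_normalizer.2 h2
        rw [mul_smul] at h2'
        calc i • P = g • (g⁻¹ • (i • P)) := (smul_inv_smul g _).symm
          _ = g • P := by rw [h2']
          _ = Q := hg)
  have e2 : {t : G // orderOf t = 2 ∧ t ∈ NP P} ≃
      {t : G // orderOf t = 2 ∧ t ∈ (P : Subgroup G)} :=
    Equiv.subtypeEquivRight (fun t => by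
      constructor
      · rintro ⟨h1, h2⟩
        exact ⟨h1, mem_of_np P h2 1 (by rw [pow_one, ← h1]; exact pow_orderOf_eq_one t)⟩
      · rintro ⟨h1, h2⟩
        exact ⟨h1, Subgroup.le_normalizer h2⟩)
  rw [Nat.card_congr e1, h, Nat.card_congr e2]

end Cfsg.Agent.Lib.helper15.AIC
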