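import Mathlib
import Cfsg.Prelude.Def_Involutions
import Cfsg.Agent.Lib.helper42.AICDefs
import Cfsg.Agent.Lib.helper26.CIT
import Cfsg.Agent.Lib.helper26.Involutions
import Cfsg.Agent.Lib.helper26.StronglyEmbedded
import Cfsg.Agent.Lib.helper15.AIC_A3
import Cfsg.Agent.Lib.helper15.AIC_A6

/-! S2202 piece A8 (helper15): `|N(P)| = (q - 1) |C(P)|`. -/

set_option autoImplicit false

open Cfsg.Agent.Lib.helper42.AIC

namespace Cfsg.Agent.Lib.helper15.AIC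

/-- A8 -/
theorem card_np {G : Type*} [Group G] [Finite G] (hA : AIC G) (hnc : NCyc G) (hnn : NNor G)
    (P : Sylow 2 G) :
    Nat.card (NP P) =
      Nat.card {t : G // orderOf t = 2 ∧ t ∈ (P : Subgroup G)} * Nat.card (CP P) := by
  classical
  obtain ⟨t₀, ht₀P, ht₀, -⟩ := Cfsg.Agent.Lib.helper26.CIT.exists_central_involution P (hnc P)
  have hse := se_np hA hnc hnn P
  have hcent := cent_eq hA hnc P ht₀ ht₀P
  have hex : ∀ b : {t : G // orderOf t = 2 ∧ t ∈ (P : Subgroup G)},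
      ∃ c : G, c ∈ NP P ∧ c * t₀ * c⁻¹ = b.1 := by
    intro b
    obtain ⟨c, hc⟩ := Cfsg.Agent.Lib.helper26.SE.exists_conj_involutions hse ht₀ b.2.1
    refine ⟨c, ?_, hc⟩
    have hb1 : b.1 ≠ 1 := by
      intro h
      have h2 := b.2.1
      rw [h, orderOf_one] at h2
      norm_num at h2
    have hbc : b.1 ∈ ((c • P : Sylow 2 G) : Subgroup G) := by
      rw [Sylow.coe_subgroup_smul, Subgroup.mem_pointwise_smul_iff_inv_smul_mem]
      have h3 : c⁻¹ * b.1 * c = t₀ := by rw [← hc]; group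
      simpa [MulAut.smul_def, MulAut.conj_inv_apply, h3] using ht₀P
    have h5 : P = c • P := sylow_ti hA hnc P (c • P) b.2.2 hbc hb1
    exact Sylow.smul_eq_iff_mem_normalizer.1 h5.symm
  choose cf hcf1 hcf2 using hex
  let f : {t : G // orderOf t = 2 ∧ t ∈ (P : Subgroup G)} × ↥(CP P) → ↥(NP P) :=
    fun bz => ⟨cf bz.1 * bz.2.1,
      mul_mem (hcf1 bz.1) (Subgroup.centralizer_le_normalizer _ bz.2.2)⟩
  have hconj : ∀ (b : {t : G // orderOf t = 2 ∧ t ∈ (P : Subgroup G)}) (z : ↥(CP P)),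
      (cf b * z.1) * t₀ * (cf b * z.1)⁻¹ = b.1 := by
    intro b z
    have hz : z.1 * t₀ = t₀ * z.1 := by
      have h1 : z.1 ∈ Subgroup.centralizer ({t₀} : Set G) := by
        rw [hcent]
        exact z.2
      rw [Subgroup.mem_centralizer_singleton_iff] at h1
      exact h1
    calc (cf b * z.1) * t₀ * (cf b * z.1)⁻¹ = cf b * (z.1 * t₀) * z.1⁻¹ * (cf b)⁻¹ := by group
      _ = cf b * (t₀ * z.1) * z.1⁻¹ * (cf b)⁻¹ := by rw [hz]
      _ = cf b * t₀ * (cf b)⁻¹ := by group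
      _ = b.1 := hcf2 b
  have hf : Function.Bijective f := by
    constructor
    · rintro ⟨b, z⟩ ⟨b', z'⟩ h
      have h1 : cf b * z.1 = cf b' * z'.1 := congrArg Subtype.val h
      have hb : b = b' := by
        apply Subtype.ext
        rw [← hconj b z, ← hconj b' z', h1]
      subst hb
      have hz : z = z' := Subtype.ext (mul_left_cancel h1)
      rw [hz]
    · rintro ⟨n, hn⟩
      have hbP : n * t₀ * n⁻¹ ∈ (P : Subgroup G) :=
        (Subgroup.mem_normalizer_iff.mp hn t₀).mp ht₀P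
      have hbo : orderOf (n * t₀ * n⁻¹) = 2 := by
        rw [Cfsg.Agent.Lib.helper26.orderOf_conj_eq]
        exact ht₀
      have hz : (cf ⟨n * t₀ * n⁻¹, hbo, hbP⟩)⁻¹ * n ∈ CP P := by
        rw [← hcent, Subgroup.mem_centralizer_singleton_iff]
        have h1 : cf ⟨n * t₀ * n⁻¹, hbo, hbP⟩ * t₀ * (cf ⟨n * t₀ * n⁻¹, hbo, hbP⟩)⁻¹ =
            n * t₀ * n⁻¹ := hcf2 ⟨n * t₀ * n⁻¹, hbo, hbP⟩
        calc (cf ⟨n * t₀ * n⁻¹, hbo, hbP⟩)⁻¹ * n * t₀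
            = (cf ⟨n * t₀ * n⁻¹, hbo, hbP⟩)⁻¹ * (n * t₀ * n⁻¹) * n := by group
          _ = (cf ⟨n * t₀ * n⁻¹, hbo, hbP⟩)⁻¹ *
              (cf ⟨n * t₀ * n⁻¹, hbo, hbP⟩ * t₀ * (cf ⟨n * t₀ * n⁻¹, hbo, hbP⟩)⁻¹) * n := by
                rw [h1]
          _ = t₀ * ((cf ⟨n * t₀ * n⁻¹, hbo, hbP⟩)⁻¹ * n) := by group
      refine ⟨(⟨n * t₀ * n⁻¹, hbo, hbP⟩, ⟨(cf ⟨n * t₀ * n⁻¹, hbo, hbP⟩)⁻¹ * n, hz⟩), ?_⟩
      apply Subtype.ext
      show cf ⟨n * t₀ * n⁻¹, hbo, hbP⟩ * ((cf ⟨n * t₀ * n⁻¹, hbo, hbP⟩)⁻¹ * n) = n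
      group
  rw [← Nat.card_prod, Nat.card_congr (Equiv.ofBijective f hf)]

end Cfsg.Agent.Lib.helper15.AIC
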