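import Mathlib

set_option autoImplicit false

/-!
Linear groups over the prime field acting regularly on the non-zero vectors (point stabilisers of
sharply doubly transitive groups): basic lemmas.  An abelian subgroup is cyclic, of order dividing
`p ^ k - 1` for `k` the dimension of a minimal invariant subspace.
-/

namespace Cfsg.Agent.Lib.helper15.LinReg

open scoped IsMulCommutative

section

variable {p : ℕ} [Fact p.Prime] {V : Type*} [AddCommGroup V] [Module (ZMod p) V]

/-- freeness of the action on non-zero vectors -/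
theorem free_of_reg (H : Subgroup (V ≃ₗ[ZMod p] V))
    (hreg : ∀ v w : V, v ≠ 0 → w ≠ 0 → ∃! h : H, (h : V ≃ₗ[ZMod p] V) v = w)
    (h : H) (v : V) (hv : v ≠ 0) (hh : (h : V ≃ₗ[ZMod p] V) v = v) : h = 1 := by
  obtain ⟨g, -, hg⟩ := hreg v v hv hv
  rw [hg h hh, hg 1 (by simp)]

/-- existence of a minimal non-zero invariant subspace inside a given non-zero invariant one -/
theorem exists_minimal_invariant [Finite V] (H : Subgroup (V ≃ₗ[ZMod p] V)) (A : Subgroup H)
    (W₀ : Submodule (ZMod p) V) (hW₀ : W₀ ≠ ⊥)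
    (hinv₀ : ∀ a ∈ A, ∀ v ∈ W₀, ((a : H) : V ≃ₗ[ZMod p] V) v ∈ W₀) :
    ∃ W : Submodule (ZMod p) V, W ≤ W₀ ∧ W ≠ ⊥ ∧
      (∀ a ∈ A, ∀ v ∈ W, ((a : H) : V ≃ₗ[ZMod p] V) v ∈ W) ∧
      (∀ W' : Submodule (ZMod p) V, W' ≤ W →
        (∀ a ∈ A, ∀ v ∈ W', ((a : H) : V ≃ₗ[ZMod p] V) v ∈ W') → W' = ⊥ ∨ W' = W) := by
  have hfin : Finite (Submodule (ZMod p) V) :=
    Finite.of_injective (fun W : Submodule (ZMod p) V => (W : Set V)) SetLike.coe_injective
  let S : Set (Submodule (ZMod p) V) := {W | W ≤ W₀ ∧ W ≠ ⊥ ∧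
    (∀ a ∈ A, ∀ v ∈ W, ((a : H) : V ≃ₗ[ZMod p] V) v ∈ W)}
  have hS : S.Nonempty := ⟨W₀, le_refl _, hW₀, hinv₀⟩
  obtain ⟨W, hWS, hmin⟩ := (wellFounded_lt (α := Submodule (ZMod p) V)).has_min S hS
  refine ⟨W, hWS.1, hWS.2.1, hWS.2.2, ?_⟩
  intro W' hW' hinv'
  by_cases h0 : W' = ⊥
  · exact Or.inl h0
  · right
    have : W' ∈ S := ⟨hW'.trans hWS.1, h0, hinv'⟩
    exact eq_of_le_of_not_lt hW' (hmin W' this)

/-- an abelian subgroup is cyclic (it embeds in the units of the commutative domain generated by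
its restriction to a minimal invariant subspace) -/
theorem cyclic_of_minimal [Finite V] (H : Subgroup (V ≃ₗ[ZMod p] V))
    (hreg : ∀ v w : V, v ≠ 0 → w ≠ 0 → ∃! h : H, (h : V ≃ₗ[ZMod p] V) v = w)
    (A : Subgroup H) (hAc : IsMulCommutative A)
    (W : Submodule (ZMod p) V) (hW : W ≠ ⊥)
    (hinv : ∀ a ∈ A, ∀ v ∈ W, ((a : H) : V ≃ₗ[ZMod p] V) v ∈ W)
    (hmin : ∀ W' : Submodule (ZMod p) V, W' ≤ W →
      (∀ a ∈ A, ∀ v ∈ W', ((a : H) : V ≃ₗ[ZMod p] V) v ∈ W') → W' = ⊥ ∨ W' = W) :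
    IsCyclic A := by
  classical
  have hfinE : Finite (V ≃ₗ[ZMod p] V) :=
    Finite.of_injective (fun e : V ≃ₗ[ZMod p] V => (e : V → V)) DFunLike.coe_injective
  let ρ : A → Module.End (ZMod p) W := fun a =>
    (((a : H) : V ≃ₗ[ZMod p] V) : V →ₗ[ZMod p] V).restrict (hinv a a.2)
  have hρ_mul : ∀ a b : A, ρ (a * b) = ρ a * ρ b := by
    intro a b
    ext w
    rfl
  have hρ_one : ρ 1 = 1 := by
    ext w
    rfl
  let S : Set (Module.End (ZMod p) W) := Set.range ρ
  have hcomm : ∀ x ∈ S, ∀ y ∈ S, x * y = y * x := by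
    rintro _ ⟨a, rfl⟩ _ ⟨b, rfl⟩
    rw [← hρ_mul, ← hρ_mul, isMulCommutative_iff.mp hAc a b]
  have hRc : IsMulCommutative (Algebra.adjoin (ZMod p) S) :=
    Algebra.isMulCommutative_adjoin (ZMod p) hcomm
  obtain ⟨w₀, hw₀W, hw₀⟩ := (Submodule.ne_bot_iff W).mp hW
  have hnzd : NoZeroDivisors (Algebra.adjoin (ZMod p) S) := by
    constructor
    intro r s hrs
    by_contra hcon
    push Not at hcon
    obtain ⟨hr, hs⟩ := hcon
    have hs' : (s : Module.End (ZMod p) W) ≠ 0 := fun h => hs (Subtype.ext h)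
    obtain ⟨w, hw⟩ : ∃ w : W, (s : Module.End (ZMod p) W) w ≠ 0 := by
      by_contra hno
      push Not at hno
      exact hs' (LinearMap.ext hno)
    have hrs' : ∀ u : W, (r : Module.End (ZMod p) W) ((s : Module.End (ZMod p) W) u) = 0 := by
      intro u
      have := congrArg (fun t : Algebra.adjoin (ZMod p) S => (t : Module.End (ZMod p) W) u) hrs
      simpa using this
    let K : Submodule (ZMod p) V := (LinearMap.ker (r : Module.End (ZMod p) W)).map W.subtype
    have hKW : K ≤ W := Submodule.map_subtype_le W _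
    have hKinv : ∀ a ∈ A, ∀ v ∈ K, ((a : H) : V ≃ₗ[ZMod p] V) v ∈ K := by
      intro a ha v hv
      obtain ⟨u, hu, rfl⟩ := Submodule.mem_map.mp hv
      refine Submodule.mem_map.mpr ⟨ρ ⟨a, ha⟩ u, ?_, rfl⟩
      rw [LinearMap.mem_ker] at hu ⊢
      have hcm : (r : Module.End (ZMod p) W) * ρ ⟨a, ha⟩ = ρ ⟨a, ha⟩ * (r : Module.End (ZMod p) W) := by
        have := mul_comm r
          (⟨ρ ⟨a, ha⟩, Algebra.subset_adjoin ⟨⟨a, ha⟩, rfl⟩⟩ : Algebra.adjoin (ZMod p) S)
        exact congrArg Subtype.val this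
      have := congrArg (fun t : Module.End (ZMod p) W => t u) hcm
      simp only [Module.End.mul_apply] at this
      rw [this, hu, map_zero]
    rcases hmin K hKW hKinv with hK | hK
    · apply hw
      have : ((s : Module.End (ZMod p) W) w : V) ∈ K :=
        Submodule.mem_map.mpr ⟨_, LinearMap.mem_ker.mpr (hrs' w), rfl⟩
      rw [hK, Submodule.mem_bot] at this
      exact Subtype.ext this
    · apply hr
      apply Subtype.ext
      apply LinearMap.ext
      intro u
      have : (u : V) ∈ K := by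
        rw [hK]
        exact u.2
      obtain ⟨u', hu', huu⟩ := Submodule.mem_map.mp this
      have : u' = u := Subtype.ext huu
      rw [← this]
      exact LinearMap.mem_ker.mp hu'
  have hnt : Nontrivial (Algebra.adjoin (ZMod p) S) := by
    refine ⟨⟨0, 1, ?_⟩⟩
    intro h
    have := congrArg (fun t : Algebra.adjoin (ZMod p) S =>
      (((t : Module.End (ZMod p) W) ⟨w₀, hw₀W⟩ : W) : V)) h
    simp at this
    exact hw₀ this.symm
  have hdom : IsDomain (Algebra.adjoin (ZMod p) S) := NoZeroDivisors.to_isDomain _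
  let f : A →* Algebra.adjoin (ZMod p) S :=
    { toFun := fun a => ⟨ρ a, Algebra.subset_adjoin ⟨a, rfl⟩⟩
      map_one' := Subtype.ext hρ_one
      map_mul' := fun a b => Subtype.ext (hρ_mul a b) }
  have hf : Function.Injective f := by
    intro a b hab
    have h1 : ρ a = ρ b := congrArg Subtype.val hab
    have h2 : ((a : H) : V ≃ₗ[ZMod p] V) w₀ = ((b : H) : V ≃ₗ[ZMod p] V) w₀ := by
      have := congrArg (fun t : Module.End (ZMod p) W => ((t ⟨w₀, hw₀W⟩ : W) : V)) h1
      exact this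
    have h3 : (((b⁻¹ * a : A) : H) : V ≃ₗ[ZMod p] V) w₀ = w₀ := by
      change ((b : H) : V ≃ₗ[ZMod p] V)⁻¹ (((a : H) : V ≃ₗ[ZMod p] V) w₀) = w₀
      rw [h2]
      exact (((b : H) : V ≃ₗ[ZMod p] V)).symm_apply_apply w₀
    have h4 := free_of_reg H hreg _ w₀ hw₀ h3
    have h5 : b⁻¹ * a = 1 := Subtype.ext h4
    exact (inv_mul_eq_one.mp h5).symm
  exact isCyclic_of_injective_ringHom f hf

/-- the order of a subgroup divides `p ^ k - 1` for `k` the dimension of an invariant subspace -/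
theorem card_dvd_of_invariant [Finite V] (H : Subgroup (V ≃ₗ[ZMod p] V))
    (hreg : ∀ v w : V, v ≠ 0 → w ≠ 0 → ∃! h : H, (h : V ≃ₗ[ZMod p] V) v = w)
    (A : Subgroup H) (W : Submodule (ZMod p) V)
    (hinv : ∀ a ∈ A, ∀ v ∈ W, ((a : H) : V ≃ₗ[ZMod p] V) v ∈ W) :
    Nat.card A ∣ p ^ Module.finrank (ZMod p) W - 1 := by
  classical
  have hne : NeZero p := ⟨(Fact.out : p.Prime).ne_zero⟩
  letI act : MulAction A {w : W // w ≠ 0} :=
    { smul := fun a w => ⟨⟨((a : H) : V ≃ₗ[ZMod p] V) w.1, hinv a a.2 _ w.1.2⟩, by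
        intro h
        apply w.2
        have h' : ((a : H) : V ≃ₗ[ZMod p] V) (w.1 : V) = 0 := congrArg Subtype.val h
        exact Subtype.ext ((LinearEquiv.map_eq_zero_iff _).mp h')⟩
      one_smul := fun w => by
        apply Subtype.ext
        apply Subtype.ext
        rfl
      mul_smul := fun a b w => by
        apply Subtype.ext
        apply Subtype.ext
        rfl }
  have hstab : ∀ w : {w : W // w ≠ 0}, MulAction.stabilizer A w = ⊥ := by
    intro w
    rw [eq_bot_iff]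
    intro a ha
    rw [Subgroup.mem_bot]
    rw [MulAction.mem_stabilizer_iff] at ha
    have h1 : ((a : H) : V ≃ₗ[ZMod p] V) ((w.1 : W) : V) = ((w.1 : W) : V) :=
      congrArg (fun x : {w : W // w ≠ 0} => ((x.1 : W) : V)) ha
    have hw : ((w.1 : W) : V) ≠ 0 := fun h => w.2 (Subtype.ext h)
    exact Subtype.ext (free_of_reg H hreg _ _ hw h1)
  have e := MulAction.selfEquivOrbitsQuotientProd hstab
  have hcard : Nat.card {w : W // w ≠ 0} =
      Nat.card (Quotient (MulAction.orbitRel A {w : W // w ≠ 0})) * Nat.card A := by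
    rw [Nat.card_congr e, Nat.card_prod]
  have hcard2 : Nat.card {w : W // w ≠ 0} = p ^ Module.finrank (ZMod p) W - 1 := by
    have : Fintype W := Fintype.ofFinite W
    rw [Nat.card_eq_fintype_card, Fintype.card_subtype_compl, Fintype.card_subtype_eq,
      ← Nat.card_eq_fintype_card, Module.natCard_eq_pow_finrank (K := ZMod p), Nat.card_zmod]
  rw [← hcard2, hcard]
  exact Dvd.intro_left _ rfl

/-- a group regular on the non-zero vectors has order `p ^ n - 1` -/
theorem card_of_reg [Finite V] [Nontrivial V] (H : Subgroup (V ≃ₗ[ZMod p] V))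
    (hreg : ∀ v w : V, v ≠ 0 → w ≠ 0 → ∃! h : H, (h : V ≃ₗ[ZMod p] V) v = w) :
    Nat.card H = p ^ Module.finrank (ZMod p) V - 1 := by
  classical
  obtain ⟨v, hv⟩ := exists_ne (0 : V)
  have hbij : Function.Bijective (fun h : H =>
      (⟨(h : V ≃ₗ[ZMod p] V) v, (LinearEquiv.map_ne_zero_iff _).mpr hv⟩ : {w : V // w ≠ 0})) := by
    constructor
    · intro h g hhg
      have h1 : (h : V ≃ₗ[ZMod p] V) v = (g : V ≃ₗ[ZMod p] V) v := congrArg Subtype.val hhg
      obtain ⟨k, -, hk⟩ :=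
        hreg v ((g : V ≃ₗ[ZMod p] V) v) hv ((LinearEquiv.map_ne_zero_iff _).mpr hv)
      rw [hk h h1, hk g rfl]
    · rintro ⟨w, hw⟩
      obtain ⟨h, hh, -⟩ := hreg v w hv hw
      exact ⟨h, Subtype.ext hh⟩
  rw [Nat.card_eq_of_bijective _ hbij]
  have : Fintype V := Fintype.ofFinite V
  rw [Nat.card_eq_fintype_card, Fintype.card_subtype_compl, Fintype.card_subtype_eq,
    ← Nat.card_eq_fintype_card, Module.natCard_eq_pow_finrank (K := ZMod p), Nat.card_zmod]

/-- a minimal invariant subspace of a normal subgroup which is proper has at most half the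
dimension -/
theorem two_mul_finrank_le [Finite V] (H : Subgroup (V ≃ₗ[ZMod p] V))
    (hreg : ∀ v w : V, v ≠ 0 → w ≠ 0 → ∃! h : H, (h : V ≃ₗ[ZMod p] V) v = w)
    (A : Subgroup H) (hAn : A.Normal)
    (W : Submodule (ZMod p) V) (hW : W ≠ ⊥) (hWt : W ≠ ⊤)
    (hinv : ∀ a ∈ A, ∀ v ∈ W, ((a : H) : V ≃ₗ[ZMod p] V) v ∈ W)
    (hmin : ∀ W' : Submodule (ZMod p) V, W' ≤ W →
      (∀ a ∈ A, ∀ v ∈ W', ((a : H) : V ≃ₗ[ZMod p] V) v ∈ W') → W' = ⊥ ∨ W' = W) :
    2 * Module.finrank (ZMod p) W ≤ Module.finrank (ZMod p) V := by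
  obtain ⟨w, hwW, hw⟩ := (Submodule.ne_bot_iff W).mp hW
  obtain ⟨v, hv⟩ : ∃ v, v ∉ W := by
    by_contra h
    push Not at h
    exact hWt (eq_top_iff.mpr fun x _ => h x)
  have hv0 : v ≠ 0 := fun h => hv (h ▸ W.zero_mem)
  obtain ⟨h, hh, -⟩ := hreg w v hw hv0
  let W' : Submodule (ZMod p) V := W.map ((h : V ≃ₗ[ZMod p] V) : V →ₗ[ZMod p] V)
  have hinv' : ∀ a ∈ A, ∀ u ∈ W', ((a : H) : V ≃ₗ[ZMod p] V) u ∈ W' := by
    intro a ha u hu
    obtain ⟨u0, hu0, rfl⟩ := Submodule.mem_map.mp hu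
    have hmem : h⁻¹ * a * h ∈ A := by simpa using hAn.conj_mem a ha h⁻¹
    refine Submodule.mem_map.mpr ⟨((h⁻¹ * a * h : H) : V ≃ₗ[ZMod p] V) u0, hinv _ hmem u0 hu0, ?_⟩
    change (h : V ≃ₗ[ZMod p] V) ((h : V ≃ₗ[ZMod p] V)⁻¹ ((a : V ≃ₗ[ZMod p] V)
      ((h : V ≃ₗ[ZMod p] V) u0))) = _
    exact (h : V ≃ₗ[ZMod p] V).apply_symm_apply _
  have hinf : W ⊓ W' = ⊥ := by
    rcases hmin (W ⊓ W') inf_le_left
      (fun a ha u hu => ⟨hinv a ha u hu.1, hinv' a ha u hu.2⟩) with h0 | h1
    · exact h0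
    · exfalso
      have hle : W ≤ W' := by
        rw [← h1]
        exact inf_le_right
      have hfr : Module.finrank (ZMod p) W' = Module.finrank (ZMod p) W :=
        LinearEquiv.finrank_map_eq _ _
      have : W = W' := Submodule.eq_of_le_of_finrank_eq hle hfr.symm
      apply hv
      rw [this, ← hh]
      exact Submodule.mem_map_of_mem hwW
  have h1 := Submodule.finrank_sup_add_finrank_inf_eq W W'
  have hfr : Module.finrank (ZMod p) W' = Module.finrank (ZMod p) W :=
    LinearEquiv.finrank_map_eq _ _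
  rw [hinf, finrank_bot, add_zero, hfr] at h1
  have h2 : Module.finrank (ZMod p) ↥(W ⊔ W') ≤ Module.finrank (ZMod p) V := Submodule.finrank_le _
  omega

end

/-- for a cyclic normal subgroup, the group order is bounded by the order of its centraliser times
its own order -/
theorem card_le_of_cyclic_normal (H : Type*) [Group H] [Finite H] (A : Subgroup H) [A.Normal]
    [IsCyclic A] : Nat.card H ≤ Nat.card (Subgroup.centralizer (A : Set H)) * Nat.card A := by
  let φ : H →* MulAut A := MulAut.conjNormal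
  have hker : φ.ker ≤ Subgroup.centralizer (A : Set H) := by
    intro h hh
    rw [MonoidHom.mem_ker] at hh
    rw [Subgroup.mem_centralizer_iff]
    intro a ha
    have h1 := congrArg (fun f : MulAut A => ((f ⟨a, ha⟩ : A) : H)) hh
    have h2 : h * a * h⁻¹ = a := by simpa [φ, MulAut.conjNormal_apply] using h1
    have h3 := congrArg (fun x => x * h) h2
    simpa using h3.symm
  have h1 : Nat.card φ.ker * Nat.card φ.range = Nat.card H := by
    rw [← Subgroup.index_ker]
    exact Subgroup.card_mul_index _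
  have hfinM : Finite (MulAut A) :=
    Finite.of_injective (fun f : MulAut A => (f : A → A)) DFunLike.coe_injective
  have h2 : Nat.card φ.range ≤ Nat.card (MulAut A) :=
    Nat.card_le_card_of_injective Subtype.val Subtype.val_injective
  have h3 : Nat.card (MulAut A) ≤ Nat.card A := by
    obtain ⟨g, hg⟩ := IsCyclic.exists_generator (α := A)
    apply Nat.card_le_card_of_injective (fun f : MulAut A => f g)
    intro f f' hff
    apply MulEquiv.ext
    intro x
    obtain ⟨k, rfl⟩ := Subgroup.mem_zpowers_iff.mp (hg x)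
    have hff' : f g = f' g := hff
    rw [map_zpow, map_zpow, hff']
  calc Nat.card H = Nat.card φ.ker * Nat.card φ.range := h1.symm
    _ ≤ Nat.card (Subgroup.centralizer (A : Set H)) * Nat.card A :=
      Nat.mul_le_mul (Subgroup.card_le_of_le hker) (h2.trans h3)

end Cfsg.Agent.Lib.helper15.LinReg
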