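import Mathlib
import Cfsg.Agent.Lib.helper42.AICDefs
import Cfsg.Agent.Lib.helper15.AIC_A2
import Cfsg.Agent.Lib.helper15.AIC_A4

/-! S2202 piece A9 (helper15): `|C(P)| = |P| * #(odd-order elements of C(P))`. -/

set_option autoImplicit false

open Cfsg.Agent.Lib.helper42.AIC

namespace Cfsg.Agent.Lib.helper15.AIC

/-- A9 -/
theorem card_cp {G : Type*} [Group G] [Finite G] (hA : AIC G) (hnc : NCyc G) (P : Sylow 2 G) :
    Nat.card (CP P) =
      Nat.card (P : Subgroup G) * Nat.card {x : G // Odd (orderOf x) ∧ x ∈ CP P} := by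
  classical
  have hPC : (P : Subgroup G) ≤ CP P := by
    intro a ha
    rw [Subgroup.mem_centralizer_iff]
    intro b hb
    exact sylow_comm hA hnc P b hb a ha
  let f : ↥(P : Subgroup G) × {x : G // Odd (orderOf x) ∧ x ∈ CP P} → ↥(CP P) :=
    fun ak => ⟨ak.1.1 * ak.2.1, mul_mem (hPC ak.1.2) ak.2.2.2⟩
  have hf : Function.Bijective f := by
    constructor
    · rintro ⟨a, k⟩ ⟨a', k'⟩ h
      have h1 : a.1 * k.1 = a'.1 * k'.1 := congrArg Subtype.val h
      -- `y = a'⁻¹ a = k' k⁻¹`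
      have h2 : a'.1⁻¹ * a.1 = k'.1 * k.1⁻¹ := by
        calc a'.1⁻¹ * a.1 = a'.1⁻¹ * (a.1 * k.1) * k.1⁻¹ := by group
          _ = a'.1⁻¹ * (a'.1 * k'.1) * k.1⁻¹ := by rw [h1]
          _ = k'.1 * k.1⁻¹ := by group
      have hyP : a'.1⁻¹ * a.1 ∈ (P : Subgroup G) := mul_mem (inv_mem a'.2) a.2
      obtain ⟨j, hj⟩ := P.isPGroup' ⟨a'.1⁻¹ * a.1, hyP⟩
      have hj' : (a'.1⁻¹ * a.1) ^ (2 ^ j) = 1 := by
        have := congrArg Subtype.val hj
        simpa using this
      have hcomm : Commute k'.1 k.1⁻¹ :=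
        cp_comm hA hnc P k'.1 k'.2.2 k.1⁻¹ (inv_mem k.2.2)
      have hodd : Odd (orderOf (a'.1⁻¹ * a.1)) := by
        rw [h2]
        have h3 := hcomm.orderOf_mul_dvd_lcm
        have h4 : Odd (Nat.lcm (orderOf k'.1) (orderOf k.1⁻¹)) := by
          rw [orderOf_inv]
          rw [Nat.odd_iff, ← Nat.two_dvd_ne_zero]
          intro h5
          have h6 := k'.2.1
          have h7 := k.2.1
          rw [Nat.odd_iff, ← Nat.two_dvd_ne_zero] at h6 h7
          rcases (Nat.Prime.dvd_mul Nat.prime_two).mp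
            (h5.trans (Nat.lcm_dvd_mul _ _)) with h8 | h8
          · exact h6 h8
          · exact h7 h8
        exact Odd.of_dvd_nat h4 h3
      have hy1 : a'.1⁻¹ * a.1 = 1 := by
        have h3 : orderOf (a'.1⁻¹ * a.1) ∣ 2 ^ j := orderOf_dvd_of_pow_eq_one hj'
        obtain ⟨i, hi, hi'⟩ := (Nat.dvd_prime_pow Nat.prime_two).mp h3
        rw [hi'] at hodd
        have hi0 : i = 0 := by
          by_contra hne
          have : Even (2 ^ i) := (Nat.even_pow' hne).mpr even_two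
          exact (Nat.not_odd_iff_even.mpr this) hodd
        rw [hi0, pow_zero] at hi'
        exact orderOf_eq_one_iff.mp hi'
      have ha : a = a' := by
        apply Subtype.ext
        have := eq_of_inv_mul_eq_one hy1
        exact this.symm
      subst ha
      have hk : k = k' := Subtype.ext (mul_left_cancel h1)
      rw [hk]
    · rintro ⟨x, hx⟩
      obtain ⟨a, m, hm, hn⟩ := Nat.exists_eq_two_pow_mul_odd (orderOf_pos x).ne'
      have hcop : Nat.Coprime (2 ^ a) m := (Nat.coprime_two_left.mpr hm).pow_left a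
      obtain ⟨u, v, huv⟩ := Nat.isCoprime_iff_coprime.mpr hcop
      -- `s = (x^m)^v`, `k = (x^(2^a))^u`
      have hs2 : ((x ^ m) ^ v) ^ (2 ^ a) = 1 := by
        rw [← zpow_natCast, ← zpow_mul, mul_comm, zpow_mul, zpow_natCast, ← pow_mul, mul_comm,
          ← hn, pow_orderOf_eq_one, one_zpow]
      have hsC : (x ^ m) ^ v ∈ CP P := zpow_mem (pow_mem hx m) v
      have hsP : (x ^ m) ^ v ∈ (P : Subgroup G) :=
        mem_of_np P (Subgroup.centralizer_le_normalizer _ hsC) a hs2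
      have hkm : ((x ^ (2 ^ a)) ^ u) ^ m = 1 := by
        rw [← zpow_natCast, ← zpow_mul, mul_comm, zpow_mul, zpow_natCast, ← pow_mul,
          ← hn, pow_orderOf_eq_one, one_zpow]
      have hkC : (x ^ (2 ^ a)) ^ u ∈ CP P := zpow_mem (pow_mem hx _) u
      have hkodd : Odd (orderOf ((x ^ (2 ^ a)) ^ u)) :=
        Odd.of_dvd_nat hm (orderOf_dvd_of_pow_eq_one hkm)
      refine ⟨(⟨(x ^ m) ^ v, hsP⟩, ⟨(x ^ (2 ^ a)) ^ u, hkodd, hkC⟩), ?_⟩
      apply Subtype.ext
      show (x ^ m) ^ v * (x ^ (2 ^ a)) ^ u = x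
      have h1 : (x ^ m) ^ v * (x ^ (2 ^ a)) ^ u = x ^ (u * ((2 ^ a : ℕ) : ℤ) + v * (m : ℤ)) := by
        rw [zpow_add, zpow_mul', zpow_mul', zpow_natCast, zpow_natCast]
        exact ((Commute.refl x).pow_pow _ _ |>.zpow_zpow _ _).eq
      rw [h1, huv, zpow_one]
  rw [← Nat.card_prod, Nat.card_congr (Equiv.ofBijective f hf)]

end Cfsg.Agent.Lib.helper15.AIC
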