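import Mathlib
import Cfsg.Prelude.Def_Involutions
import Cfsg.Agent.Lib.helper42.AICDefs
import Cfsg.Agent.Lib.helper26.CIT
import Cfsg.Agent.Lib.helper26.Involutions
import Cfsg.Agent.Lib.helper26.StronglyEmbedded
import Cfsg.Agent.Lib.helper4.AIC_SUB
import Cfsg.Agent.Lib.helper4.AIC_KS
import Cfsg.Agent.Lib.helper76.AIC_E3a
import Cfsg.Agent.Lib.helper76.AIC_E3b
import Cfsg.Agent.Lib.helper76.AIC_E3c

/-! S2202 piece E3d (helper15): the block case (Case A).  Assembly of E3a, E3b, E3c, INVM, HALL,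
KS, SUB1-3 over the block stabilizer `M` of `P`. -/

set_option autoImplicit false

open Cfsg.Agent.Lib.helper42.AIC

namespace Cfsg.Agent.Lib.helper15.AIC

/-- membership in a conjugate Sylow subgroup -/
theorem e3d_mem_smul {G : Type*} [Group G] (g : G) (P : Sylow 2 G) (y : G) :
    y ∈ ((g • P : Sylow 2 G) : Subgroup G) ↔ g⁻¹ * y * g ∈ (P : Subgroup G) := by
  rw [Sylow.coe_subgroup_smul, Subgroup.mem_pointwise_smul_iff_inv_smul_mem]
  simp [MulAut.smul_def]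

/-- E3d with INVM (`card_inv`) and HALL (`no_hall`) for subgroups of `G` as hypotheses -/
theorem caseA_of {G : Type*} [Group G] [Finite G] (hA : AIC G) (hnc : NCyc G) (hnn : NNor G)
    (hIH : ∀ M : Subgroup G, M ≠ ⊤ → AIC ↥M → NCyc ↥M → KEq ↥M) (hD : Dich G)
    (P Q : Sylow 2 G) (hPQ : P ≠ Q) (z : G) (hz1 : z ≠ 1) (hzo : Odd (orderOf z))
    (hzP : z ∈ CP P) (hzQ : z ∈ CP Q)
    (hINVM : ∀ M : Subgroup G, AIC ↥M → NCyc ↥M → NNor ↥M → KEq ↥M → ∀ P : Sylow 2 ↥M,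
      Nat.card {t : ↥M // orderOf t = 2} =
        (Nat.card (P : Subgroup ↥M) + 1) * (Nat.card (P : Subgroup ↥M) - 1))
    (hHALL : ∀ M : Subgroup G, AIC ↥M → NCyc ↥M → NNor ↥M → KEq ↥M →
      ∀ (Z : Subgroup ↥M) [Z.Normal], IsKsub Z → ∀ (P : Sylow 2 ↥M) (Y : Subgroup ↥M),
        Odd (Nat.card Y) →
        (Nat.card (P : Subgroup ↥M) + 1) * (Nat.card (P : Subgroup ↥M) - 1) * Nat.card ↥(Y ⊓ Z) ≤
          Nat.card Y → False) : KEq G := by
  classical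
  by_contra hnE
  -- Step 1: a Sylow `R` with `K_R ≠ K_P`
  have hR : ∃ R : Sylow 2 G, ¬ (∀ x : G, Odd (orderOf x) → (x ∈ CP R ↔ x ∈ CP P)) := by
    by_contra hall
    push Not at hall
    apply hnE
    intro P₁ Q₁ x hx hxP₁
    exact (hall Q₁ x hx).mpr ((hall P₁ x hx).mp hxP₁)
  obtain ⟨R, hRne⟩ := hR
  -- Step 2: the block stabilizer
  obtain ⟨M, hM⟩ := Cfsg.Agent.Lib.helper76.AIC.exists_blockStab P
  have hNM : NP P ≤ M := by
    intro g hg
    rw [hM g]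
    have h1 : g • P = P := Sylow.smul_eq_iff_mem_normalizer.2 hg
    rw [h1]
    intro x _
    exact Iff.rfl
  have hPM : (P : Subgroup G) ≤ M := Subgroup.le_normalizer.trans hNM
  obtain ⟨g₀, hg₀⟩ := MulAction.exists_smul_eq G P Q
  have hg₀M : g₀ ∈ M := by
    rw [hM g₀, hg₀]
    intro x hx
    exact ⟨hD Q P ⟨z, hz1, hzo, hzQ, hzP⟩ x hx, hD P Q ⟨z, hz1, hzo, hzP, hzQ⟩ x hx⟩
  obtain ⟨g₁, hg₁⟩ := MulAction.exists_smul_eq G P R
  have hg₁M : g₁ ∉ M := by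
    intro h
    rw [hM g₁, hg₁] at h
    exact hRne h
  have hMtop : M ≠ ⊤ := fun h => hg₁M (h ▸ Subgroup.mem_top g₁)
  have hQM : (Q : Subgroup G) ≤ M := by
    intro x hx
    rw [← hg₀, e3d_mem_smul] at hx
    have h2 := hPM hx
    have h3 : x = g₀ * (g₀⁻¹ * x * g₀) * g₀⁻¹ := by group
    rw [h3]
    exact mul_mem (mul_mem hg₀M h2) (inv_mem hg₀M)
  -- Step 3: properties of `M`
  have hAM : AIC ↥M := Cfsg.Agent.Lib.helper4.AIC.aic_sub hA M
  have hncM : NCyc ↥M := Cfsg.Agent.Lib.helper4.AIC.ncyc_sub hnc M P hPM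
  have hEM : KEq ↥M := hIH M hMtop hAM hncM
  have hnnM : NNor ↥M := by
    intro S hS
    have huniq := Sylow.unique_of_normal S hS
    have h1 : P.subtype hPM = Q.subtype hQM := Subsingleton.elim _ _
    apply hPQ
    have h2 : ((P.subtype hPM : Sylow 2 ↥M) : Subgroup ↥M) = (Q.subtype hQM : Sylow 2 ↥M) := by
      rw [h1]
    rw [Sylow.coe_subtype, Sylow.coe_subtype] at h2
    apply Sylow.ext
    apply le_antisymm
    · intro x hx
      have h3 : (⟨x, hPM hx⟩ : ↥M) ∈ (P : Subgroup G).subgroupOf M := by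
        rw [Subgroup.mem_subgroupOf]
        exact hx
      rw [h2, Subgroup.mem_subgroupOf] at h3
      exact h3
    · intro x hx
      have h3 : (⟨x, hQM hx⟩ : ↥M) ∈ (Q : Subgroup G).subgroupOf M := by
        rw [Subgroup.mem_subgroupOf]
        exact hx
      rw [← h2, Subgroup.mem_subgroupOf] at h3
      exact h3
  have hSE := Cfsg.Agent.Lib.helper76.AIC.block_se hA hnc P M hM hMtop
  -- Step 4: an involution outside `M`
  obtain ⟨t, htP, ht, -⟩ := Cfsg.Agent.Lib.helper26.CIT.exists_central_involution P (hnc P)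
  have huo : orderOf (g₁ * t * g₁⁻¹) = 2 := by
    rw [Cfsg.Agent.Lib.helper26.orderOf_conj_eq]
    exact ht
  have huM : g₁ * t * g₁⁻¹ ∉ M := fun h =>
    hg₁M (Cfsg.Agent.Lib.helper26.SE.mem_of_conj_mem' hSE ht (hPM htP) h)
  -- Step 5: counting
  have h3c := Cfsg.Agent.Lib.helper76.AIC.block_ineq hA hnc hD P M hM hSE (g₁ * t * g₁⁻¹) huo huM
  have hINV := hINVM M hAM hncM hnnM hEM (P.subtype hPM)
  obtain ⟨ZM, hZMn, hZM⟩ := Cfsg.Agent.Lib.helper4.AIC.exists_ksub hAM hncM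
  have hodd : Odd (Nat.card ↥(M ⊓ M.map (MulAut.conj (g₁ * t * g₁⁻¹)).toMonoidHom)) :=
    hSE.2.2 _ huM
  have hle : M ⊓ M.map (MulAut.conj (g₁ * t * g₁⁻¹)).toMonoidHom ≤ M := inf_le_left
  have hcardY : Nat.card ↥((M ⊓ M.map (MulAut.conj (g₁ * t * g₁⁻¹)).toMonoidHom).subgroupOf M) =
      Nat.card ↥(M ⊓ M.map (MulAut.conj (g₁ * t * g₁⁻¹)).toMonoidHom) :=
    Nat.card_congr (Subgroup.subgroupOfEquivOfLe hle).toEquiv
  have hinvcard : Nat.card {t : G // orderOf t = 2 ∧ t ∈ M} = Nat.card {t : ↥M // orderOf t = 2} := by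
    apply Nat.card_congr
    refine ⟨fun t => ⟨⟨t.1, t.2.2⟩, by rw [← Subgroup.orderOf_coe]; exact t.2.1⟩,
      fun t => ⟨t.1.1, by rw [Subgroup.orderOf_coe]; exact t.2, t.1.2⟩, ?_, ?_⟩
    · intro t
      rfl
    · intro t
      rfl
  have hYZ : Nat.card ↥((M ⊓ M.map (MulAut.conj (g₁ * t * g₁⁻¹)).toMonoidHom).subgroupOf M ⊓ ZM) ≤
      Nat.card ↥((M ⊓ M.map (MulAut.conj (g₁ * t * g₁⁻¹)).toMonoidHom) ⊓ CP P) := by
    apply Nat.card_le_card_of_injective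
      (fun y : ↥((M ⊓ M.map (MulAut.conj (g₁ * t * g₁⁻¹)).toMonoidHom).subgroupOf M ⊓ ZM) =>
        (⟨((y.1 : ↥M) : G), by
          refine ⟨Subgroup.mem_subgroupOf.mp y.2.1, ?_⟩
          have h1 := ((hZM y.1).mp y.2.2).2 (P.subtype hPM)
          exact (Cfsg.Agent.Lib.helper4.AIC.cp_sub M P hPM y.1).mp h1⟩ :
          ↥((M ⊓ M.map (MulAut.conj (g₁ * t * g₁⁻¹)).toMonoidHom) ⊓ CP P)))
    intro y y' h
    have h0 := congrArg Subtype.val h
    have h1 : ((y.1 : ↥M) : G) = ((y'.1 : ↥M) : G) := h0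
    exact Subtype.ext (Subtype.ext h1)
  haveI := hZMn
  apply hHALL M hAM hncM hnnM hEM ZM hZM (P.subtype hPM)
    ((M ⊓ M.map (MulAut.conj (g₁ * t * g₁⁻¹)).toMonoidHom).subgroupOf M)
  · rw [hcardY]
    exact hodd
  · rw [hcardY, ← hINV, ← hinvcard]
    exact (Nat.mul_le_mul_left _ hYZ).trans h3c

end Cfsg.Agent.Lib.helper15.AIC
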