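import Mathlib
import Cfsg.Prelude.Def_Classical
import Cfsg.Agent.Lib.helper40.QfcN1P

/-! S5977/S5978 block [C-I] (architect helper20), piece CNTP (`cnt_plus`): the number of vectors of
norm 1 of the plus form, for every `d ≥ 1` (the argument of helper40's `qfc_count_plus`, which does
not use `2 ≤ d`, with helper40's `h40_hyperplane_card`). -/

set_option autoImplicit false

namespace Cfsg.Agent.Lib.helper20.BG

/-- CNTP (M): the number of vectors of norm 1 of the plus form. -/
theorem cnt_plus {F : Type*} [Field F] [Fintype F] {q : ℕ} (hq : Fintype.card F = q) (d : ℕ)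
    (hd : 1 ≤ d) :
    Nat.card {v : Fin d ⊕ Fin d → F // Cfsg.quadFormPlus d F v = 1} = q ^ (d - 1) * (q ^ d - 1) := by
  classical
  subst hq
  have e1 : {v : Fin d ⊕ Fin d → F // Cfsg.quadFormPlus d F v = 1} ≃
      {p : (Fin d → F) × (Fin d → F) // ∑ i, p.1 i * p.2 i = 1} :=
    (Equiv.sumArrowEquivProdArrow (Fin d) (Fin d) F).subtypeEquiv (fun v => Iff.rfl)
  have e2 := Equiv.subtypeProdEquivSigmaSubtype
    (fun (x y : Fin d → F) => ∑ i, x i * y i = 1)
  rw [Nat.card_congr e1, Nat.card_congr e2, Nat.card_sigma]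
  have h0 : Nat.card {y : Fin d → F // ∑ i, (0 : Fin d → F) i * y i = 1} = 0 := by
    rw [Nat.card_eq_zero]
    left
    constructor
    rintro ⟨y, hy⟩
    simp at hy
  rw [← Finset.sum_erase Finset.univ
    (f := fun x : Fin d → F => Nat.card {y : Fin d → F // ∑ i, x i * y i = 1}) (a := 0) h0]
  rw [Finset.sum_congr rfl (fun x hx =>
    Cfsg.Agent.Lib.helper2.h40_hyperplane_card d x (Finset.ne_of_mem_erase hx) 1)]
  rw [Finset.sum_const, smul_eq_mul, Finset.card_erase_of_mem (Finset.mem_univ _),
    Finset.card_univ, Fintype.card_fun, Fintype.card_fin, mul_comm]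

end Cfsg.Agent.Lib.helper20.BG
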