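/-
S4504 piece D (`ker_central`): a normal subgroup `L` not containing `x` satisfies
`[x, L] ≤ ker ψ` when `2ψ(1)+1 ≤ p`.  Every irreducible constituent `θ` of `ψ` restricted
to `S = L⟨x⟩` either has `2θ(1)+1 < p` (then `bf_irr` applies) or `x` is a scalar on it
(`single_orbit2` with `H = ⊥`).
-/
import Mathlib
import Cfsg.Agent.Lib.helper2.BGDefs
import Cfsg.Agent.Lib.helper20.D1EFinal
import Cfsg.Agent.Lib.helper4.CharDecomp
import Cfsg.Agent.Lib.helper81.Kernel
import Cfsg.Agent.Lib.helper2.BGA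
import Cfsg.Agent.Lib.helper2.BFMain

set_option autoImplicit false

open Cfsg Cfsg.Agent.Lib.helper20.D1E Cfsg.Agent.Lib.helper2.BF
open scoped ComplexConjugate Pointwise

namespace Cfsg.Agent.Lib.helper2.BG

universe u

/-- If `y` acts as a scalar on the irreducible character `θ` (`‖θ y‖ = ‖θ 1‖`), every
commutator `[y, k]` lies in the kernel of `θ`. -/
theorem helper15_scalar_comm {K : Type*} [Group K] [Finite K] (θ : IrrCharacter K) (y k : K)
    (hn : ‖(θ : K → ℂ) y‖ = ‖(θ : K → ℂ) 1‖) :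
    (θ : K → ℂ) (y * (k * y⁻¹ * k⁻¹)) = (θ : K → ℂ) 1 := by
  obtain ⟨n, ρ, hirr, hρ⟩ := θ.2
  have h1 : ρ.character 1 = (Module.finrank ℂ (Fin n → ℂ) : ℂ) := Representation.char_one ρ
  have hnorm : ‖ρ.character y‖ = (Module.finrank ℂ (Fin n → ℂ) : ℝ) := by
    rw [hρ, hn, ← hρ, h1]
    simp
  obtain ⟨ω, hω⟩ := (Cfsg.Agent.Lib.helper4.norm_char_eq_iff ρ y).mp hnorm
  have hmul : ∀ c : K, (θ : K → ℂ) (y * c) = ω * (θ : K → ℂ) c := by
    intro c
    rw [← hρ]
    unfold Representation.character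
    rw [map_mul, hω, smul_mul_assoc, map_smul, smul_eq_mul]
    rfl
  have hconj : (θ : K → ℂ) (k * y⁻¹ * k⁻¹) = (θ : K → ℂ) y⁻¹ := by
    rw [← hρ]
    exact Representation.char_conj ρ y⁻¹ k
  have h2 := hmul y⁻¹
  rw [mul_inv_cancel] at h2
  rw [hmul, hconj, ← h2]

/-- If the spectrum of `y` on `θ` is a single eigenvalue, then `‖θ y‖ = ‖θ 1‖`. -/
theorem helper15_orbit_bot_norm {K : Type*} [Group K] [Fintype K] (p : ℕ) [Fact p.Prime]
    (y : K) (hyp : y ^ p = 1) (θ : K → ℂ) (a₀ : (ZMod p)ˣ) (m : ℕ) (h1 : θ 1 = (m : ℂ))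
    (hmu : OrbitMu p y (⊥ : Subgroup (ZMod p)ˣ) θ a₀ m) : ‖θ y‖ = ‖θ 1‖ := by
  have hexp := mu_expand p y hyp θ 1
  rw [pow_one] at hexp
  have hsum : ∑ b : ZMod p, mu p y θ b * zeta p ^ (b.val * 1)
      = (m : ℂ) * zeta p ^ ((a₀ : ZMod p).val * 1) := by
    rw [Finset.sum_eq_single (a₀ : ZMod p)]
    · rw [hmu (a₀ : ZMod p), Set.indicator_of_mem]
      exact ⟨1, Subgroup.mem_bot.2 rfl, by simp⟩
    · intro b _ hb
      rw [hmu b, Set.indicator_of_notMem, zero_mul]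
      rintro ⟨h, hh, hbh⟩
      apply hb
      rw [hbh, Subgroup.mem_bot.1 hh]
      simp
    · intro h
      exact absurd (Finset.mem_univ _) h
  have hz : ‖zeta p‖ = 1 :=
    Complex.norm_eq_one_of_pow_eq_one (Cfsg.Agent.Lib.helper83.D1E.zeta_pow_p p)
      (Fact.out : p.Prime).ne_zero
  rw [hexp, hsum, h1, norm_mul, norm_pow, hz, one_pow, mul_one]

/-- In `L⟨x⟩` (`L` normal, `x` of order `p` outside `L`), no element conjugates `x` to a
different power of `x`. -/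
theorem helper15_conj_pow_unit {G : Type*} [Group G] (p : ℕ) [Fact p.Prime] (x : G)
    (hxp : x ^ p = 1) (L : Subgroup G) [hL : L.Normal] (hxL : x ∉ L) (n : G)
    (hn : n ∈ L ⊔ Subgroup.zpowers x) (r : (ZMod p)ˣ)
    (h : n * x * n⁻¹ = x ^ ((r : ZMod p).val)) : r = 1 := by
  have hp : p.Prime := Fact.out
  have hmul : (↑(L ⊔ Subgroup.zpowers x) : Set G) = (L : Set G) * (Subgroup.zpowers x : Set G) :=
    Subgroup.normal_mul L (Subgroup.zpowers x)
  have hn' : n ∈ (L : Set G) * (Subgroup.zpowers x : Set G) := by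
    rw [← hmul]
    exact hn
  obtain ⟨l, hl, c, hc, hlc⟩ := Set.mem_mul.1 hn'
  obtain ⟨j, hj⟩ := Subgroup.mem_zpowers_iff.1 hc
  have hπl : (QuotientGroup.mk' L) l = 1 := (QuotientGroup.eq_one_iff l).2 hl
  have hπn : (QuotientGroup.mk' L) n = ((QuotientGroup.mk' L) x) ^ j := by
    rw [← hlc, map_mul, hπl, one_mul, ← hj, map_zpow]
  have h1 : (QuotientGroup.mk' L) (n * x * n⁻¹) = (QuotientGroup.mk' L) x := by
    rw [map_mul, map_mul, map_inv, hπn]
    have hc' : ((QuotientGroup.mk' L) x) ^ j * (QuotientGroup.mk' L) x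
        = (QuotientGroup.mk' L) x * ((QuotientGroup.mk' L) x) ^ j :=
      (Commute.zpow_left (Commute.refl _) j).eq
    rw [hc', mul_inv_cancel_right]
  have h2 : ((QuotientGroup.mk' L) x) ^ ((r : ZMod p).val) = (QuotientGroup.mk' L) x := by
    rw [← map_pow, ← h, h1]
  have hπx1 : (QuotientGroup.mk' L) x ≠ 1 := fun h' => hxL ((QuotientGroup.eq_one_iff x).1 h')
  have ho : orderOf ((QuotientGroup.mk' L) x) = p := by
    apply orderOf_eq_prime
    · rw [← map_pow, hxp, map_one]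
    · exact hπx1
  have h3 : ((QuotientGroup.mk' L) x) ^ ((r : ZMod p).val) = ((QuotientGroup.mk' L) x) ^ 1 := by
    rw [h2, pow_one]
  rw [pow_eq_pow_iff_modEq, ho] at h3
  have h4 : (((r : ZMod p).val : ℕ) : ZMod p) = ((1 : ℕ) : ZMod p) :=
    (ZMod.natCast_eq_natCast_iff _ _ _).2 h3
  rw [ZMod.natCast_zmod_val, Nat.cast_one] at h4
  exact Units.ext h4

variable {G : Type*} [Group G] [Fintype G]

/-- D. -/
theorem ker_central (p : ℕ) [Fact p.Prime] (P : Sylow p G) (hP : Nat.card P = p)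
    (x : G) (hx : x ∈ (P : Subgroup G)) (hx1 : x ≠ 1)
    (ψ : IrrCharacter G) (hdeg : 2 * charDegree (ψ : G → ℂ) + 1 ≤ p)
    (hns : ‖(ψ : G → ℂ) x‖ ≠ ‖(ψ : G → ℂ) 1‖)
    (L : Subgroup G) (hL : L.Normal) (hxL : x ∉ L) :
    ∀ k ∈ L, (ψ : G → ℂ) (x * k * x⁻¹ * k⁻¹) = (ψ : G → ℂ) 1 := by
  classical
  have hLi : L.Normal := hL
  have hp : p.Prime := Fact.out
  obtain ⟨hxp, hxu⟩ := basic_x p P hP x hx hx1
  have hxo : orderOf x = p := orderOf_eq_prime hxp hx1
  have hsq : ¬ p ^ 2 ∣ Nat.card G := by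
    intro hdvd
    have h1 : Nat.card (P : Subgroup G) = p ^ (Nat.card G).factorization p :=
      Sylow.card_eq_multiplicity P
    rw [hP] at h1
    have h2 : 2 ≤ (Nat.card G).factorization p :=
      (hp.pow_dvd_iff_le_factorization Nat.card_pos.ne').1 hdvd
    have h3 : p ^ 2 ≤ p ^ (Nat.card G).factorization p := Nat.pow_le_pow_right hp.pos h2
    rw [← h1] at h3
    have h4 : p < p ^ 2 := by
      have := hp.one_lt
      nlinarith
    omega
  have hLreg := helper79_preg_of_normal p P hP x hx L hxL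
  let S : Subgroup G := L ⊔ Subgroup.zpowers x
  have hLS : L ≤ S := le_sup_left
  have hxS : x ∈ S := (le_sup_right : Subgroup.zpowers x ≤ S) (Subgroup.mem_zpowers x)
  let _ : Fintype ↥S := Fintype.ofFinite _
  have hψ : IsCharacter G (ψ : G → ℂ) := Cfsg.Agent.Lib.helper4.isCharacter_of_isIrrCharacter ψ.2
  have hψS : IsCharacter ↥S (fun s : ↥S => (ψ : G → ℂ) s) :=
    Cfsg.Agent.Lib.helper4.isCharacter_restrict S hψ
  let xS : ↥S := ⟨x, hxS⟩
  have hxSo : orderOf xS = p := by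
    rw [← hxo]
    exact (Subgroup.orderOf_coe xS).symm
  have hxSp : xS ^ p = 1 := by
    rw [← hxSo]
    exact pow_orderOf_eq_one xS
  have hxS1 : xS ≠ 1 := fun h => hx1 (congrArg Subtype.val h)
  have hpS : p ∣ Nat.card ↥S := by
    rw [← hxSo]
    exact orderOf_dvd_natCard xS
  have hsqS : ¬ p ^ 2 ∣ Nat.card ↥S :=
    fun h => hsq (h.trans (Subgroup.card_subgroup_dvd_card S))
  -- a Sylow `p`-subgroup of `S` containing `x`
  have hpgS : IsPGroup p (Subgroup.zpowers xS) := by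
    apply IsPGroup.of_card (n := 1)
    rw [Nat.card_zpowers, hxSo, pow_one]
  obtain ⟨Q, hQ⟩ := hpgS.exists_le_sylow
  have hxQ : xS ∈ (Q : Subgroup ↥S) := hQ (Subgroup.mem_zpowers xS)
  have hQcard : Nat.card Q = p := by
    have h1 : Nat.card (Q : Subgroup ↥S) = p ^ (Nat.card ↥S).factorization p :=
      Sylow.card_eq_multiplicity Q
    have h2 : (Nat.card ↥S).factorization p = 1 := by
      have h3 : 1 ≤ (Nat.card ↥S).factorization p :=
        (hp.pow_dvd_iff_le_factorization Nat.card_pos.ne').1 (by rw [pow_one]; exact hpS)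
      have h4 : ¬ 2 ≤ (Nat.card ↥S).factorization p :=
        fun h => hsqS ((hp.pow_dvd_iff_le_factorization Nat.card_pos.ne').2 h)
      omega
    rw [h2, pow_one] at h1
    exact h1
  have hHbot : ∀ r : (ZMod p)ˣ, r ∈ (⊥ : Subgroup (ZMod p)ˣ) ↔
      ∃ n : ↥S, n * xS * n⁻¹ = xS ^ ((r : ZMod p).val) := by
    intro r
    constructor
    · intro hr
      rw [Subgroup.mem_bot] at hr
      subst hr
      refine ⟨1, ?_⟩
      have hp1 : Fact (1 < p) := ⟨hp.one_lt⟩
      rw [one_mul, inv_one, mul_one, Units.val_one, ZMod.val_one, pow_one]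
    · rintro ⟨n, hn⟩
      rw [Subgroup.mem_bot]
      have hn' : (n : G) * x * (n : G)⁻¹ = x ^ ((r : ZMod p).val) := by
        have h1 := congrArg Subtype.val hn
        exact h1
      exact helper15_conj_pow_unit p x hxp L hxL (n : G) n.2 r hn'
  intro k hkL
  have hcL : x * k * x⁻¹ * k⁻¹ ∈ L := L.mul_mem (hL.conj_mem _ hkL x) (L.inv_mem hkL)
  let kS : ↥S := ⟨k, hLS hkL⟩
  let cS : ↥S := ⟨x * k * x⁻¹ * k⁻¹, hLS hcL⟩
  have hcS : cS = xS * (kS * xS⁻¹ * kS⁻¹) := by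
    apply Subtype.ext
    show x * k * x⁻¹ * k⁻¹ = x * (k * x⁻¹ * k⁻¹)
    group
  have hcreg : ¬ p ∣ orderOf cS := by
    have h1 : orderOf cS = orderOf (x * k * x⁻¹ * k⁻¹) := (Subgroup.orderOf_coe cS).symm
    rw [h1]
    exact hLreg _ hcL
  have hall : ∀ θ : IrrCharacter ↥S,
      classInner (fun s : ↥S => (ψ : G → ℂ) s) (θ : ↥S → ℂ) ≠ 0 →
      (θ : ↥S → ℂ) cS = (θ : ↥S → ℂ) 1 := by
    intro θ hθ
    have hdeg' : charDegree (θ : ↥S → ℂ) ≤ charDegree (ψ : G → ℂ) := by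
      have h1 := sum_deg_le (fun s : ↥S => (ψ : G → ℂ) s) hψS {θ}
        (by
          intro ξ' hξ'
          rw [Finset.mem_singleton] at hξ'
          rw [hξ']
          exact hθ)
      rw [Finset.sum_singleton] at h1
      exact h1
    by_cases hlt : 2 * charDegree (θ : ↥S → ℂ) + 1 < p
    · obtain ⟨N, hNn, ⟨z, hzN, hzo⟩, hN⟩ :=
        bf_irr (Nat.card ↥S) ↥S rfl p hp hpS hsqS (θ : ↥S → ℂ) θ.2 hlt
      have hxSN : xS ∈ N := helper79_mem_of_good p hsq S N z hzN hzo xS hxSo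
      have hcSN : cS ∈ N := by
        rw [hcS]
        exact N.mul_mem hxSN (hNn.conj_mem _ (N.inv_mem hxSN) kS)
      exact hN cS hcSN hcreg
    · have hdegθ : 2 * charDegree (θ : ↥S → ℂ) + 1 ≤ p := by omega
      rw [hcS]
      apply helper15_scalar_comm θ xS kS
      by_cases hxk : (θ : ↥S → ℂ) xS = (θ : ↥S → ℂ) 1
      · rw [hxk]
      · obtain ⟨a₀, m, hm, hdm, hmu⟩ :=
          single_orbit2 p Q hQcard xS hxQ hxS1 ⊥ hHbot θ hdegθ hxk
        have hθc : IsCharacter ↥S (θ : ↥S → ℂ) :=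
          Cfsg.Agent.Lib.helper4.isCharacter_of_isIrrCharacter θ.2
        obtain ⟨n, hn⟩ := Cfsg.Agent.Lib.helper4.exists_nat_degree hθc
        have hnd : charDegree (θ : ↥S → ℂ) = n := by
          unfold charDegree
          rw [hn]
          simp
        have hnm : n = m := by
          rw [← hnd, hdm, Subgroup.card_bot, one_mul]
        rw [hnm] at hn
        exact helper15_orbit_bot_norm p xS hxSp (θ : ↥S → ℂ) a₀ m hn hmu
  exact (Cfsg.Agent.Lib.helper77.char_eq_degree_iff_constituents hψS cS).2 hall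

end Cfsg.Agent.Lib.helper2.BG
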