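import Mathlib
import Cfsg.Agent.Lib.helper21.BRDefs
import Cfsg.Agent.Lib.helper83.CharBasic2
import Cfsg.Agent.Lib.helper79.BR_CH3
import Cfsg.Agent.Lib.helper78.BR_GT8

/-! S0999 piece M6 (helper15): column orthogonality on `P^#` forces the characters outside
`X ∪ Y` to vanish on `P^#` (hence to have degree divisible by `p`) and
`∑_{x ∈ P} |θ(x)|² = p f₀` for the exceptional characters. -/

set_option autoImplicit false

namespace Cfsg.Agent.Lib.helper21.BR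

open Cfsg Cfsg.Agent.Lib.helper21

universe u

theorem h15_sum_ne_one_const {H : Type*} [Group H] [Fintype H] [DecidableEq H] (c : ℝ) :
    ∑ x : H, (if x = 1 then 0 else c) = ((Fintype.card H : ℝ) - 1) * c := by
  have h1 : ∀ x : H, (if x = 1 then (0 : ℝ) else c) = c - (if x = 1 then c else 0) := by
    intro x
    split_ifs <;> simp
  rw [Finset.sum_congr rfl (fun x _ => h1 x), Finset.sum_sub_distrib, Finset.sum_const,
    Finset.sum_ite_eq']
  simp only [Finset.mem_univ, if_true, Finset.card_univ, nsmul_eq_mul]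
  ring

theorem h15_sum_ne_one {H : Type*} [Group H] [Fintype H] [DecidableEq H] (F : H → ℝ) :
    ∑ x : H, (if x = 1 then 0 else F x) = ∑ x : H, F x - F 1 := by
  have h1 : ∀ x : H, (if x = 1 then (0 : ℝ) else F x) = F x - (if x = 1 then F x else 0) := by
    intro x
    split_ifs <;> simp
  rw [Finset.sum_congr rfl (fun x _ => h1 x), Finset.sum_sub_distrib, Finset.sum_ite_eq']
  simp only [Finset.mem_univ, if_true]

/-- The sum of a character over a finite subgroup is the order of the subgroup times a natural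
number. -/
theorem h15_sum_subgroup_char {G : Type u} [Group G] {χ : G → ℂ} (hχ : IsCharacter G χ)
    (P : Subgroup G) [Fintype P] :
    ∃ m : ℕ, ∑ u : P, χ (u : G) = (Nat.card P : ℂ) * m := by
  obtain ⟨n, ρ, rfl⟩ := hχ
  let ρ' : Representation ℂ P (Fin n → ℂ) := ρ.comp P.subtype
  have hc : (Nat.card P : ℂ) ≠ 0 := by
    have : Nat.card P ≠ 0 := Nat.card_pos.ne'
    exact_mod_cast this
  have : Invertible (Nat.card P : ℂ) := invertibleOfNonzero hc
  have h := Representation.card_inv_mul_sum_char_eq_finrank ρ'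
  refine ⟨Module.finrank ℂ (Representation.invariants ρ'), ?_⟩
  have h2 : ∑ u : P, ρ.character (u : G) = ∑ u : P, ρ'.character u := rfl
  rw [h2, ← h, ← mul_assoc, mul_inv_cancel₀ hc, one_mul]

variable {G : Type u} [Group G] [Fintype G]
variable {p : ℕ} [Fact p.Prime] {P : Sylow p G}
variable {e t n v : ℕ} {X Y : Finset (IrrCharacter G)} {εX : IrrCharacter G → ℤ} {ε : ℤ}
  {f₀ : ℕ}

/-- M6 -/
theorem others_vanish [Fintype ↥(P : Subgroup G)] (h : BRSelf p P e t X Y εX ε f₀) :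
    (∀ ψ : IrrCharacter G, ψ ∉ X → ψ ∉ Y → ∀ x ∈ (P : Subgroup G), x ≠ 1 →
        (ψ : G → ℂ) x = 0) ∧
      (∀ ψ : IrrCharacter G, ψ ∉ X → ψ ∉ Y → p ∣ charDegree (ψ : G → ℂ)) ∧
      (∀ θ ∈ Y, ∑ x : (P : Subgroup G),
        (θ : G → ℂ) x * (starRingEnd ℂ) ((θ : G → ℂ) x) = (p : ℂ) * (f₀ : ℂ)) := by
  classical
  have : Fintype (IrrCharacter G) := Fintype.ofFinite _
  have hp : p.Prime := Fact.out
  have hcardP : Fintype.card ↥(P : Subgroup G) = p := by
    rw [← Nat.card_eq_fintype_card]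
    exact h.cardP
  have hpet : p = e * t + 1 := by
    have h1 := hp.two_le
    have h2 := h.et
    omega
  have hep : e ≤ p := by
    have h1 : e ≤ e * t := Nat.le_mul_of_pos_right e (by have := h.t_ge; omega)
    omega
  have hpR : (p : ℝ) = (e : ℝ) * (t : ℝ) + 1 := by exact_mod_cast hpet
  have hfR : (p : ℝ) * (f₀ : ℝ) - (f₀ : ℝ) ^ 2 = (e : ℝ) * ((p : ℝ) - (e : ℝ)) := by
    rcases h.fcases with ⟨-, hf⟩ | ⟨-, hf⟩
    · rw [hf]
      ring
    · have h1 : (f₀ : ℝ) = (p : ℝ) - (e : ℝ) := by rw [hf, Nat.cast_sub hep]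
      rw [h1]
      ring
  have hmc : ∀ z : ℂ, z * (starRingEnd ℂ) z = ((‖z‖ ^ 2 : ℝ) : ℂ) := by
    intro z
    rw [Complex.mul_conj']
    push_cast
    rfl
  -- the sum over `P^#` of the squared norms
  let a : IrrCharacter G → ℝ := fun ψ =>
    ∑ x : (P : Subgroup G), (if x = 1 then 0 else ‖(ψ : G → ℂ) x‖ ^ 2)
  have ha0 : ∀ ψ, 0 ≤ a ψ := by
    intro ψ
    apply Finset.sum_nonneg
    intro x _
    split_ifs
    · exact le_rfl
    · positivity
  -- column orthogonality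
  have hcol : ∀ x : (P : Subgroup G), x ≠ 1 →
      ∑ ψ : IrrCharacter G, ‖(ψ : G → ℂ) x‖ ^ 2 = (p : ℝ) := by
    intro x hx
    have hx1 : (x : G) ≠ 1 := fun h0 => hx (Subtype.ext h0)
    have h1 := Cfsg.Agent.Lib.helper83.second_orthogonality_of_isConj (IsConj.refl (x : G))
    rw [centralizer_singleton_eq p (P : Subgroup G) h.cardP x x.2 hx1, h.cardC] at h1
    rw [Finset.sum_congr rfl (fun (ψ : IrrCharacter G) _ => hmc ((ψ : G → ℂ) x)),
      ← Complex.ofReal_sum] at h1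
    exact_mod_cast h1
  have htotal : ∑ ψ : IrrCharacter G, a ψ = ((p : ℝ) - 1) * (p : ℝ) := by
    show ∑ ψ : IrrCharacter G, ∑ x : (P : Subgroup G),
      (if x = 1 then 0 else ‖(ψ : G → ℂ) x‖ ^ 2) = _
    rw [Finset.sum_comm]
    have h1 : ∀ x : (P : Subgroup G), ∑ ψ : IrrCharacter G,
        (if x = 1 then (0 : ℝ) else ‖(ψ : G → ℂ) x‖ ^ 2) = if x = 1 then 0 else (p : ℝ) := by
      intro x
      split_ifs with hx
      · simp
      · exact hcol x hx
    rw [Finset.sum_congr rfl (fun x _ => h1 x), h15_sum_ne_one_const, hcardP]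
  -- the members of `X`
  have hX : ∀ χ ∈ X, a χ = (p : ℝ) - 1 := by
    intro χ hχ
    have h1 : ∀ x : (P : Subgroup G), (if x = 1 then (0 : ℝ) else ‖(χ : G → ℂ) x‖ ^ 2) =
        if x = 1 then 0 else 1 := by
      intro x
      split_ifs with hx
      · rfl
      · have hnd : ¬ p ∣ orderOf (1 : G) := by
          rw [orderOf_one]
          exact hp.one_lt.not_ge ∘ Nat.le_of_dvd one_pos
        have h2 := h.data.valX χ hχ x x.2 (fun h0 => hx (Subtype.ext h0)) 1 (one_mem _) hnd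
        rw [mul_one] at h2
        rw [h2]
        rcases h.data.sgnX χ hχ with h3 | h3 <;> rw [h3] <;> simp
    show ∑ x : (P : Subgroup G), (if x = 1 then (0 : ℝ) else ‖(χ : G → ℂ) x‖ ^ 2) = _
    rw [Finset.sum_congr rfl (fun x _ => h1 x), h15_sum_ne_one_const, hcardP, mul_one]
  -- the members of `Y`
  have hY : ∀ θ ∈ Y, a θ = ∑ x : (P : Subgroup G), ‖(θ : G → ℂ) x‖ ^ 2 - (f₀ : ℝ) ^ 2 := by
    intro θ hθ
    show ∑ x : (P : Subgroup G), (if x = 1 then (0 : ℝ) else ‖(θ : G → ℂ) x‖ ^ 2) = _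
    rw [h15_sum_ne_one (fun x : (P : Subgroup G) => ‖(θ : G → ℂ) x‖ ^ 2)]
    have h1 : (θ : G → ℂ) ((1 : (P : Subgroup G)) : G) = (f₀ : ℂ) := by
      rw [OneMemClass.coe_one, Cfsg.Agent.Lib.helper83.irr_one_eq_charDegree, h.degY θ hθ]
    simp only [h1, Complex.norm_natCast]
  have hYge : ∀ θ ∈ Y, (e : ℝ) * ((p : ℝ) - (e : ℝ)) ≤ a θ := by
    intro θ hθ
    rw [hY θ hθ, ← hfR]
    have h1 := sum_norm_sq_ge p hp (P : Subgroup G) h.cardP θ
    rw [h.degY θ hθ] at h1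
    linarith
  have hsplit : ∑ ψ : IrrCharacter G, a ψ =
      ∑ ψ ∈ X, a ψ + ∑ ψ ∈ Y, a ψ + ∑ ψ ∈ (X ∪ Y)ᶜ, a ψ := by
    rw [← Finset.sum_union h.data.disj, Finset.sum_add_sum_compl]
  have hXs : ∑ ψ ∈ X, a ψ = (e : ℝ) * ((p : ℝ) - 1) := by
    rw [Finset.sum_congr rfl hX, Finset.sum_const, h.data.cardX, nsmul_eq_mul]
  have hcardY : Y.card = t := by
    have h1 := h.data.cardY
    have h2 := h.et
    have h3 := h.e_ge
    have h4 : Y.card * e = t * e := by rw [h1, ← h2, mul_comm]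
    exact Nat.eq_of_mul_eq_mul_right (by omega) h4
  have hYs : (t : ℝ) * ((e : ℝ) * ((p : ℝ) - (e : ℝ))) ≤ ∑ ψ ∈ Y, a ψ := by
    have h1 := Finset.card_nsmul_le_sum Y a _ hYge
    rw [hcardY, nsmul_eq_mul] at h1
    exact h1
  have hrest0 : 0 ≤ ∑ ψ ∈ (X ∪ Y)ᶜ, a ψ := Finset.sum_nonneg (fun ψ _ => ha0 ψ)
  have hid : ((p : ℝ) - 1) * (p : ℝ) - (e : ℝ) * ((p : ℝ) - 1) =
      (t : ℝ) * ((e : ℝ) * ((p : ℝ) - (e : ℝ))) := by
    rw [hpR]
    ring
  rw [htotal, hXs] at hsplit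
  have hrest : ∑ ψ ∈ (X ∪ Y)ᶜ, a ψ = 0 := by linarith
  have hYeq : ∑ ψ ∈ Y, a ψ = (t : ℝ) * ((e : ℝ) * ((p : ℝ) - (e : ℝ))) := by linarith
  have hYeach : ∀ θ ∈ Y, a θ = (e : ℝ) * ((p : ℝ) - (e : ℝ)) := by
    have h1 : ∑ θ ∈ Y, (a θ - (e : ℝ) * ((p : ℝ) - (e : ℝ))) = 0 := by
      rw [Finset.sum_sub_distrib, Finset.sum_const, hcardY, nsmul_eq_mul, hYeq]
      ring
    have h2 := (Finset.sum_eq_zero_iff_of_nonneg
      (fun θ hθ => sub_nonneg.mpr (hYge θ hθ))).mp h1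
    intro θ hθ
    linarith [h2 θ hθ]
  have hresteach : ∀ ψ, ψ ∉ X → ψ ∉ Y → a ψ = 0 := by
    intro ψ hX' hY'
    have h2 := (Finset.sum_eq_zero_iff_of_nonneg (fun ψ _ => ha0 ψ)).mp hrest
    exact h2 ψ (by simp [hX', hY'])
  have hvan : ∀ ψ : IrrCharacter G, ψ ∉ X → ψ ∉ Y → ∀ x ∈ (P : Subgroup G), x ≠ 1 →
      (ψ : G → ℂ) x = 0 := by
    intro ψ hX' hY' x hx hx1
    have h1 : ∑ x : (P : Subgroup G), (if x = 1 then (0 : ℝ) else ‖(ψ : G → ℂ) x‖ ^ 2) = 0 :=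
      hresteach ψ hX' hY'
    have hnn : ∀ x ∈ (Finset.univ : Finset (P : Subgroup G)),
        0 ≤ (if x = 1 then (0 : ℝ) else ‖(ψ : G → ℂ) x‖ ^ 2) := by
      intro x _
      split_ifs
      · exact le_rfl
      · positivity
    have h2 := (Finset.sum_eq_zero_iff_of_nonneg hnn).mp h1 ⟨x, hx⟩ (Finset.mem_univ _)
    rw [if_neg (fun h0 => hx1 (congrArg Subtype.val h0))] at h2
    simpa using h2
  refine ⟨hvan, ?_, ?_⟩
  · intro ψ hX' hY'
    obtain ⟨m, hm⟩ := h15_sum_subgroup_char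
      (Cfsg.Agent.Lib.helper83.isCharacter_of_irr ψ.2) (P : Subgroup G)
    have h1 : ∑ u : (P : Subgroup G), (ψ : G → ℂ) (u : G) = (ψ : G → ℂ) 1 := by
      rw [Finset.sum_eq_single (1 : (P : Subgroup G))]
      · rfl
      · intro u _ hu
        exact hvan ψ hX' hY' u u.2 (fun h0 => hu (Subtype.ext h0))
      · intro h0
        exact absurd (Finset.mem_univ _) h0
    rw [h1, Cfsg.Agent.Lib.helper83.irr_one_eq_charDegree, h.cardP] at hm
    have h2 : charDegree (ψ : G → ℂ) = p * m := by exact_mod_cast hm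
    exact ⟨m, h2⟩
  · intro θ hθ
    rw [Finset.sum_congr rfl (fun (x : (P : Subgroup G)) _ => hmc ((θ : G → ℂ) x)),
      ← Complex.ofReal_sum]
    have h2 : ∑ x : (P : Subgroup G), ‖(θ : G → ℂ) x‖ ^ 2 = (p : ℝ) * (f₀ : ℝ) := by
      have h3 := hY θ hθ
      have h4 := hYeach θ hθ
      linarith [hfR]
    rw [h2]
    push_cast
    ring

end Cfsg.Agent.Lib.helper21.BR
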