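import Mathlib
import Cfsg.Agent.Lib.helper21.BRDefs
import Cfsg.Agent.Lib.helper83.CharBasic2

/-! S0999 piece M7 core (helper15): `∑_{x ∈ P} θ(x) = f₀ - ε e` for the exceptional characters,
with CH5 (`sum_preg`) and CH6 (`sum_psing`) as hypotheses. -/

set_option autoImplicit false

namespace Cfsg.Agent.Lib.helper21.BR

open Cfsg Cfsg.Agent.Lib.helper21

universe u

variable {G : Type u} [Group G] [Fintype G]
variable {p : ℕ} [Fact p.Prime] {P : Sylow p G}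
variable {e t n v : ℕ} {X Y : Finset (IrrCharacter G)} {εX : IrrCharacter G → ℤ} {ε : ℤ}
  {f₀ : ℕ}

theorem h15_trivIrr_eq : trivIrr G = Cfsg.Agent.Lib.helper83.trivIrr G := rfl

theorem h15_ne_triv_of_mem_Y (h : BRSelf p P e t X Y εX ε f₀) (θ : IrrCharacter G) (hθ : θ ∈ Y) :
    θ ≠ trivIrr G := by
  intro h1
  have h2 := h.data.one_mem
  rw [← h1] at h2
  exact (Finset.disjoint_left.mp h.data.disj h2) hθ

theorem sum_P_theta_core [Fintype ↥(P : Subgroup G)] (h : BRSelf p P e t X Y εX ε f₀)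
    (hCH5 : ∀ θ ∈ Y, ∑ g : G, (if p ∣ orderOf g then (0 : ℂ) else (θ : G → ℂ) g) =
      (ε : ℂ) * (((p - 1) * (p - e) : ℕ) : ℂ))
    (hCH6 : ∀ f : G → ℂ, IsClassFunction G f →
      ((p : ℂ) * (e : ℂ)) * ∑ g : G, (if p ∣ orderOf g then f g else 0) =
        (Nat.card G : ℂ) * (∑ x : (P : Subgroup G), f x - f 1)) :
    ∀ θ ∈ Y, ∑ x : (P : Subgroup G), (θ : G → ℂ) x = (f₀ : ℂ) - (ε : ℂ) * (e : ℂ) := by
  classical
  intro θ hθ
  have hne : θ ≠ Cfsg.Agent.Lib.helper83.trivIrr G := by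
    rw [← h15_trivIrr_eq]
    exact h15_ne_triv_of_mem_Y h θ hθ
  have hsum0 := Cfsg.Agent.Lib.helper83.irr_sum_eq_zero θ hne
  have hsplit : ∑ g : G, (θ : G → ℂ) g =
      ∑ g : G, (if p ∣ orderOf g then (θ : G → ℂ) g else 0) +
        ∑ g : G, (if p ∣ orderOf g then (0 : ℂ) else (θ : G → ℂ) g) := by
    rw [← Finset.sum_add_distrib]
    apply Finset.sum_congr rfl
    intro g _
    split_ifs <;> simp
  have h5 := hCH5 θ hθ
  have h6 := hCH6 (θ : G → ℂ) (Cfsg.Agent.Lib.helper83.isClassFunction_irr θ)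
  have hdeg : (θ : G → ℂ) 1 = (f₀ : ℂ) := by
    rw [Cfsg.Agent.Lib.helper83.irr_one_eq_charDegree, h.degY θ hθ]
  have hsing : ∑ g : G, (if p ∣ orderOf g then (θ : G → ℂ) g else 0) =
      - ((ε : ℂ) * (((p - 1) * (p - e) : ℕ) : ℂ)) := by
    rw [hsum0, h5] at hsplit
    linear_combination -hsplit
  rw [hsing, hdeg, h.cardG] at h6
  have hG0 : p * (p - 1) * (p - e) ≠ 0 := by
    rw [← h.cardG]
    exact Nat.card_pos.ne'
  have hp0 : (p : ℂ) ≠ 0 := by
    intro h0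
    apply hG0
    have : p = 0 := by exact_mod_cast h0
    rw [this]; simp
  have hq0 : (((p - 1) * (p - e) : ℕ) : ℂ) ≠ 0 := by
    intro h0
    apply hG0
    have : (p - 1) * (p - e) = 0 := by exact_mod_cast h0
    rw [mul_assoc, this]; simp
  have h7 : ((p : ℂ) * (((p - 1) * (p - e) : ℕ) : ℂ)) *
      (∑ x : (P : Subgroup G), (θ : G → ℂ) x - ((f₀ : ℂ) - (ε : ℂ) * (e : ℂ))) = 0 := by
    have h8 : ((p * (p - 1) * (p - e) : ℕ) : ℂ) = (p : ℂ) * (((p - 1) * (p - e) : ℕ) : ℂ) := by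
      push_cast
      ring
    rw [h8] at h6
    linear_combination -h6
  rcases mul_eq_zero.mp h7 with h9 | h9
  · exact absurd h9 (mul_ne_zero hp0 hq0)
  · exact sub_eq_zero.mp h9

end Cfsg.Agent.Lib.helper21.BR
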