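import Mathlib
import Cfsg.Agent.Lib.helper21.BRDefs
import Cfsg.Agent.Lib.helper15.BR_M7core
import Cfsg.Agent.Lib.helper79.BR_CH5
import Cfsg.Agent.Lib.helper79.BR_CH6

/-! S0999 piece M7 (helper15): `∑_{x ∈ P} θ(x) = f₀ - ε e` for the exceptional characters. -/

set_option autoImplicit false

namespace Cfsg.Agent.Lib.helper21.BR

open Cfsg Cfsg.Agent.Lib.helper21

universe u

variable {G : Type u} [Group G] [Fintype G]
variable {p : ℕ} [Fact p.Prime] {P : Sylow p G}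
variable {e t n v : ℕ} {X Y : Finset (IrrCharacter G)} {εX : IrrCharacter G → ℤ} {ε : ℤ}
  {f₀ : ℕ}

/-- M7 -/
theorem sum_P_theta [Fintype ↥(P : Subgroup G)] (h : BRSelf p P e t X Y εX ε f₀) :
    ∀ θ ∈ Y, ∑ x : (P : Subgroup G), (θ : G → ℂ) x = (f₀ : ℂ) - (ε : ℂ) * (e : ℂ) :=
  sum_P_theta_core h (sum_preg h)
    (fun f hf => sum_psing p P h.cardP h.cardC e h.cardN f hf)

end Cfsg.Agent.Lib.helper21.BR
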