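import Mathlib
import Cfsg.Agent.Lib.helper21.BRDefs
import Cfsg.Agent.Lib.helper83.CharBasic2
import Cfsg.Agent.Lib.helper4.CharDecomp

/-! S0999 piece M8 (helper15): the configuration `ε = 1` (`f₀ = e`) is impossible.  With
`Φ = θ θ̄ = ∑ m_ψ ψ` (`m_1 = 1`), compare `∑_{x ∈ P} Φ(x) = p e` and `Φ(1) = e²`. -/

set_option autoImplicit false

namespace Cfsg.Agent.Lib.helper21.BR

open Cfsg Cfsg.Agent.Lib.helper21

universe u

theorem h15_configI_arith (p e t M : ℕ) (hp : p = e * t + 1) (he : 2 ≤ e) (ht : 3 ≤ t)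
    (h1 : t * p * M + p ≤ p * e) (h2 : p * e ≤ e * e + (p - 1) * (M + 1)) : False := by
  subst hp
  rw [Nat.add_sub_cancel] at h2
  have h3 : t * M + 1 ≤ e := by
    have h5 : (e * t + 1) * (t * M + 1) ≤ (e * t + 1) * e := by nlinarith
    exact Nat.le_of_mul_le_mul_left h5 (by positivity)
  have h4 : e * t + 1 ≤ e + t * (M + 1) := by
    have h5 : e * (e * t + 1) ≤ e * (e + t * (M + 1)) := by nlinarith
    exact Nat.le_of_mul_le_mul_left h5 (by omega)
  obtain ⟨e', rfl⟩ := Nat.exists_eq_add_of_le he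
  obtain ⟨t', rfl⟩ := Nat.exists_eq_add_of_le ht
  nlinarith [Nat.zero_le (e' * t')]

variable {G : Type u} [Group G] [Fintype G]
variable {p : ℕ} [Fact p.Prime] {P : Sylow p G}
variable {e t n v : ℕ} {X Y : Finset (IrrCharacter G)} {εX : IrrCharacter G → ℤ} {ε : ℤ}
  {f₀ : ℕ}

/-- The sum over `P` of a function which is constant on `P^#`. -/
theorem h15_sum_P_const [Fintype ↥(P : Subgroup G)] (hP : Nat.card P = p) (ψ : G → ℂ) (c : ℂ)
    (hc : ∀ x ∈ (P : Subgroup G), x ≠ 1 → ψ x = c) :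
    ∑ x : (P : Subgroup G), ψ x = ψ 1 + ((p : ℂ) - 1) * c := by
  classical
  have h1 : ∀ x : (P : Subgroup G), ψ x = (if x = 1 then ψ 1 - c else 0) + c := by
    intro x
    split_ifs with hx
    · rw [hx]
      simp
    · rw [zero_add]
      exact hc x x.2 (fun h0 => hx (Subtype.ext h0))
  rw [Finset.sum_congr rfl (fun x _ => h1 x), Finset.sum_add_distrib, Finset.sum_ite_eq',
    Finset.sum_const, Finset.card_univ, ← Nat.card_eq_fintype_card, hP]
  simp only [Finset.mem_univ, if_true, nsmul_eq_mul]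
  ring

/-- M8 -/
theorem configI_false [Fintype ↥(P : Subgroup G)] (h : BRSelf p P e t X Y εX ε f₀)
    (hε : ε = 1)
    (hvan : ∀ ψ : IrrCharacter G, ψ ∉ X → ψ ∉ Y → ∀ x ∈ (P : Subgroup G), x ≠ 1 →
      (ψ : G → ℂ) x = 0)
    (hsq : ∀ θ ∈ Y, ∑ x : (P : Subgroup G),
      (θ : G → ℂ) x * (starRingEnd ℂ) ((θ : G → ℂ) x) = (p : ℂ) * (f₀ : ℂ))
    (hsum : ∀ θ ∈ Y, ∑ x : (P : Subgroup G), (θ : G → ℂ) x = (f₀ : ℂ) - (ε : ℂ) * (e : ℂ)) :
    False := by
  classical
  have : Fintype (IrrCharacter G) := Fintype.ofFinite _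
  have hp : p.Prime := Fact.out
  have hp1 : 1 ≤ p := hp.one_lt.le
  have ht1 : 1 ≤ t := by
    have := h.t_ge
    omega
  have hpet : p = e * t + 1 := by
    have h1 := hp.two_le
    have h2 := h.et
    omega
  have hf : f₀ = e := by
    rcases h.fcases with ⟨-, hf⟩ | ⟨h1, -⟩
    · exact hf
    · rw [hε] at h1
      norm_num at h1
  have hcardY : Y.card = t := by
    have h1 := h.data.cardY
    have h2 := h.et
    have h3 := h.e_ge
    have h4 : Y.card * e = t * e := by rw [h1, ← h2, mul_comm]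
    exact Nat.eq_of_mul_eq_mul_right (by omega) h4
  obtain ⟨θ, hθ⟩ : ∃ θ, θ ∈ Y := by
    have h1 : 0 < Y.card := by
      rw [hcardY]
      omega
    exact Finset.card_pos.mp h1
  -- the character `Φ = θ θ̄`
  have hθc : IsCharacter G (θ : G → ℂ) :=
    Cfsg.Agent.Lib.helper4.isCharacter_of_isIrrCharacter θ.2
  have hΦ : IsCharacter G ((θ : G → ℂ) * fun g => (starRingEnd ℂ) ((θ : G → ℂ) g)) :=
    Cfsg.Agent.Lib.helper4.isCharacter_mul hθc (Cfsg.Agent.Lib.helper4.isCharacter_conj hθc)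
  have hΦcl := Cfsg.Agent.Lib.helper83.isClassFunction_of_isCharacter hΦ
  have hm : ∀ ψ : IrrCharacter G, ∃ k : ℕ,
      classInner ((θ : G → ℂ) * fun g => (starRingEnd ℂ) ((θ : G → ℂ) g)) (ψ : G → ℂ) = k :=
    fun ψ => Cfsg.Agent.Lib.helper4.exists_nat_classInner_irr hΦ ψ.2
  choose m hm using hm
  have hexp : ∀ g : G, (θ : G → ℂ) g * (starRingEnd ℂ) ((θ : G → ℂ) g) =
      ∑ ψ : IrrCharacter G, (m ψ : ℂ) * (ψ : G → ℂ) g := by
    intro g
    have h1 := Cfsg.Agent.Lib.helper83.classFunction_expansion' _ hΦcl g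
    rw [Finset.sum_congr rfl (fun (ψ : IrrCharacter G) _ => by rw [hm ψ])] at h1
    exact h1
  have hmtriv : m (trivIrr G) = 1 := by
    have h1 := hm (trivIrr G)
    have h2 : classInner ((θ : G → ℂ) * fun g => (starRingEnd ℂ) ((θ : G → ℂ) g))
        ((trivIrr G : IrrCharacter G) : G → ℂ) = classInner (θ : G → ℂ) (θ : G → ℂ) := by
      unfold classInner
      congr 1
      apply Finset.sum_congr rfl
      intro g _
      show (θ : G → ℂ) g * (starRingEnd ℂ) ((θ : G → ℂ) g) * (starRingEnd ℂ) (1 : ℂ) = _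
      simp
    rw [h2, Cfsg.Agent.Lib.helper83.classInner_irr, if_pos rfl] at h1
    exact_mod_cast h1.symm
  -- sums over `P`
  have hcP : ∀ (ψ : IrrCharacter G) (c : ℂ),
      (∀ x ∈ (P : Subgroup G), x ≠ 1 → (ψ : G → ℂ) x = c) →
      ∑ x : (P : Subgroup G), (ψ : G → ℂ) x =
        (charDegree (ψ : G → ℂ) : ℂ) + ((p : ℂ) - 1) * c := by
    intro ψ c hc
    rw [h15_sum_P_const h.cardP (ψ : G → ℂ) c hc,
      Cfsg.Agent.Lib.helper83.irr_one_eq_charDegree]
  have hnd : ¬ p ∣ orderOf (1 : G) := by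
    rw [orderOf_one]
    exact hp.one_lt.not_ge ∘ Nat.le_of_dvd one_pos
  have hvalX : ∀ χ ∈ X, ∀ x ∈ (P : Subgroup G), x ≠ 1 → (χ : G → ℂ) x = (εX χ : ℂ) := by
    intro χ hχ x hx hx1
    have h2 := h.data.valX χ hχ x hx hx1 1 (one_mem _) hnd
    rwa [mul_one] at h2
  have hdtriv : charDegree ((trivIrr G : IrrCharacter G) : G → ℂ) = 1 := by
    have h1 := Cfsg.Agent.Lib.helper83.irr_one_eq_charDegree (trivIrr G)
    have h2 : ((trivIrr G : IrrCharacter G) : G → ℂ) 1 = 1 := rfl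
    rw [h2] at h1
    exact_mod_cast h1.symm
  let δ : IrrCharacter G → ℕ := fun ψ => if ψ = trivIrr G then 1 else 0
  let w : IrrCharacter G → ℕ := fun ψ => if ψ ≠ trivIrr G ∧ ψ ∈ X ∧ εX ψ = 1 then 1 else 0
  have hs : ∀ ψ : IrrCharacter G, ∃ k : ℕ,
      ∑ x : (P : Subgroup G), (ψ : G → ℂ) x = (k : ℂ) ∧
      t * p * w ψ + p * δ ψ ≤ k ∧
      k ≤ charDegree (ψ : G → ℂ) + (p - 1) * (w ψ + δ ψ) := by
    intro ψ
    by_cases h1 : ψ = trivIrr G
    · have hw : w ψ = 0 := if_neg (fun hh => hh.1 h1)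
      have hd : δ ψ = 1 := if_pos h1
      refine ⟨p, ?_, ?_, ?_⟩
      · rw [hcP ψ 1 (fun x _ _ => by rw [h1]; rfl), h1, hdtriv]
        push_cast
        ring
      · rw [hw, hd]
        simp
      · rw [hw, hd, h1, hdtriv]
        omega
    · have hd : δ ψ = 0 := if_neg h1
      by_cases hX : ψ ∈ X
      · rcases h.degX ψ hX with h2 | ⟨h2, h3⟩ | ⟨h2, h3⟩
        · exact absurd h2 h1
        · have hw : w ψ = 1 := if_pos ⟨h1, hX, h2⟩
          have h4 : 1 + (t - 1) * p + (p - 1) = t * p := by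
            obtain ⟨t', rfl⟩ := Nat.exists_eq_add_of_le ht1
            obtain ⟨p', rfl⟩ := Nat.exists_eq_add_of_le hp1
            simp only [Nat.add_sub_cancel_left]
            ring
          refine ⟨t * p, ?_, ?_, ?_⟩
          · rw [hcP ψ 1 (fun x hx hx1 => by rw [hvalX ψ hX x hx hx1, h2]; simp), h3, ← h4]
            push_cast [Nat.cast_sub hp1]
            ring
          · rw [hw, hd]
            simp
          · rw [hw, hd, h3]
            omega
        · have hw : w ψ = 0 := if_neg (fun hh => by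
            have h5 := hh.2.2
            rw [h2] at h5
            norm_num at h5)
          refine ⟨0, ?_, ?_, ?_⟩
          · rw [hcP ψ (-1) (fun x hx hx1 => by rw [hvalX ψ hX x hx hx1, h2]; simp), h3]
            push_cast [Nat.cast_sub hp1]
            ring
          · rw [hw, hd]
            simp
          · exact Nat.zero_le _
      · have hw : w ψ = 0 := if_neg (fun hh => hX hh.2.1)
        by_cases hY : ψ ∈ Y
        · refine ⟨0, ?_, ?_, ?_⟩
          · rw [hsum ψ hY, hε, hf]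
            push_cast
            ring
          · rw [hw, hd]
            simp
          · exact Nat.zero_le _
        · refine ⟨charDegree (ψ : G → ℂ), ?_, ?_, ?_⟩
          · rw [hcP ψ 0 (hvan ψ hX hY)]
            ring
          · rw [hw, hd]
            simp
          · exact Nat.le_add_right _ _
  choose sN hsN1 hsN2 hsN3 using hs
  have hA : ∑ ψ : IrrCharacter G, m ψ * sN ψ = p * e := by
    have h1 := hsq θ hθ
    rw [hf] at h1
    rw [Finset.sum_congr rfl (fun (x : (P : Subgroup G)) _ => hexp x), Finset.sum_comm] at h1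
    have h2 : ∀ ψ : IrrCharacter G, ∑ x : (P : Subgroup G), (m ψ : ℂ) * (ψ : G → ℂ) x =
        ((m ψ * sN ψ : ℕ) : ℂ) := by
      intro ψ
      rw [← Finset.mul_sum, hsN1 ψ]
      push_cast
      rfl
    rw [Finset.sum_congr rfl (fun (ψ : IrrCharacter G) _ => h2 ψ)] at h1
    exact_mod_cast h1
  have hB : ∑ ψ : IrrCharacter G, m ψ * charDegree (ψ : G → ℂ) = e * e := by
    have h1 := hexp 1
    rw [Cfsg.Agent.Lib.helper83.irr_one_eq_charDegree, h.degY θ hθ, hf] at h1
    have h2 : ∀ ψ : IrrCharacter G, (m ψ : ℂ) * (ψ : G → ℂ) 1 =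
        ((m ψ * charDegree (ψ : G → ℂ) : ℕ) : ℂ) := by
      intro ψ
      rw [Cfsg.Agent.Lib.helper83.irr_one_eq_charDegree]
      push_cast
      rfl
    rw [Finset.sum_congr rfl (fun (ψ : IrrCharacter G) _ => h2 ψ)] at h1
    have h3 : (starRingEnd ℂ) (e : ℂ) = (e : ℂ) := Complex.conj_natCast e
    rw [h3] at h1
    exact_mod_cast h1.symm
  have hδs : ∑ ψ : IrrCharacter G, m ψ * δ ψ = 1 := by
    have h1 : ∀ ψ : IrrCharacter G, m ψ * δ ψ = if ψ = trivIrr G then m ψ else 0 := by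
      intro ψ
      show m ψ * (if ψ = trivIrr G then 1 else 0) = _
      split_ifs <;> simp
    rw [Finset.sum_congr rfl (fun ψ _ => h1 ψ), Finset.sum_ite_eq']
    simp [hmtriv]
  have h1 : t * p * (∑ ψ : IrrCharacter G, m ψ * w ψ) + p ≤ p * e := by
    have h3 : ∑ ψ : IrrCharacter G, m ψ * (t * p * w ψ + p * δ ψ) =
        t * p * (∑ ψ : IrrCharacter G, m ψ * w ψ) +
          p * (∑ ψ : IrrCharacter G, m ψ * δ ψ) := by
      rw [Finset.mul_sum, Finset.mul_sum, ← Finset.sum_add_distrib]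
      apply Finset.sum_congr rfl
      intro ψ _
      ring
    rw [hδs, mul_one] at h3
    rw [← hA, ← h3]
    exact Finset.sum_le_sum (fun ψ _ => Nat.mul_le_mul_left _ (hsN2 ψ))
  have h2 : p * e ≤ e * e + (p - 1) * (∑ ψ : IrrCharacter G, m ψ * w ψ + 1) := by
    have h3 : ∑ ψ : IrrCharacter G, m ψ * (charDegree (ψ : G → ℂ) + (p - 1) * (w ψ + δ ψ)) =
        ∑ ψ : IrrCharacter G, m ψ * charDegree (ψ : G → ℂ) +
          (p - 1) * (∑ ψ : IrrCharacter G, m ψ * w ψ + ∑ ψ : IrrCharacter G, m ψ * δ ψ) := by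
      rw [← Finset.sum_add_distrib, Finset.mul_sum, ← Finset.sum_add_distrib]
      apply Finset.sum_congr rfl
      intro ψ _
      ring
    rw [hδs, hB] at h3
    rw [← hA, ← h3]
    exact Finset.sum_le_sum (fun ψ _ => Nat.mul_le_mul_left _ (hsN3 ψ))
  exact h15_configI_arith p e t _ hpet h.e_ge h.t_ge h1 h2

end Cfsg.Agent.Lib.helper21.BR
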