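import Mathlib

set_option autoImplicit false

namespace Cfsg.Agent.Lib.helper15.Dickson

theorem pow_ge_two {q : ℕ} (hq : 2 ≤ q) {i : ℕ} (hi : i ≠ 0) : 2 ≤ q ^ i :=
  le_trans hq (Nat.le_self_pow hi q)

theorem val_le_of_dvd {s a b : ℕ} (hs : s.Prime) (hb : b ≠ 0) (h : a ∣ b) :
    padicValNat s a ≤ padicValNat s b := by
  have := Fact.mk hs
  exact (padicValNat_dvd_iff_le hb).mp (pow_padicValNat_dvd.trans h)

theorem modEq_iff (q n i : ℕ) (hq : 2 ≤ q) (hn : n ≠ 0) (hi : i ≠ 0) :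
    q ^ i ≡ 1 [MOD n * (q - 1)] ↔ ∀ s : ℕ, s.Prime → s ∣ n →
      padicValNat s n + padicValNat s (q - 1) ≤ padicValNat s (q ^ i - 1) := by
  have h2 := pow_ge_two hq hi
  have hq1 : q - 1 ≠ 0 := by omega
  have hqi : q ^ i - 1 ≠ 0 := by omega
  rw [Nat.ModEq.comm, Nat.modEq_iff_dvd' (by omega : 1 ≤ q ^ i),
    ← Nat.factorization_prime_le_iff_dvd (Nat.mul_ne_zero hn hq1) hqi]
  constructor
  · intro h s hs _
    have := h s hs
    rw [Nat.factorization_mul hn hq1, Finsupp.add_apply, Nat.factorization_def _ hs,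
      Nat.factorization_def _ hs, Nat.factorization_def _ hs] at this
    exact this
  · intro h s hs
    rw [Nat.factorization_mul hn hq1, Finsupp.add_apply, Nat.factorization_def _ hs,
      Nat.factorization_def _ hs, Nat.factorization_def _ hs]
    by_cases hsn : s ∣ n
    · exact h s hs hsn
    · rw [padicValNat.eq_zero_of_not_dvd hsn, zero_add]
      exact val_le_of_dvd hs hqi (Nat.sub_one_dvd_pow_sub_one q i)

theorem lte_odd {s : ℕ} (hs : s.Prime) (hs2 : s ≠ 2) {x : ℕ} (hx : 2 ≤ x) (hsx : s ∣ x - 1)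
    {m : ℕ} (hm : m ≠ 0) :
    padicValNat s (x ^ m - 1) = padicValNat s (x - 1) + padicValNat s m := by
  have := Fact.mk hs
  have hodd : Odd s := hs.odd_of_ne_two hs2
  have hnx : ¬ s ∣ x := by
    intro h
    have h1 : s ∣ x - (x - 1) := Nat.dvd_sub h hsx
    rw [show x - (x - 1) = 1 by omega] at h1
    exact hs.one_lt.ne' (Nat.dvd_one.mp h1)
  have h2 := padicValNat.pow_sub_pow hodd (by omega : 1 < x) hsx hnx hm
  rw [one_pow] at h2
  exact h2

theorem lte_two_even {x : ℕ} (hx : 2 ≤ x) (hodd : ¬ 2 ∣ x) {m : ℕ} (hm : m ≠ 0) (he : 2 ∣ m) :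
    padicValNat 2 (x ^ m - 1) + 1 =
      padicValNat 2 (x + 1) + padicValNat 2 (x - 1) + padicValNat 2 m :=
  padicValNat.pow_two_sub_one (by omega) hodd hm (even_iff_two_dvd.mpr he)

theorem odd_geom {x : ℕ} (hx : ¬ 2 ∣ x) (m : ℕ) :
    (2 ∣ ∑ j ∈ Finset.range m, x ^ j) ↔ 2 ∣ m := by
  induction m with
  | zero => simp
  | succ m ih =>
    rw [Finset.sum_range_succ]
    have hxm : ¬ 2 ∣ x ^ m := fun h => hx (Nat.prime_two.dvd_of_dvd_pow h)
    omega

theorem lte_two_odd {x : ℕ} (hx : 2 ≤ x) (hodd : ¬ 2 ∣ x) {m : ℕ} (ho : ¬ 2 ∣ m) :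
    padicValNat 2 (x ^ m - 1) = padicValNat 2 (x - 1) := by
  have hS : ¬ 2 ∣ ∑ j ∈ Finset.range m, x ^ j := fun h => ho ((odd_geom hodd m).mp h)
  have hdiv : x - 1 ∣ x ^ m - 1 := Nat.sub_one_dvd_pow_sub_one x m
  have hmul : x ^ m - 1 = (x - 1) * ∑ j ∈ Finset.range m, x ^ j := by
    rw [Nat.geomSum_eq hx m, Nat.mul_div_cancel' hdiv]
  have hS0 : (∑ j ∈ Finset.range m, x ^ j) ≠ 0 := fun h => hS (h ▸ dvd_zero 2)
  have := Fact.mk Nat.prime_two
  rw [hmul, padicValNat.mul (by omega) hS0, padicValNat.eq_zero_of_not_dvd hS, add_zero]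

theorem val_two_add_one_of_four_dvd {x : ℕ} (h4 : 4 ∣ x - 1) (hx : 2 ≤ x) :
    padicValNat 2 (x + 1) = 1 := by
  have := Fact.mk Nat.prime_two
  apply le_antisymm
  · by_contra h
    push Not at h
    have h1 : 2 ^ 2 ∣ x + 1 := (padicValNat_dvd_iff_le (by omega)).mpr h
    norm_num at h1
    omega
  · exact one_le_padicValNat_of_dvd (by omega) (by omega)

theorem lte_two_four {x : ℕ} (hx : 2 ≤ x) (h4 : 4 ∣ x - 1) {m : ℕ} (hm : m ≠ 0) :
    padicValNat 2 (x ^ m - 1) = padicValNat 2 (x - 1) + padicValNat 2 m := by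
  have hodd : ¬ 2 ∣ x := by omega
  by_cases he : 2 ∣ m
  · have h1 := lte_two_even hx hodd hm he
    rw [val_two_add_one_of_four_dvd h4 hx] at h1
    omega
  · rw [lte_two_odd hx hodd he, padicValNat.eq_zero_of_not_dvd he, add_zero]

theorem two_le_val_add_one {x : ℕ} (hx : 2 ≤ x) (h2 : 2 ∣ x - 1) (h4 : ¬ 4 ∣ x - 1) :
    2 ≤ padicValNat 2 (x + 1) := by
  have := Fact.mk Nat.prime_two
  have h1 : 2 ^ 2 ∣ x + 1 := by
    norm_num
    omega
  exact (padicValNat_dvd_iff_le (by omega)).mp h1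

theorem exists_ord {s q n : ℕ} (hs : s.Prime) (hq : 2 ≤ q) (hn : n ≠ 0) (hsn : s ∣ q ^ n - 1) :
    ∃ d, 0 < d ∧ d < s ∧ d ∣ n ∧ s ∣ q ^ d - 1 := by
  have := Fact.mk hs
  have h2 := pow_ge_two hq hn
  have hqn : ((q : ZMod s)) ^ n = 1 := by
    have h1 : ((q ^ n : ℕ) : ZMod s) = ((1 : ℕ) : ZMod s) := by
      rw [ZMod.natCast_eq_natCast_iff, Nat.ModEq.comm, Nat.modEq_iff_dvd' (by omega)]
      exact hsn
    simpa using h1
  have hq0 : (q : ZMod s) ≠ 0 := by
    intro h
    rw [h, zero_pow hn] at hqn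
    exact zero_ne_one hqn
  have hd1 : orderOf (q : ZMod s) ∣ n := orderOf_dvd_of_pow_eq_one hqn
  have hd2 : orderOf (q : ZMod s) ∣ s - 1 := ZMod.orderOf_dvd_card_sub_one hq0
  have hpos : 0 < orderOf (q : ZMod s) := Nat.pos_of_dvd_of_pos hd1 (Nat.pos_of_ne_zero hn)
  have hs2 := hs.two_le
  have hlt : orderOf (q : ZMod s) < s := by
    have h3 := Nat.le_of_dvd (by omega) hd2
    omega
  refine ⟨orderOf (q : ZMod s), hpos, hlt, hd1, ?_⟩
  have h3 : ((q ^ orderOf (q : ZMod s) : ℕ) : ZMod s) = ((1 : ℕ) : ZMod s) := by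
    push_cast
    exact pow_orderOf_eq_one _
  have h4 := pow_ge_two hq hpos.ne'
  rw [ZMod.natCast_eq_natCast_iff, Nat.ModEq.comm, Nat.modEq_iff_dvd' (by omega)] at h3
  exact h3

theorem val_div {s r n : ℕ} (hs : s.Prime) (hr : r.Prime) (hn : n ≠ 0) (hrn : r ∣ n) :
    padicValNat s n = padicValNat s r + padicValNat s (n / r) := by
  have := Fact.mk hs
  have h1 : n = r * (n / r) := (Nat.mul_div_cancel' hrn).symm
  have h2 : n / r ≠ 0 := by
    intro h
    rw [h, mul_zero] at h1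
    exact hn h1
  conv_lhs => rw [h1]
  exact padicValNat.mul hr.ne_zero h2

theorem val_prime_ne {s r : ℕ} (hs : s.Prime) (hr : r.Prime) (h : s ≠ r) :
    padicValNat s r = 0 := by
  have := Fact.mk hs
  have := Fact.mk hr
  exact padicValNat_primes h

theorem fwd (q n : ℕ) (hq : 2 ≤ q) (hn : 1 < n) (H1 : ∀ r : ℕ, r.Prime → r ∣ n → r ∣ q - 1)
    (H2 : 4 ∣ n → 4 ∣ q - 1) :
    q ^ n ≡ 1 [MOD n * (q - 1)] ∧
      ∀ i : ℕ, 0 < i → i < n → ¬ q ^ i ≡ 1 [MOD n * (q - 1)] := by
  have hn0 : n ≠ 0 := by omega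
  constructor
  · rw [modEq_iff q n n hq hn0 hn0]
    intro s hs hsn
    have hsq := H1 s hs hsn
    by_cases hs2 : s = 2
    · subst hs2
      by_cases h4 : 4 ∣ q - 1
      · rw [lte_two_four hq h4 hn0]
        omega
      · have hodd : ¬ 2 ∣ q := by omega
        have h1 := lte_two_even hq hodd hn0 hsn
        have h2 := two_le_val_add_one hq hsq h4
        omega
    · rw [lte_odd hs hs2 hq hsq hn0]
      omega
  · intro i hi hin hmod
    have hi0 : i ≠ 0 := by omega
    rw [modEq_iff q n i hq hn0 hi0] at hmod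
    have hdvd : n ∣ i := by
      rw [← Nat.factorization_prime_le_iff_dvd hn0 hi0]
      intro s hs
      rw [Nat.factorization_def _ hs, Nat.factorization_def _ hs]
      by_cases hsn : s ∣ n
      · have h := hmod s hs hsn
        have hsq := H1 s hs hsn
        by_cases hs2 : s = 2
        · subst hs2
          by_cases h4 : 4 ∣ q - 1
          · rw [lte_two_four hq h4 hi0] at h
            omega
          · have hodd : ¬ 2 ∣ q := by omega
            have := Fact.mk Nat.prime_two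
            have hn4 : ¬ 4 ∣ n := fun h' => h4 (H2 h')
            have hv1 : padicValNat 2 n ≤ 1 := by
              by_contra hc
              push Not at hc
              have h1 : 2 ^ 2 ∣ n := (padicValNat_dvd_iff_le hn0).mpr hc
              norm_num at h1
              exact hn4 h1
            have hv2 : 1 ≤ padicValNat 2 n := one_le_padicValNat_of_dvd hn0 hsn
            by_cases hie : 2 ∣ i
            · have h1 := one_le_padicValNat_of_dvd hi0 hie
              omega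
            · rw [lte_two_odd hq hodd hie] at h
              omega
        · rw [lte_odd hs hs2 hq hsq hi0] at h
          omega
      · rw [padicValNat.eq_zero_of_not_dvd hsn]
        exact Nat.zero_le _
    have h1 := Nat.le_of_dvd hi hdvd
    omega

theorem bwd (q n : ℕ) (hq : 2 ≤ q) (hn : 1 < n) (hA : q ^ n ≡ 1 [MOD n * (q - 1)])
    (hB : ∀ i : ℕ, 0 < i → i < n → ¬ q ^ i ≡ 1 [MOD n * (q - 1)]) :
    (∀ r : ℕ, r.Prime → r ∣ n → r ∣ q - 1) ∧ (4 ∣ n → 4 ∣ q - 1) := by
  classical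
  have hn0 : n ≠ 0 := by omega
  have h2n := pow_ge_two hq hn0
  have hNdvd : n * (q - 1) ∣ q ^ n - 1 := by
    have hA2 := hA
    rw [Nat.ModEq.comm, Nat.modEq_iff_dvd' (by omega)] at hA2
    exact hA2
  have hndvd : n ∣ q ^ n - 1 := (Dvd.intro _ rfl).trans hNdvd
  have hdivlt : ∀ r : ℕ, r.Prime → r ∣ n → 0 < n / r ∧ n / r < n := by
    intro r hr hrn
    constructor
    · exact Nat.div_pos (Nat.le_of_dvd (by omega) hrn) hr.pos
    · exact Nat.div_lt_self (by omega) hr.one_lt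
  have H1 : ∀ r : ℕ, r.Prime → r ∣ n → r ∣ q - 1 := by
    by_contra hcon
    push Not at hcon
    obtain ⟨r₀, hr₀, hr₀n, hr₀q⟩ := hcon
    obtain ⟨P, hPdef⟩ : ∃ P : ℕ → Prop, P = fun r => r.Prime ∧ r ∣ n ∧ ¬ r ∣ q - 1 := ⟨_, rfl⟩
    have hPiff : ∀ r, P r ↔ (r.Prime ∧ r ∣ n ∧ ¬ r ∣ q - 1) := fun r => by rw [hPdef]
    have hP0 : P r₀ := (hPiff r₀).mpr ⟨hr₀, hr₀n, hr₀q⟩
    have hr₀le : r₀ ≤ n := Nat.le_of_dvd (by omega) hr₀n
    have hspec : P (Nat.findGreatest P n) := Nat.findGreatest_spec hr₀le hP0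
    have hmax : ∀ s, P s → s ≤ Nat.findGreatest P n := fun s hs =>
      Nat.le_findGreatest (Nat.le_of_dvd (by omega) ((hPiff s).mp hs).2.1) hs
    obtain ⟨r, hrdef⟩ : ∃ r, r = Nat.findGreatest P n := ⟨_, rfl⟩
    rw [← hrdef] at hspec hmax
    obtain ⟨hr, hrn, hrq⟩ := (hPiff r).mp hspec
    obtain ⟨hpos, hlt⟩ := hdivlt r hr hrn
    apply hB (n / r) hpos hlt
    rw [modEq_iff q n (n / r) hq hn0 hpos.ne']
    intro s hs hsn
    have hval := val_div hs hr hn0 hrn
    by_cases hsq : s ∣ q - 1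
    · have hsr : s ≠ r := fun h => hrq (h ▸ hsq)
      rw [val_prime_ne hs hr hsr, zero_add] at hval
      by_cases hs2 : s = 2
      · subst hs2
        have hodd : ¬ 2 ∣ q := by omega
        have hev : 2 ∣ n / r := by
          have h1 : 2 ∣ r * (n / r) := by
            rw [Nat.mul_div_cancel' hrn]
            exact hsn
          exact Nat.Coprime.dvd_of_dvd_mul_left ((Nat.coprime_primes Nat.prime_two hr).mpr hsr) h1
        by_cases h4 : 4 ∣ q - 1
        · rw [lte_two_four hq h4 hpos.ne']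
          omega
        · have h1 := lte_two_even hq hodd hpos.ne' hev
          have h2 := two_le_val_add_one hq hsq h4
          omega
      · rw [lte_odd hs hs2 hq hsq hpos.ne']
        omega
    · have hsr : s ≤ r := hmax s ((hPiff s).mpr ⟨hs, hsn, hsq⟩)
      have hs2 : s ≠ 2 := by
        rintro rfl
        have hqe : 2 ∣ q := by omega
        have h1 : 2 ∣ q ^ n := dvd_pow hqe hn0
        have h3 : 2 ∣ q ^ n - 1 := hsn.trans hndvd
        omega
      obtain ⟨d, hd0, hds, hdn, hsd⟩ := exists_ord hs hq hn0 (hsn.trans hndvd)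
      have hcop : Nat.Coprime d r := by
        rw [Nat.coprime_comm, Nat.Prime.coprime_iff_not_dvd hr]
        exact Nat.not_dvd_of_pos_of_lt hd0 (lt_of_lt_of_le hds hsr)
      have hdn' : d ∣ n / r := by
        have h1 : d ∣ r * (n / r) := by
          rw [Nat.mul_div_cancel' hrn]
          exact hdn
        exact Nat.Coprime.dvd_of_dvd_mul_left hcop h1
      obtain ⟨m, hm⟩ := hdn'
      have hm0 : m ≠ 0 := by
        rintro rfl
        rw [mul_zero] at hm
        omega
      have hxd := pow_ge_two hq hd0.ne'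
      have hE : padicValNat s (q ^ (n / r) - 1) =
          padicValNat s (q ^ d - 1) + padicValNat s m := by
        rw [hm, pow_mul]
        exact lte_odd hs hs2 hxd hsd hm0
      have := Fact.mk hs
      have h1 : 1 ≤ padicValNat s (q ^ d - 1) := one_le_padicValNat_of_dvd (by omega) hsd
      have h2 : padicValNat s (n / r) = padicValNat s m := by
        rw [hm, padicValNat.mul hd0.ne' hm0,
          padicValNat.eq_zero_of_not_dvd (Nat.not_dvd_of_pos_of_lt hd0 hds), zero_add]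
      have h3 : padicValNat s r ≤ 1 := by
        by_cases hsr' : s = r
        · subst hsr'
          rw [padicValNat_self]
        · rw [val_prime_ne hs hr hsr']
          omega
      have h4 : padicValNat s (q - 1) = 0 := padicValNat.eq_zero_of_not_dvd hsq
      omega
  refine ⟨H1, ?_⟩
  intro h4n
  by_contra h4
  have h2n' : 2 ∣ n := by omega
  have h2q := H1 2 Nat.prime_two h2n'
  have hodd : ¬ 2 ∣ q := by omega
  obtain ⟨hpos, hlt⟩ := hdivlt 2 Nat.prime_two h2n'
  apply hB (n / 2) hpos hlt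
  rw [modEq_iff q n (n / 2) hq hn0 hpos.ne']
  intro s hs hsn
  have hval := val_div hs Nat.prime_two hn0 h2n'
  by_cases hs2 : s = 2
  · subst hs2
    have := Fact.mk Nat.prime_two
    rw [padicValNat_self] at hval
    have hev : 2 ∣ n / 2 := by omega
    have h1 := lte_two_even hq hodd hpos.ne' hev
    have h2 := two_le_val_add_one hq h2q h4
    omega
  · rw [val_prime_ne hs Nat.prime_two hs2, zero_add] at hval
    rw [lte_odd hs hs2 hq (H1 s hs hsn) hpos.ne']
    omega

end Cfsg.Agent.Lib.helper15.Dickson
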