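import Cfsg.Agent.Lib.helper42.FGDefs

/-! S1915 split (architect helper42), piece F0 (`four_max`) + the relative Sylow conjugation lemma
`helper15_conj_into` and the transport of `IsKleinFour` along conjugation. -/

set_option autoImplicit false
open scoped Pointwise

namespace Cfsg.Agent.Lib.helper42.FG

variable {G : Type*} [Group G] [Finite G]

/-- A 2-subgroup `R` of `A` is conjugate in `A` into the Sylow 2-subgroup `S` of `A`. -/
theorem helper15_conj_into {A S R : Subgroup G} (hSA : S ≤ A)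
    (hSyl : Nat.card S = 2 ^ (Nat.card A).factorization 2) (hRA : R ≤ A) (hR : IsPGroup 2 R) :
    ∃ a ∈ A, ∀ r ∈ R, a * r * a⁻¹ ∈ S := by
  have : Fact (Nat.Prime 2) := ⟨Nat.prime_two⟩
  have hcardS : Nat.card (S.subgroupOf A) = 2 ^ (Nat.card A).factorization 2 := by
    rw [Nat.card_congr (Subgroup.subgroupOfEquivOfLe hSA).toEquiv, hSyl]
  have hR' : IsPGroup 2 (R.subgroupOf A) := hR.comap_subtype
  obtain ⟨Q, hQ⟩ := hR'.exists_le_sylow
  obtain ⟨g, hg⟩ := MulAction.exists_smul_eq ↥A Q (Sylow.ofCard (S.subgroupOf A) hcardS)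
  refine ⟨g, g.2, ?_⟩
  intro r hr
  have h1 : (⟨r, hRA hr⟩ : ↥A) ∈ (Q : Subgroup ↥A) := hQ (Subgroup.mem_subgroupOf.mpr hr)
  have h2 : MulAut.conj g • (⟨r, hRA hr⟩ : ↥A) ∈ MulAut.conj g • (Q : Subgroup ↥A) :=
    Subgroup.smul_mem_pointwise_smul _ _ _ h1
  have h3 : MulAut.conj g • (⟨r, hRA hr⟩ : ↥A) ∈
      ((Sylow.ofCard (S.subgroupOf A) hcardS : Sylow 2 ↥A) : Subgroup ↥A) := by
    rw [← hg, Sylow.smul_def, Sylow.pointwise_smul_def]
    exact h2
  rw [Sylow.coe_ofCard, Subgroup.mem_subgroupOf] at h3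
  simpa [MulAut.smul_def] using h3

/-- A conjugate of a Klein four-subgroup is a Klein four-subgroup. -/
theorem helper15_kleinFour_conj (V : Subgroup G) (hV : IsKleinFour V) (a : G) :
    IsKleinFour ↥(V.map (MulAut.conj a).toMonoidHom) := by
  have e : ↥V ≃* ↥(V.map (MulAut.conj a).toMonoidHom) :=
    V.equivMapOfInjective _ (MulAut.conj a).injective
  exact ⟨by rw [← Nat.card_congr e.toEquiv]; exact hV.card_four,
    by rw [← Monoid.exponent_eq_of_mulEquiv e]; exact hV.exponent_two⟩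

/-- F0 -/
theorem four_max {A S : Subgroup G} (hSA : S ≤ A)
    (hSyl : Nat.card S = 2 ^ (Nat.card A).factorization 2) {z : G} (hz : ZData S z)
    (V : Subgroup G) (hVS : V ≤ S) (hV : IsKleinFour V) (R : Subgroup G) (hRA : R ≤ A)
    (hR : IsPGroup 2 R) (hVR : V ≤ R) (hRV : ∀ r ∈ R, ∀ v ∈ V, r * v = v * r) : R = V := by
  obtain ⟨a, haA, ha⟩ := helper15_conj_into hSA hSyl hRA hR
  have hV'S : V.map (MulAut.conj a).toMonoidHom ≤ S := by
    rintro _ ⟨v, hv, rfl⟩
    exact ha v (hVR hv)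
  obtain ⟨-, h4⟩ := hz.h4 _ hV'S (helper15_kleinFour_conj V hV a)
  apply le_antisymm _ hVR
  intro r hr
  have hy : a * r * a⁻¹ ∈ V.map (MulAut.conj a).toMonoidHom := by
    apply h4 _ (ha r hr)
    rintro _ ⟨v, hv, rfl⟩
    show a * r * a⁻¹ * (a * v * a⁻¹) = a * v * a⁻¹ * (a * r * a⁻¹)
    have := hRV r hr v hv
    calc a * r * a⁻¹ * (a * v * a⁻¹) = a * (r * v) * a⁻¹ := by group
      _ = a * (v * r) * a⁻¹ := by rw [this]
      _ = a * v * a⁻¹ * (a * r * a⁻¹) := by group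
  obtain ⟨v, hv, hvr⟩ := hy
  have hvr' : a * v * a⁻¹ = a * r * a⁻¹ := hvr
  have : v = r := by
    have h := congrArg (fun x => a⁻¹ * x * a) hvr'
    simpa [mul_assoc] using h
  rw [← this]; exact hv

end Cfsg.Agent.Lib.helper42.FG
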