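import Cfsg.Agent.Lib.helper42.FGDefs
import Cfsg.Agent.Lib.helper15.FGF0

/-! S1915 split (architect helper42), piece F1 (`norm_fixes_z`). -/

set_option autoImplicit false

namespace Cfsg.Agent.Lib.helper42.FG

variable {G : Type*} [Group G] [Finite G]

/-- In a finite group, `m B m⁻¹ ⊆ B` gives `m⁻¹ B m ⊆ B`. -/
theorem helper15_conj_inv_mem {B : Subgroup G} {m : G} (hN : ∀ b ∈ B, m * b * m⁻¹ ∈ B) :
    ∀ v ∈ B, m⁻¹ * v * m ∈ B := by
  intro v hv
  have hinj : Function.Injective (fun w : ↥B => (⟨m * w * m⁻¹, hN w w.2⟩ : ↥B)) := by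
    intro a b hab
    have h1 : m * (a : G) * m⁻¹ = m * (b : G) * m⁻¹ := congrArg Subtype.val hab
    apply Subtype.ext
    have h2 := congrArg (fun x => m⁻¹ * x * m) h1
    simpa [mul_assoc] using h2
  obtain ⟨w, hw⟩ := (Finite.injective_iff_surjective.mp hinj) ⟨v, hv⟩
  have h1 : m * (w : G) * m⁻¹ = v := congrArg Subtype.val hw
  have : m⁻¹ * v * m = (w : G) := by rw [← h1]; group
  rw [this]; exact w.2

/-- Elements of `B ⊔ ⟨c⟩` when `c` normalizes `B` and `c² ∈ B`. -/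
theorem helper15_sup_zpowers {B : Subgroup G} {c : G} (hN : ∀ b ∈ B, c * b * c⁻¹ ∈ B)
    (hc2 : c * c ∈ B) : ∀ x ∈ B ⊔ Subgroup.zpowers c, x ∈ B ∨ x * c⁻¹ ∈ B := by
  have hN' := helper15_conj_inv_mem hN
  let T : Subgroup G :=
    { carrier := {x | x ∈ B ∨ x * c⁻¹ ∈ B}
      one_mem' := Or.inl B.one_mem
      mul_mem' := by
        intro x y hx hy
        rcases hx with hx | hx <;> rcases hy with hy | hy
        · exact Or.inl (B.mul_mem hx hy)
        · right
          show x * y * c⁻¹ ∈ B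
          rw [mul_assoc]; exact B.mul_mem hx hy
        · right
          show x * y * c⁻¹ ∈ B
          have : x * y * c⁻¹ = (x * c⁻¹) * (c * y * c⁻¹) := by group
          rw [this]; exact B.mul_mem hx (hN y hy)
        · left
          show x * y ∈ B
          have : x * y = (x * c⁻¹) * (c * (y * c⁻¹) * c⁻¹) * (c * c) := by group
          rw [this]; exact B.mul_mem (B.mul_mem hx (hN _ hy)) hc2
      inv_mem' := by
        intro x hx
        rcases hx with hx | hx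
        · exact Or.inl (B.inv_mem hx)
        · right
          show x⁻¹ * c⁻¹ ∈ B
          have : x⁻¹ * c⁻¹ = (c⁻¹ * (x * c⁻¹)⁻¹ * c) * (c * c)⁻¹ := by group
          rw [this]; exact B.mul_mem (hN' _ (B.inv_mem hx)) (B.inv_mem hc2) }
  have hle : B ⊔ Subgroup.zpowers c ≤ T := by
    apply sup_le
    · intro b hb; exact Or.inl hb
    · rw [Subgroup.zpowers_le]
      right
      show c * c⁻¹ ∈ B
      rw [mul_inv_cancel]; exact B.one_mem
  intro x hx
  exact hle hx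

/-- F1 -/
theorem norm_fixes_z {A S : Subgroup G} (hSA : S ≤ A)
    (hSyl : Nat.card S = 2 ^ (Nat.card A).factorization 2) {z : G} (hz : ZData S z)
    (c : G) (hcA : c ∉ A) (hcN : ∀ a ∈ A, c * a * c⁻¹ ∈ A) (hcS : ∀ y ∈ S, c * y = y * c)
    (hcc : c * c = z) (V : Subgroup G) (hVS : V ≤ S) (hV : IsKleinFour V) (m : G) (hm : m ∈ A)
    (hmV : ∀ v ∈ V, m * v * m⁻¹ ∈ V) : m * z * m⁻¹ = z := by
  have : Fact (Nat.Prime 2) := ⟨Nat.prime_two⟩
  have hzV : z ∈ V := (hz.h4 V hVS hV).1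
  have hz2 : z * z = 1 := by rw [← pow_two, ← hz.hz2, pow_orderOf_eq_one]
  have hz1 : z ≠ 1 := by
    intro h
    have h2 := hz.hz2
    rw [h, orderOf_one] at h2
    omega
  have hVsq : ∀ v ∈ V, v * v = 1 := by
    intro v hv
    have := IsKleinFour.mul_self (⟨v, hv⟩ : ↥V)
    exact congrArg Subtype.val this
  have hVab : ∀ x ∈ V, ∀ y ∈ V, x * y = y * x := by
    intro x hx y hy
    have h1 := hVsq (x * y) (V.mul_mem hx hy)
    have hx2 := hVsq x hx
    have hy2 := hVsq y hy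
    symm
    calc y * x = (x * x) * (y * x) * (y * y) := by rw [hx2, hy2, one_mul, mul_one]
      _ = x * (x * y * (x * y)) * y := by group
      _ = x * y := by rw [h1, mul_one]
  have hcV : ∀ v ∈ V, c * v = v * c := fun v hv => hcS v (hVS hv)
  have hVA : V ≤ A := hVS.trans hSA
  have hcVN : ∀ v ∈ V, c * v * c⁻¹ ∈ V := by
    intro v hv
    rw [hcV v hv, mul_assoc, mul_inv_cancel, mul_one]; exact hv
  -- D := V ⊔ ⟨c⟩ and C := (A ⊔ ⟨c⟩) ⊓ C(V)
  have hDel : ∀ x ∈ V ⊔ Subgroup.zpowers c, x ∈ V ∨ x * c⁻¹ ∈ V :=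
    helper15_sup_zpowers hcVN (by rw [hcc]; exact hzV)
  have hA1el : ∀ x ∈ A ⊔ Subgroup.zpowers c, x ∈ A ∨ x * c⁻¹ ∈ A :=
    helper15_sup_zpowers hcN (by rw [hcc]; exact hSA hz.hzS)
  have hDsq : ∀ d ∈ V ⊔ Subgroup.zpowers c, d * d = 1 ∨ d * d = z := by
    intro d hd
    rcases hDel d hd with h | h
    · exact Or.inl (hVsq d h)
    · right
      have hd' : d = (d * c⁻¹) * c := by group
      have h1 := hcV _ h
      have h2 := hVsq _ h
      calc d * d = (d * c⁻¹) * c * ((d * c⁻¹) * c) := by rw [← hd']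
        _ = (d * c⁻¹) * (c * (d * c⁻¹)) * c := by group
        _ = (d * c⁻¹) * ((d * c⁻¹) * c) * c := by rw [h1]
        _ = ((d * c⁻¹) * (d * c⁻¹)) * (c * c) := by group
        _ = z := by rw [h2, hcc, one_mul]
  have hcD : c ∈ V ⊔ Subgroup.zpowers c := Subgroup.mem_sup_right (Subgroup.mem_zpowers c)
  have hVD : V ≤ V ⊔ Subgroup.zpowers c := le_sup_left
  have hD2 : IsPGroup 2 ↥(V ⊔ Subgroup.zpowers c : Subgroup G) := by
    rintro ⟨d, hd⟩
    refine ⟨2, Subtype.ext ?_⟩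
    show d ^ (2 ^ 2) = 1
    have h4 : d ^ (2 ^ 2) = (d * d) * (d * d) := by
      rw [show (2 ^ 2 : ℕ) = 2 + 2 from rfl, pow_add, pow_two]
    rw [h4]
    rcases hDsq d hd with h | h
    · rw [h, one_mul]
    · rw [h, hz2]
  have hDC : V ⊔ Subgroup.zpowers c ≤
      (A ⊔ Subgroup.zpowers c) ⊓ Subgroup.centralizer (V : Set G) := by
    apply le_inf
    · exact sup_le (hVA.trans le_sup_left) le_sup_right
    · apply sup_le
      · intro x hx
        rw [Subgroup.mem_centralizer_iff]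
        intro v hv
        exact hVab v hv x hx
      · rw [Subgroup.zpowers_le, Subgroup.mem_centralizer_iff]
        intro v hv
        exact (hcV v hv).symm
  have hw0C : m * c * m⁻¹ ∈ (A ⊔ Subgroup.zpowers c) ⊓ Subgroup.centralizer (V : Set G) := by
    have hminv := helper15_conj_inv_mem hmV
    refine Subgroup.mem_inf.mpr ⟨?_, ?_⟩
    · exact Subgroup.mul_mem _ (Subgroup.mul_mem _ (Subgroup.mem_sup_left hm)
        (Subgroup.mem_sup_right (Subgroup.mem_zpowers c))) (Subgroup.inv_mem _ (Subgroup.mem_sup_left hm))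
    · rw [Subgroup.mem_centralizer_iff]
      intro v hv
      have h1 := hcV _ (hminv v hv)
      calc v * (m * c * m⁻¹) = m * ((m⁻¹ * v * m) * c) * m⁻¹ := by group
        _ = m * (c * (m⁻¹ * v * m)) * m⁻¹ := by rw [h1]
        _ = m * c * m⁻¹ * v := by group
  have hCA1 : ∀ x ∈ (A ⊔ Subgroup.zpowers c) ⊓ Subgroup.centralizer (V : Set G),
      x ∈ A ∨ x * c⁻¹ ∈ A := fun x hx => hA1el x (Subgroup.mem_inf.mp hx).1
  have hCcen : ∀ x ∈ (A ⊔ Subgroup.zpowers c) ⊓ Subgroup.centralizer (V : Set G),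
      ∀ v ∈ V, x * v = v * x := fun x hx v hv =>
    (Subgroup.mem_centralizer_iff.mp (Subgroup.mem_inf.mp hx).2 v hv).symm
  generalize (A ⊔ Subgroup.zpowers c) ⊓ Subgroup.centralizer (V : Set G) = C at hDC hw0C hCA1 hCcen
  generalize hDdef : V ⊔ Subgroup.zpowers c = D at hDel hDsq hcD hVD hD2 hDC
  -- maximality of D among the 2-subgroups of C
  have hmax : ∀ P : Subgroup G, IsPGroup 2 ↥P → D ≤ P → P ≤ C → P ≤ D := by
    intro P hP hDP hPC
    have hPA : P ⊓ A = V := by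
      apply four_max hSA hSyl hz V hVS hV (P ⊓ A) inf_le_right (hP.to_le inf_le_left)
        (le_inf (hVD.trans hDP) hVA)
      intro r hr v hv
      exact hCcen r (hPC (Subgroup.mem_inf.mp hr).1) v hv
    intro p hp
    rcases hCA1 p (hPC hp) with h | h
    · have : p ∈ P ⊓ A := Subgroup.mem_inf.mpr ⟨hp, h⟩
      rw [hPA] at this
      exact hVD this
    · have h1 : p * c⁻¹ ∈ P ⊓ A :=
        Subgroup.mem_inf.mpr ⟨P.mul_mem hp (P.inv_mem (hDP hcD)), h⟩
      rw [hPA] at h1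
      have : p = (p * c⁻¹) * c := by group
      rw [this]
      exact D.mul_mem (hVD h1) hcD
  -- D is a Sylow 2-subgroup of C
  have hDcard : Nat.card ↥D = 2 ^ (Nat.card ↥C).factorization 2 := by
    have hD2' : IsPGroup 2 ↥(D.subgroupOf C) := hD2.comap_subtype
    obtain ⟨Q, hQ⟩ := hD2'.exists_le_sylow
    have hDP : D ≤ (Q : Subgroup ↥C).map C.subtype := by
      intro d hd
      exact ⟨⟨d, hDC hd⟩, hQ (Subgroup.mem_subgroupOf.mpr hd), rfl⟩
    have hPC : (Q : Subgroup ↥C).map C.subtype ≤ C := by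
      rintro _ ⟨q, -, rfl⟩
      exact q.2
    have hP2 : IsPGroup 2 ↥((Q : Subgroup ↥C).map C.subtype) := Q.isPGroup'.map _
    have heq : (Q : Subgroup ↥C).map C.subtype = D := le_antisymm (hmax _ hP2 hDP hPC) hDP
    rw [← Sylow.card_eq_multiplicity Q, ← heq]
    exact Nat.card_congr ((Q : Subgroup ↥C).equivMapOfInjective C.subtype
      C.subtype_injective).symm.toEquiv
  have hw04 : (m * c * m⁻¹) ^ 4 = 1 := by
    have h1 : (m * c * m⁻¹) ^ 4 = m * ((c * c) * (c * c)) * m⁻¹ := by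
      rw [show (4 : ℕ) = 2 + 2 from rfl, pow_add, pow_two]; group
    rw [h1, hcc, hz2]; group
  have hR2 : IsPGroup 2 ↥(Subgroup.zpowers (m * c * m⁻¹)) := by
    rintro ⟨x, hx⟩
    refine ⟨2, Subtype.ext ?_⟩
    show x ^ (2 ^ 2) = 1
    obtain ⟨j, rfl⟩ := Subgroup.mem_zpowers_iff.mp hx
    have : ((m * c * m⁻¹) ^ j) ^ (2 ^ 2) = ((m * c * m⁻¹) ^ 4) ^ j := by
      rw [← zpow_natCast, ← zpow_natCast, ← zpow_mul, ← zpow_mul, mul_comm]; rfl
    rw [this, hw04, one_zpow]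
  obtain ⟨k, hkC, hk⟩ := helper15_conj_into hDC hDcard (Subgroup.zpowers_le.mpr hw0C) hR2
  have hkD := hk _ (Subgroup.mem_zpowers (m * c * m⁻¹))
  have hmzV : m * z * m⁻¹ ∈ V := hmV z hzV
  have hkz : k * (m * z * m⁻¹) * k⁻¹ = m * z * m⁻¹ := by
    have h1 := hCcen k hkC _ hmzV
    calc k * (m * z * m⁻¹) * k⁻¹ = (m * z * m⁻¹ * k) * k⁻¹ := by rw [h1]
      _ = m * z * m⁻¹ := by group
  have hsq : (k * (m * c * m⁻¹) * k⁻¹) * (k * (m * c * m⁻¹) * k⁻¹) = m * z * m⁻¹ := by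
    calc (k * (m * c * m⁻¹) * k⁻¹) * (k * (m * c * m⁻¹) * k⁻¹)
        = k * (m * (c * c) * m⁻¹) * k⁻¹ := by group
      _ = m * z * m⁻¹ := by rw [hcc, hkz]
  rcases hDsq _ hkD with h | h
  · exfalso
    rw [hsq] at h
    apply hz1
    have h' := congrArg (fun x => m⁻¹ * x * m) h
    simpa [mul_assoc] using h'
  · rw [hsq] at h
    exact h

end Cfsg.Agent.Lib.helper42.FG
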