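import Cfsg.Agent.Lib.helper42.FGDefs
import Cfsg.Agent.Lib.helper46.KleinCount
import Cfsg.Agent.Lib.helper15.FGF0

/-! S1915 split (architect helper42), piece F2 (`z_isolated`). -/

set_option autoImplicit false

namespace Cfsg.Agent.Lib.helper42.FG

variable {G : Type*} [Group G] [Finite G]

/-- F2 -/
theorem z_isolated {A S : Subgroup G} (hSA : S ≤ A)
    (hSyl : Nat.card S = 2 ^ (Nat.card A).factorization 2) (hS4 : 4 < Nat.card S) {z : G}
    (hz : ZData S z)
    (h7 : ∀ V : Subgroup G, V ≤ S → IsKleinFour V → ∀ m ∈ A, (∀ v ∈ V, m * v * m⁻¹ ∈ V) →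
      m * z * m⁻¹ = z)
    (g : G) (hg : g ∈ A) (hgz : g * z * g⁻¹ ∈ S) : g * z * g⁻¹ = z := by
  by_contra hne
  have : Fact (Nat.Prime 2) := ⟨Nat.prime_two⟩
  have hz2 : z * z = 1 := by rw [← pow_two, ← hz.hz2, pow_orderOf_eq_one]
  have hz1 : z ≠ 1 := by
    intro h
    have h2 := hz.hz2
    rw [h, orderOf_one] at h2
    omega
  have hs2 : (g * z * g⁻¹) * (g * z * g⁻¹) = 1 := by
    calc (g * z * g⁻¹) * (g * z * g⁻¹) = g * (z * z) * g⁻¹ := by group
      _ = 1 := by rw [hz2]; group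
  have hs1 : g * z * g⁻¹ ≠ 1 := by
    intro h
    apply hz1
    have h' := congrArg (fun x => g⁻¹ * x * g) h
    simpa [mul_assoc] using h'
  have hzs : z * (g * z * g⁻¹) = (g * z * g⁻¹) * z := (hz.hzc _ hgz).symm
  generalize hsdef : g * z * g⁻¹ = s at hne hgz hs2 hs1 hzs
  have hcond : Cfsg.Agent.Lib.helper46.kleinPairCond z s :=
    ⟨hz2, hs2, hz1, hs1, fun h => hne h.symm, hzs⟩
  have hVK : IsKleinFour ↥(Cfsg.Agent.Lib.helper46.kleinSub z s hz2 hs2 hzs) :=
    Cfsg.Agent.Lib.helper46.kleinSub_isKleinFour z s hcond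
  have hVmem : ∀ x, x ∈ Cfsg.Agent.Lib.helper46.kleinSub z s hz2 hs2 hzs ↔
      x = 1 ∨ x = z ∨ x = s ∨ x = z * s := fun x => Iff.rfl
  generalize Cfsg.Agent.Lib.helper46.kleinSub z s hz2 hs2 hzs = V at hVK hVmem
  have hVS : V ≤ S := by
    intro x hx
    rcases (hVmem x).mp hx with rfl | rfl | rfl | rfl
    · exact S.one_mem
    · exact hz.hzS
    · exact hgz
    · exact S.mul_mem hz.hzS hgz
  -- an element commuting with `z` and `s` commutes with `V`
  have hcomV : ∀ x : G, x * z = z * x → x * s = s * x → ∀ v ∈ V, x * v = v * x := by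
    intro x hxz hxs v hv
    rcases (hVmem v).mp hv with rfl | rfl | rfl | rfl
    · rw [mul_one, one_mul]
    · exact hxz
    · exact hxs
    · rw [← mul_assoc, hxz, mul_assoc, hxs, mul_assoc]
  have hVab : ∀ x ∈ V, ∀ v ∈ V, x * v = v * x := by
    intro x hx v hv
    have h1 : x * z = z * x := (hcomV z rfl hzs x hx).symm
    have h2 : x * s = s * x := (hcomV s hzs.symm rfl x hx).symm
    exact hcomV x h1 h2 v hv
  -- the centralizer of `s` in `A`
  have hTC : S.map (MulAut.conj g).toMonoidHom ≤ A ⊓ Subgroup.centralizer {s} := by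
    rintro _ ⟨y, hy, rfl⟩
    refine Subgroup.mem_inf.mpr ⟨A.mul_mem (A.mul_mem hg (hSA hy)) (A.inv_mem hg), ?_⟩
    rw [Subgroup.mem_centralizer_iff]
    intro h hh
    rw [Set.mem_singleton_iff] at hh
    rw [hh, ← hsdef]
    show g * z * g⁻¹ * (g * y * g⁻¹) = g * y * g⁻¹ * (g * z * g⁻¹)
    have hyz := hz.hzc y hy
    calc g * z * g⁻¹ * (g * y * g⁻¹) = g * (z * y) * g⁻¹ := by group
      _ = g * (y * z) * g⁻¹ := by rw [hyz]
      _ = g * y * g⁻¹ * (g * z * g⁻¹) := by group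
  have hVC : V ≤ A ⊓ Subgroup.centralizer {s} := by
    intro x hx
    refine Subgroup.mem_inf.mpr ⟨hSA (hVS hx), ?_⟩
    rw [Subgroup.mem_centralizer_iff]
    intro h hh
    rw [Set.mem_singleton_iff] at hh
    rw [hh]
    exact (hcomV s hzs.symm rfl x hx)
  generalize hCdef : A ⊓ Subgroup.centralizer {s} = C at hTC hVC
  have hCA : C ≤ A := by rw [← hCdef]; exact inf_le_left
  have hCs : ∀ x ∈ C, x * s = s * x := by
    intro x hx
    rw [← hCdef] at hx
    have := Subgroup.mem_centralizer_iff.mp (Subgroup.mem_inf.mp hx).2 s (Set.mem_singleton s)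
    exact this.symm
  -- a Sylow 2-subgroup of `C` containing `V`
  have hV2 : IsPGroup 2 ↥V := IsPGroup.of_card (n := 2) (by rw [hVK.card_four]; norm_num)
  have hVC2 : IsPGroup 2 ↥(V.subgroupOf C) := hV2.comap_subtype
  obtain ⟨Q, hQ⟩ := hVC2.exists_le_sylow
  have hRC : (Q : Subgroup ↥C).map C.subtype ≤ C := by
    rintro _ ⟨q, -, rfl⟩
    exact q.2
  have hVR : V ≤ (Q : Subgroup ↥C).map C.subtype := by
    intro v hv
    exact ⟨⟨v, hVC hv⟩, hQ (Subgroup.mem_subgroupOf.mpr hv), rfl⟩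
  have hR2 : IsPGroup 2 ↥((Q : Subgroup ↥C).map C.subtype) := Q.isPGroup'.map _
  have hRcard : Nat.card ↥((Q : Subgroup ↥C).map C.subtype) = 2 ^ (Nat.card C).factorization 2 := by
    rw [← Sylow.card_eq_multiplicity Q]
    exact Nat.card_congr
      ((Q : Subgroup ↥C).equivMapOfInjective C.subtype C.subtype_injective).symm.toEquiv
  have hScard_le : Nat.card S ≤ Nat.card ↥((Q : Subgroup ↥C).map C.subtype) := by
    rw [hRcard, hSyl]
    apply Nat.pow_le_pow_right (by norm_num)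
    have hT : Nat.card ↥(S.map (MulAut.conj g).toMonoidHom) = Nat.card S :=
      Nat.card_congr (S.equivMapOfInjective _ (MulAut.conj g).injective).symm.toEquiv
    have hdvd : 2 ^ (Nat.card A).factorization 2 ∣ Nat.card C := by
      rw [← hSyl, ← hT]
      exact Subgroup.card_dvd_of_le hTC
    exact (Nat.Prime.pow_dvd_iff_le_factorization Nat.prime_two Nat.card_pos.ne').mp hdvd
  generalize (Q : Subgroup ↥C).map C.subtype = R at hRC hVR hR2 hScard_le
  -- normalizer growth in the 2-group `R`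
  have hnil : Group.IsNilpotent ↥R := hR2.isNilpotent
  have hlt : V.subgroupOf R < ⊤ := by
    rw [lt_top_iff_ne_top]
    intro htop
    have h1 : Nat.card ↥(V.subgroupOf R) = Nat.card ↥R := by rw [htop]; exact Subgroup.card_top
    rw [Nat.card_congr (Subgroup.subgroupOfEquivOfLe hVR).toEquiv, hVK.card_four] at h1
    omega
  have hgrow := Group.normalizerCondition_of_isNilpotent (G := ↥R) _ hlt
  obtain ⟨m', hm'N, hm'V⟩ := SetLike.exists_of_lt hgrow
  have hmR : (m' : G) ∈ R := m'.2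
  have hmV : (m' : G) ∉ V := fun h => hm'V (Subgroup.mem_subgroupOf.mpr h)
  have hmN : ∀ v ∈ V, (m' : G) * v * (m' : G)⁻¹ ∈ V := by
    intro v hv
    have h1 : (⟨v, hVR hv⟩ : ↥R) ∈ V.subgroupOf R := Subgroup.mem_subgroupOf.mpr hv
    have h2 := (Subgroup.mem_normalizer_iff.mp hm'N ⟨v, hVR hv⟩).mp h1
    exact Subgroup.mem_subgroupOf.mp h2
  have hmA : (m' : G) ∈ A := hCA (hRC hmR)
  have hmz : (m' : G) * z = z * (m' : G) := by
    have h := h7 V hVS hVK _ hmA hmN
    calc (m' : G) * z = ((m' : G) * z * (m' : G)⁻¹) * (m' : G) := by group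
      _ = z * (m' : G) := by rw [h]
  have hms : (m' : G) * s = s * (m' : G) := hCs _ (hRC hmR)
  have hmcV : ∀ v ∈ V, (m' : G) * v = v * (m' : G) := hcomV _ hmz hms
  -- F0 for `V ⊔ zpowers m`
  have hcen : V ⊔ Subgroup.zpowers (m' : G) ≤ Subgroup.centralizer (V : Set G) := by
    apply sup_le
    · intro x hx
      rw [Subgroup.mem_centralizer_iff]
      intro v hv
      exact hVab v hv x hx
    · rw [Subgroup.zpowers_le, Subgroup.mem_centralizer_iff]
      intro v hv
      exact (hmcV v hv).symm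
  have hle : V ⊔ Subgroup.zpowers (m' : G) ≤ R := sup_le hVR (Subgroup.zpowers_le.mpr hmR)
  have hF0 := four_max hSA hSyl hz V hVS hVK (V ⊔ Subgroup.zpowers (m' : G))
    (hle.trans (hRC.trans hCA)) (hR2.to_le hle) le_sup_left
    (fun r hr v hv => (Subgroup.mem_centralizer_iff.mp (hcen hr) v hv).symm)
  apply hmV
  rw [← hF0]
  exact Subgroup.mem_sup_right (Subgroup.mem_zpowers _)

end Cfsg.Agent.Lib.helper42.FG
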