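import Mathlib

set_option autoImplicit false

/-!
Action of a Frobenius group `F = N ⋊ H` on a commutative group `M`: if neither the kernel `N`
nor the complement `H` has a non-trivial fixed point, then `m ^ |N| = 1` for every `m`.
-/

namespace Cfsg.Agent.Lib.helper15.FrobAct

open scoped Pointwise

theorem mem_conj_smul {G : Type*} [Group G] (H : Subgroup G) (g x : G) :
    x ∈ MulAut.conj g • H ↔ g⁻¹ * x * g ∈ H := by
  rw [Subgroup.mem_pointwise_smul_iff_inv_smul_mem, MulAut.smul_def, MulAut.conj_inv_apply]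

theorem pow_card_kernel_eq_one {F : Type*} [Group F] [Finite F] {M : Type*} [CommGroup M]
    (H N : Subgroup F) (hc : Subgroup.IsComplement' N H)
    (hTI : ∀ g : F, g ∉ H → H ⊓ (MulAut.conj g • H) = ⊥)
    (hcov : ∀ f : F, f ∉ N → ∃ g : F, f ∈ MulAut.conj g • H)
    (φ : F →* MulAut M)
    (hN : ∀ m : M, (∀ n ∈ N, φ n m = m) → m = 1)
    (hH : ∀ m : M, (∀ h ∈ H, φ h m = m) → m = 1) (m : M) :
    m ^ Nat.card N = 1 := by
  classical
  have := Fintype.ofFinite F
  have hdisj : ∀ x : F, x ∈ N → x ∈ H → x = 1 := fun x h1 h2 =>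
    (Subgroup.disjoint_def.mp hc.disjoint) h1 h2
  have hfix : ∀ (K : Subgroup F) (m : M) (k : F), k ∈ K →
      φ k (∏ x : K, φ (x : F) m) = ∏ x : K, φ (x : F) m := by
    intro K m k hk
    rw [map_prod]
    have h1 : ∀ x : K, φ k (φ (x : F) m) = φ ((⟨k, hk⟩ * x : K) : F) m := by
      intro x
      rw [Subgroup.coe_mul, map_mul, MulAut.mul_apply]
    simp_rw [h1]
    exact Fintype.prod_equiv (Equiv.mulLeft ⟨k, hk⟩) _ _ (fun x => rfl)
  have hPN : ∏ x : N, φ (x : F) m = 1 := hN _ (fun n hn => hfix N m n hn)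
  have hPH : ∀ m' : M, ∏ x : H, φ (x : F) m' = 1 := fun m' => hH _ (fun h hh => hfix H m' h hh)
  have hPF : ∏ f : F, φ f m = 1 := by
    apply hN
    intro n hn
    rw [map_prod]
    have h1 : ∀ x : F, φ n (φ x m) = φ (n * x) m := by
      intro x
      rw [map_mul, MulAut.mul_apply]
    simp_rw [h1]
    exact Fintype.prod_equiv (Equiv.mulLeft n) _ _ (fun x => rfl)
  have hsplit : ∏ f : F, φ f m = (∏ f ∈ Finset.univ.filter (· ∈ N), φ f m) *
      ∏ f ∈ Finset.univ.filter (· ∉ N), φ f m :=
    (Finset.prod_filter_mul_prod_filter_not _ _ _).symm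
  have hN' : ∏ f ∈ Finset.univ.filter (· ∈ N), φ f m = 1 := by
    rw [← hPN]
    exact Finset.prod_subtype (Finset.univ.filter (· ∈ N)) (by simp) _
  have hout : ∏ f ∈ Finset.univ.filter (· ∉ N), φ f m = (m ^ Nat.card N)⁻¹ := by
    let Ψ : N × H → F := fun x => (x.1 : F) * (x.2 : F) * (x.1 : F)⁻¹
    let S : Finset (N × H) := Finset.univ.filter (fun x => x.2 ≠ 1)
    have himg : S.image Ψ = Finset.univ.filter (· ∉ N) := by
      ext f
      simp only [Finset.mem_image, Finset.mem_filter, Finset.mem_univ, true_and, S]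
      constructor
      · rintro ⟨⟨n, h⟩, hh1, rfl⟩ hmem
        apply hh1
        have h2 : (h : F) ∈ N := by
          have : (h : F) = (n : F)⁻¹ * ((n : F) * (h : F) * (n : F)⁻¹) * (n : F) := by group
          rw [this]
          exact mul_mem (mul_mem (inv_mem n.2) hmem) n.2
        exact Subtype.ext (hdisj _ h2 h.2)
      · intro hf
        obtain ⟨g, hg⟩ := hcov f hf
        rw [mem_conj_smul] at hg
        obtain ⟨⟨n, h₀⟩, hnh, -⟩ := hc.existsUnique g
        simp only at hnh
        refine ⟨(n, ⟨(h₀ : F) * (g⁻¹ * f * g) * (h₀ : F)⁻¹,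
          mul_mem (mul_mem h₀.2 hg) (inv_mem h₀.2)⟩), ?_, ?_⟩
        · intro h1
          have h1' : (h₀ : F) * (g⁻¹ * f * g) * (h₀ : F)⁻¹ = 1 := congrArg Subtype.val h1
          apply hf
          have : f = 1 := by
            have h2 : g⁻¹ * f * g = 1 := by
              have := congrArg (fun x => (h₀ : F)⁻¹ * x * (h₀ : F)) h1'
              simpa [mul_assoc] using this
            have := congrArg (fun x => g * x * g⁻¹) h2
            simpa [mul_assoc] using this
          rw [this]
          exact one_mem N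
        · simp only [Ψ]
          rw [← hnh]
          group
    have hinj : Set.InjOn Ψ S := by
      rintro ⟨n, h⟩ hx ⟨n', h'⟩ hx' hΨ
      have hh1 : h ≠ 1 := (Finset.mem_filter.mp hx).2
      simp only [Ψ] at hΨ
      have hg : (n : F)⁻¹ * (n' : F) ∈ N := mul_mem (inv_mem n.2) n'.2
      have hconj : (h : F) = ((n : F)⁻¹ * (n' : F)) * (h' : F) * ((n : F)⁻¹ * (n' : F))⁻¹ := by
        have := congrArg (fun x => (n : F)⁻¹ * x * (n : F)) hΨ
        simp only [mul_assoc, inv_mul_cancel_left, inv_mul_cancel, mul_one] at this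
        rw [this]
        group
      have hgH : (n : F)⁻¹ * (n' : F) ∈ H := by
        by_contra hgH
        have h1 := hTI _ hgH
        have h2 : (h : F) ∈ H ⊓ (MulAut.conj ((n : F)⁻¹ * (n' : F)) • H) := by
          refine Subgroup.mem_inf.mpr ⟨h.2, ?_⟩
          rw [mem_conj_smul, hconj]
          have : ((n : F)⁻¹ * (n' : F))⁻¹ * ((n : F)⁻¹ * (n' : F) * (h' : F) *
              ((n : F)⁻¹ * (n' : F))⁻¹) * ((n : F)⁻¹ * (n' : F)) = (h' : F) := by group
          rw [this]
          exact h'.2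
        rw [h1, Subgroup.mem_bot] at h2
        exact hh1 (Subtype.ext h2)
      have hg1 : (n : F)⁻¹ * (n' : F) = 1 := hdisj _ hg hgH
      have hnn : n = n' := Subtype.ext (inv_mul_eq_one.mp hg1)
      subst hnn
      have hh : (h : F) = (h' : F) := by
        have := congrArg (fun x => (n : F)⁻¹ * x * (n : F)) hΨ
        simpa [mul_assoc] using this
      rw [Subtype.ext hh]
    rw [← himg, Finset.prod_image hinj, Finset.prod_filter, Fintype.prod_prod_type]
    have hrow : ∀ n : N, ∏ h : H, (if h ≠ 1 then φ (Ψ (n, h)) m else 1) = m⁻¹ := by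
      intro n
      have hfull : ∏ h : H, φ (Ψ (n, h)) m = 1 := by
        have h1 : ∀ h : H, φ (Ψ (n, h)) m = φ (n : F) (φ (h : F) (φ (n : F)⁻¹ m)) := by
          intro h
          simp only [Ψ, map_mul, MulAut.mul_apply]
        simp_rw [h1]
        rw [← map_prod, hPH, map_one]
      rw [← Finset.mul_prod_erase Finset.univ _ (Finset.mem_univ (1 : H))] at hfull
      have h1 : φ (Ψ (n, 1)) m = m := by
        simp [Ψ]
      rw [h1] at hfull
      have h2 : ∏ h : H, (if h ≠ 1 then φ (Ψ (n, h)) m else 1) =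
          ∏ h ∈ Finset.univ.erase (1 : H), φ (Ψ (n, h)) m := by
        rw [← Finset.prod_filter]
        congr 1
        ext h
        simp
      rw [h2]
      exact eq_inv_of_mul_eq_one_right hfull
    simp_rw [hrow]
    rw [Finset.prod_const, Finset.card_univ, ← Nat.card_eq_fintype_card, inv_pow]
  rw [hsplit, hN', one_mul, hout] at hPF
  exact inv_eq_one.mp hPF

end Cfsg.Agent.Lib.helper15.FrobAct
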