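import Mathlib

/-! S4395 (architect helper3), EXB sub-split, piece HFA (`hfa`): the field `L` of order `p ^ a`,
`a = orderOf (p : ZMod q)` even, with the involution `σ = Frobenius ^ (a / 2)` and an element `lam`
of order `q` with `lam * σ lam = 1`. -/

set_option autoImplicit false

namespace Cfsg.Agent.Lib.helper3.Gf

universe u

/-- HFA (L) : the field. -/
theorem hfa (p q : ℕ) [Fact p.Prime] [Fact q.Prime] (hpq : p ≠ q) (hev : orderOf (p : ZMod q) % 2 = 0) :
    ∃ (L : Type u) (_ : Field L) (_ : Finite L) (_ : CharP L p) (σ : L →+* L) (lam : L),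
      Nat.card L = p ^ orderOf (p : ZMod q) ∧ (∀ x, σ x = x ^ (p ^ (orderOf (p : ZMod q) / 2))) ∧
      (∀ x, σ (σ x) = x) ∧ lam ^ q = 1 ∧ lam ≠ 1 ∧ lam * σ lam = 1 := by
  have hp : p.Prime := Fact.out
  have hq : q.Prime := Fact.out
  have hp0 : (p : ZMod q) ≠ 0 := by
    intro h0
    rw [ZMod.natCast_eq_zero_iff] at h0
    exact hpq ((Nat.prime_dvd_prime_iff_eq hq hp).mp h0).symm
  have hfin : IsOfFinOrder (p : ZMod q) := by
    rw [isOfFinOrder_iff_pow_eq_one]
    exact ⟨q - 1, Nat.sub_pos_of_lt hq.one_lt, ZMod.pow_card_sub_one_eq_one hp0⟩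
  have ha : 0 < orderOf (p : ZMod q) := orderOf_pos_iff.mpr hfin
  have hpa : (p : ZMod q) ^ orderOf (p : ZMod q) = 1 := pow_orderOf_eq_one _
  have hlt : ∀ n : ℕ, 0 < n → n < orderOf (p : ZMod q) → (p : ZMod q) ^ n ≠ 1 :=
    fun n h0 h => pow_ne_one_of_lt_orderOf h0.ne' h
  generalize orderOf (p : ZMod q) = a at hev ha hpa hlt ⊢
  obtain ⟨b, hb⟩ : ∃ b, a = 2 * b := ⟨a / 2, by omega⟩
  have hb0 : 0 < b := by omega
  have hab : a / 2 = b := by omega
  have hbb : b + b = a := by omega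
  have hpb1 : (p : ZMod q) ^ b ≠ 1 := hlt b hb0 (by omega)
  have hpbm : (p : ZMod q) ^ b = -1 := by
    have h2 : (p : ZMod q) ^ b * (p : ZMod q) ^ b = 1 := by
      rw [← pow_add, hbb]; exact hpa
    rcases mul_self_eq_one_iff.mp h2 with h | h
    · exact absurd h hpb1
    · exact h
  have hqdvd : q ∣ p ^ b + 1 := by
    rw [← ZMod.natCast_eq_zero_iff]
    push_cast
    rw [hpbm]; ring
  have hqdvd2 : q ∣ p ^ a - 1 := by
    have h1 : ((p ^ a - 1 : ℕ) : ZMod q) = 0 := by
      have hle : 1 ≤ p ^ a := Nat.one_le_pow _ _ hp.pos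
      rw [Nat.cast_sub hle]; push_cast; rw [hpa]; ring
    exact (ZMod.natCast_eq_zero_iff _ _).mp h1
  have hcardL : Nat.card (ULift.{u} (GaloisField p a)) = p ^ a := by
    rw [Nat.card_ulift, GaloisField.card p a ha.ne']
  have : Finite (ULift.{u} (GaloisField p a)) :=
    Nat.finite_of_card_ne_zero (by rw [hcardL]; exact pow_ne_zero _ hp.ne_zero)
  let _ : Fintype (ULift.{u} (GaloisField p a)) := Fintype.ofFinite _
  have hFc : Fintype.card (ULift.{u} (GaloisField p a)) = p ^ a := by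
    rw [← Nat.card_eq_fintype_card]; exact hcardL
  have hcu : Nat.card (ULift.{u} (GaloisField p a))ˣ = p ^ a - 1 := by rw [Nat.card_units, hcardL]
  obtain ⟨w, hw⟩ := exists_prime_orderOf_dvd_card' (G := (ULift.{u} (GaloisField p a))ˣ) q
    (by rw [hcu]; exact hqdvd2)
  have hlq : (w : ULift.{u} (GaloisField p a)) ^ q = 1 := by
    rw [← Units.val_pow_eq_pow_val, ← hw, pow_orderOf_eq_one]; rfl
  have hl1 : (w : ULift.{u} (GaloisField p a)) ≠ 1 := by
    intro h1
    have h2 : w = 1 := Units.ext h1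
    rw [h2, orderOf_one] at hw
    exact hq.one_lt.ne hw
  refine ⟨ULift.{u} (GaloisField p a), inferInstance, inferInstance, inferInstance,
    iterateFrobenius (ULift.{u} (GaloisField p a)) p b, (w : ULift.{u} (GaloisField p a)),
    hcardL, ?_, ?_, hlq, hl1, ?_⟩
  · intro x; rw [iterateFrobenius_def, hab]
  · intro x
    rw [iterateFrobenius_def, iterateFrobenius_def, ← pow_mul, ← pow_add, hbb, ← hFc]
    exact FiniteField.pow_card x
  · rw [iterateFrobenius_def, ← pow_succ']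
    obtain ⟨k, hk⟩ := hqdvd
    rw [hk, pow_mul, hlq, one_pow]

end Cfsg.Agent.Lib.helper3.Gf
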