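import Mathlib

/-! S4395 (architect helper3), EXB sub-split, piece HFB (`hfb`, racer copy by helper15):
an element `lam` of order `q` generates the field of order `p ^ orderOf (p : ZMod q)`, so the
`lam`-stable additive subgroups are trivial. -/

set_option autoImplicit false

namespace Cfsg.Agent.Lib.helper3.Gf

universe u

/-- HFB (M/L) : `lam` generates the field, so `lam`-stable additive subgroups are trivial. -/
theorem helper15_hfb (p q : ℕ) [Fact p.Prime] [Fact q.Prime] (hpq : p ≠ q) (L : Type u) [Field L] [Finite L] [CharP L p]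
    (hcard : Nat.card L = p ^ orderOf (p : ZMod q)) (lam : L) (hq : lam ^ q = 1) (hne : lam ≠ 1) :
    ∀ W : AddSubgroup L, (∀ w ∈ W, lam * w ∈ W) → W = ⊥ ∨ W = ⊤ := by
  classical
  intro W hW
  have hp : p.Prime := Fact.out
  have hqp : q.Prime := Fact.out
  let R : AddSubgroup L :=
    { carrier := {c | ∀ w ∈ W, c * w ∈ W}
      add_mem' := fun {a b} ha hb w hw => by rw [add_mul]; exact W.add_mem (ha w hw) (hb w hw)
      zero_mem' := fun w hw => by rw [zero_mul]; exact W.zero_mem
      neg_mem' := fun {a} ha w hw => by rw [neg_mul]; exact W.neg_mem (ha w hw) }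
  have hlamR : lam ∈ R := hW
  have honeR : (1 : L) ∈ R := fun w hw => by rw [one_mul]; exact hw
  have hmulR : ∀ c d, c ∈ R → d ∈ R → c * d ∈ R := fun c d hc hd w hw => by
    rw [mul_assoc]; exact hc _ (hd w hw)
  have hpowR : ∀ n : ℕ, lam ^ n ∈ R := by
    intro n
    induction n with
    | zero => rw [pow_zero]; exact honeR
    | succ k ih => rw [pow_succ]; exact hmulR _ _ ih hlamR
  have hdvd : Nat.card R ∣ p ^ orderOf (p : ZMod q) := by
    rw [← hcard]; exact AddSubgroup.card_addSubgroup_dvd_card R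
  obtain ⟨b, hba, hb⟩ := (Nat.dvd_prime_pow hp).mp hdvd
  let _ : Fintype L := Fintype.ofFinite L
  have hlam0 : lam ≠ 0 := by
    intro h0; rw [h0, zero_pow hqp.ne_zero] at hq; exact zero_ne_one hq
  have hprod : ∏ c ∈ Finset.univ.filter (fun c : L => c ∈ R ∧ c ≠ 0), (lam * c)
      = ∏ c ∈ Finset.univ.filter (fun c : L => c ∈ R ∧ c ≠ 0), c := by
    apply Finset.prod_bij (fun c _ => lam * c)
    · intro c hc
      simp only [Finset.mem_filter, Finset.mem_univ, true_and] at hc ⊢
      exact ⟨hmulR _ _ hlamR hc.1, mul_ne_zero hlam0 hc.2⟩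
    · intro c₁ _ c₂ _ h
      exact mul_left_cancel₀ hlam0 h
    · intro d hd
      simp only [Finset.mem_filter, Finset.mem_univ, true_and] at hd
      refine ⟨lam ^ (q - 1) * d, ?_, ?_⟩
      · simp only [Finset.mem_filter, Finset.mem_univ, true_and]
        exact ⟨hmulR _ _ (hpowR _) hd.1, mul_ne_zero (pow_ne_zero _ hlam0) hd.2⟩
      · rw [← mul_assoc, ← pow_succ', Nat.sub_add_cancel hqp.pos, hq, one_mul]
    · intro c _; rfl
  have hP0 : ∏ c ∈ Finset.univ.filter (fun c : L => c ∈ R ∧ c ≠ 0), c ≠ 0 := by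
    rw [Finset.prod_ne_zero_iff]
    intro c hc
    simp only [Finset.mem_filter, Finset.mem_univ, true_and] at hc
    exact hc.2
  have hpow1 : lam ^ (Finset.univ.filter (fun c : L => c ∈ R ∧ c ≠ 0)).card = 1 := by
    rw [Finset.prod_mul_distrib, Finset.prod_const] at hprod
    exact mul_right_cancel₀ hP0 (by rw [hprod, one_mul])
  have hScard : (Finset.univ.filter (fun c : L => c ∈ R ∧ c ≠ 0)).card = Nat.card R - 1 := by
    have h1 : Finset.univ.filter (fun c : L => c ∈ R ∧ c ≠ 0)
        = (Finset.univ.filter (fun c : L => c ∈ R)).erase 0 := by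
      ext c
      simp only [Finset.mem_filter, Finset.mem_univ, true_and, Finset.mem_erase]
      tauto
    rw [h1, Finset.card_erase_of_mem (by simp [R.zero_mem])]
    congr 1
    rw [Nat.card_eq_fintype_card, Fintype.card_subtype]
  have hord : orderOf lam = q := orderOf_eq_prime hq hne
  have hqdvd : q ∣ p ^ b - 1 := by
    rw [← hb, ← hScard, ← hord]
    exact orderOf_dvd_of_pow_eq_one hpow1
  have hpb : (p : ZMod q) ^ b = 1 := by
    have hle : 1 ≤ p ^ b := Nat.one_le_pow _ _ hp.pos
    have h0 : ((p ^ b - 1 : ℕ) : ZMod q) = 0 := (ZMod.natCast_eq_zero_iff _ _).mpr hqdvd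
    rw [Nat.cast_sub hle] at h0
    push_cast at h0
    exact sub_eq_zero.mp h0
  have hab : orderOf (p : ZMod q) ∣ b := orderOf_dvd_of_pow_eq_one hpb
  have hRtop : R = ⊤ := by
    rcases Nat.eq_zero_or_pos b with hb0 | hbpos
    · exfalso
      rw [hb0, pow_zero] at hb
      have hbot : R = ⊥ := AddSubgroup.eq_bot_of_card_eq R hb
      rw [hbot, AddSubgroup.mem_bot] at honeR
      exact one_ne_zero honeR
    · have hbeq : b = orderOf (p : ZMod q) := le_antisymm hba (Nat.le_of_dvd hbpos hab)
      apply AddSubgroup.eq_top_of_card_eq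
      rw [hb, hbeq, hcard]
  rcases W.bot_or_exists_ne_zero with hbot | ⟨w₀, hw₀, hw₀0⟩
  · exact Or.inl hbot
  · right
    rw [eq_top_iff]
    intro x _
    have hxR : x * w₀⁻¹ ∈ R := by rw [hRtop]; exact AddSubgroup.mem_top _
    have := hxR w₀ hw₀
    rwa [inv_mul_cancel_right₀ hw₀0] at this

end Cfsg.Agent.Lib.helper3.Gf
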