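import Mathlib
import Cfsg.Agent.Lib.helper86.IvDefs

/-! S3928 split (architect helper86), piece QS (racer copy by helper15):
every element of `ivI` of the quotient lifts to `ivI α`. -/

set_option autoImplicit false

namespace Cfsg.Agent.Lib.helper86.IV

/-- QS : every element of `ivI` of the quotient lifts to `ivI α`. -/
theorem helper15_iv_quot_surj {G : Type*} [Group G] [Finite G] (α : MulAut G) (h2 : ∀ g, α (α g) = g)
    (N : Subgroup G) [N.Normal] (hN : ∀ n ∈ N, α n ∈ N) (y : G ⧸ N)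
    (hy : y ∈ ivI (ivQ α h2 N hN)) : ∃ x ∈ ivI α, (QuotientGroup.mk x : G ⧸ N) = y := by
  obtain ⟨hodd, hinv⟩ := hy
  obtain ⟨t, ht⟩ := hodd
  have hwb2 : y ^ (t + 1) * y ^ (t + 1) = y := by
    rw [← pow_add]
    have : t + 1 + (t + 1) = orderOf y + 1 := by omega
    rw [this, pow_succ, pow_orderOf_eq_one, one_mul]
  have hwbinv : ivQ α h2 N hN (y ^ (t + 1)) = (y ^ (t + 1))⁻¹ := by
    rw [map_pow, hinv, inv_pow]
  obtain ⟨w, hw⟩ := QuotientGroup.mk_surjective (y ^ (t + 1))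
  have hkinv : α (w * (α w)⁻¹) = (w * (α w)⁻¹)⁻¹ := by
    rw [map_mul, map_inv, h2, mul_inv_rev, inv_inv]
  have hmk : (QuotientGroup.mk (w * (α w)⁻¹) : G ⧸ N) = y := by
    rw [QuotientGroup.mk_mul, QuotientGroup.mk_inv, ← ivQ_mk α h2 N hN, hw, hwbinv, inv_inv, hwb2]
  have hk0 : orderOf (w * (α w)⁻¹) ≠ 0 := (orderOf_pos _).ne'
  obtain ⟨a, b, hb, hab⟩ := Nat.exists_eq_two_pow_mul_odd hk0
  by_cases hy1 : orderOf y = 1
  · refine ⟨1, ⟨by simp, by simp⟩, ?_⟩
    rw [orderOf_eq_one_iff] at hy1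
    rw [hy1]; rfl
  · have hcop : Nat.Coprime (2 ^ a) (orderOf y) := by
      apply Nat.Coprime.pow_left
      rw [Nat.coprime_two_left]
      exact ⟨t, ht⟩
    have h1 : 1 < orderOf y := by
      have := orderOf_pos y
      omega
    obtain ⟨j, -, hj⟩ := Nat.exists_mul_mod_eq_one_of_coprime hcop h1
    refine ⟨(w * (α w)⁻¹) ^ (2 ^ a * j), ⟨?_, ?_⟩, ?_⟩
    · have hdvd : orderOf ((w * (α w)⁻¹) ^ (2 ^ a * j)) ∣ b := by
        apply orderOf_dvd_of_pow_eq_one
        rw [← pow_mul]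
        have : 2 ^ a * j * b = orderOf (w * (α w)⁻¹) * j := by rw [hab]; ring
        rw [this, pow_mul, pow_orderOf_eq_one, one_pow]
      exact Odd.of_dvd_nat hb hdvd
    · rw [map_pow, hkinv, inv_pow]
    · rw [QuotientGroup.mk_pow, hmk]
      have : y ^ (2 ^ a * j) = y ^ 1 := by
        rw [pow_eq_pow_iff_modEq]
        unfold Nat.ModEq
        rw [hj, Nat.mod_eq_of_lt h1]
      rw [this, pow_one]

end Cfsg.Agent.Lib.helper86.IV
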