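import Mathlib

set_option autoImplicit false

/-!
Regular normal subgroups of multiply primitive groups: the two-point block argument.
-/

namespace Cfsg.Agent.Lib.helper15.RegNormal

open MulAction SubMulAction
open scoped Pointwise

/-- The two-point block argument: if the pointwise stabiliser `H` of `s` is primitive on the
complement of `s`, `N` is a normal subgroup acting semiregularly at `a ∈ s`, and the pair
`{n₁, n₂}` of elements of `N` is permuted or moved off itself by conjugation with each element of
`H`, then the complement of `s` is `{n₁ • a, n₂ • a}`. -/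
theorem pair_univ {G : Type*} [Group G] {X : Type*} [MulAction G X] (s : Set X)
    (hprim : IsPreprimitive (fixingSubgroup G s) (ofFixingSubgroup G s))
    (N : Subgroup G) [N.Normal] (a : X) (ha : a ∈ s)
    (hinj : ∀ m₁ m₂ : G, m₁ ∈ N → m₂ ∈ N → m₁ • a = m₂ • a → m₁ = m₂)
    (n₁ n₂ : G) (h₁ : n₁ ∈ N) (h₂ : n₂ ∈ N) (hne : n₁ ≠ n₂) (hs₁ : n₁ • a ∉ s)
    (hs₂ : n₂ • a ∉ s)
    (hcl : ∀ g ∈ fixingSubgroup G s, (g * n₁ * g⁻¹ = n₁ ∨ g * n₁ * g⁻¹ = n₂) ↔
      (g * n₂ * g⁻¹ = n₁ ∨ g * n₂ * g⁻¹ = n₂))
    (x : X) (hx : x ∉ s) : x = n₁ • a ∨ x = n₂ • a := by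
  let b₁ : ofFixingSubgroup G s := ⟨n₁ • a, hs₁⟩
  let b₂ : ofFixingSubgroup G s := ⟨n₂ • a, hs₂⟩
  have hb12 : b₁ ≠ b₂ := fun h => hne (hinj n₁ n₂ h₁ h₂ (congrArg Subtype.val h))
  have hconj : ∀ (g : fixingSubgroup G s) (n : G),
      (g : G) • n • a = ((g : G) * n * (g : G)⁻¹) • a := by
    intro g n
    have hga : (g : G) • a = a := (mem_fixingSubgroup_iff G).mp g.2 a ha
    have hga' : (g : G)⁻¹ • a = a := by rw [inv_smul_eq_iff, hga]
    rw [mul_smul, mul_smul, hga']
  have hN : ∀ (g : G) (n : G), n ∈ N → g * n * g⁻¹ ∈ N := fun g n hn =>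
    Subgroup.Normal.conj_mem inferInstance n hn g
  have hB : IsBlock (fixingSubgroup G s) ({b₁, b₂} : Set (ofFixingSubgroup G s)) := by
    rw [isBlock_iff_smul_eq_or_disjoint]
    intro g
    have hg1 : ((g • b₁ : ofFixingSubgroup G s) : X) = ((g : G) * n₁ * (g : G)⁻¹) • a :=
      hconj g n₁
    have hg2 : ((g • b₂ : ofFixingSubgroup G s) : X) = ((g : G) * n₂ * (g : G)⁻¹) • a :=
      hconj g n₂
    by_cases hc : (g : G) * n₁ * (g : G)⁻¹ = n₁ ∨ (g : G) * n₁ * (g : G)⁻¹ = n₂
    · left
      have hc' := (hcl g g.2).mp hc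
      have hcne : (g : G) * n₁ * (g : G)⁻¹ ≠ (g : G) * n₂ * (g : G)⁻¹ := by
        intro h
        apply hne
        have := mul_right_cancel h
        exact mul_left_cancel this
      rw [Set.smul_set_insert, Set.smul_set_singleton]
      rcases hc with h | h <;> rcases hc' with h' | h'
      · exact absurd (h.trans h'.symm) hcne
      · have e1 : g • b₁ = b₁ := Subtype.ext (by rw [hg1, h])
        have e2 : g • b₂ = b₂ := Subtype.ext (by rw [hg2, h'])
        rw [e1, e2]
      · have e1 : g • b₁ = b₂ := Subtype.ext (by rw [hg1, h])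
        have e2 : g • b₂ = b₁ := Subtype.ext (by rw [hg2, h'])
        rw [e1, e2, Set.pair_comm]
      · exact absurd (h.trans h'.symm) hcne
    · right
      have hc' : ¬ ((g : G) * n₂ * (g : G)⁻¹ = n₁ ∨ (g : G) * n₂ * (g : G)⁻¹ = n₂) :=
        fun h => hc ((hcl g g.2).mpr h)
      rw [Set.disjoint_left]
      intro y hy hy'
      rw [Set.smul_set_insert, Set.smul_set_singleton] at hy
      rcases hy with rfl | rfl <;> rcases hy' with h | h
      · have := congrArg Subtype.val h
        rw [hg1] at this
        exact hc (Or.inl (hinj _ _ (hN _ _ h₁) h₁ this))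
      · have := congrArg Subtype.val h
        rw [hg1] at this
        exact hc (Or.inr (hinj _ _ (hN _ _ h₁) h₂ this))
      · have := congrArg Subtype.val h
        rw [hg2] at this
        exact hc' (Or.inl (hinj _ _ (hN _ _ h₂) h₁ this))
      · have := congrArg Subtype.val h
        rw [hg2] at this
        exact hc' (Or.inr (hinj _ _ (hN _ _ h₂) h₂ this))
  rcases hprim.isTrivialBlock_of_isBlock hB with hsub | htop
  · exact absurd (hsub (Set.mem_insert _ _) (Set.mem_insert_of_mem _ rfl)) hb12
  · have hxB : (⟨x, hx⟩ : ofFixingSubgroup G s) ∈ ({b₁, b₂} : Set (ofFixingSubgroup G s)) := by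
      rw [htop]
      trivial
    rcases hxB with h | h
    · exact Or.inl (congrArg Subtype.val h)
    · exact Or.inr (congrArg Subtype.val h)

/-- Semiregularity in the form used here. -/
theorem inj_of_reg {G : Type*} [Group G] {X : Type*} [MulAction G X] (N : Subgroup G)
    (hreg : ∀ x : X, MulAction.stabilizer N x = ⊥) (a : X) (m₁ m₂ : G) (h1 : m₁ ∈ N)
    (h2 : m₂ ∈ N) (h : m₁ • a = m₂ • a) : m₁ = m₂ := by
  have h3 : (⟨m₂⁻¹ * m₁, N.mul_mem (N.inv_mem h2) h1⟩ : N) ∈ MulAction.stabilizer N a := by
    rw [MulAction.mem_stabilizer_iff]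
    change (m₂⁻¹ * m₁) • a = a
    rw [mul_smul, h, inv_smul_smul]
  rw [hreg a, Subgroup.mem_bot] at h3
  have h4 : m₂⁻¹ * m₁ = 1 := congrArg Subtype.val h3
  exact (inv_mul_eq_one.mp h4).symm

/-- A regular normal subgroup of a doubly primitive group of degree other than 3 has
exponent 2. -/
theorem sq_eq_one {G : Type*} [Group G] {X : Type*} [Fintype X] [MulAction G X]
    (h2 : MulAction.IsMultiplyPreprimitive G X 2) (N : Subgroup G) [N.Normal]
    (hreg : ∀ x : X, MulAction.stabilizer N x = ⊥) (h3 : Fintype.card X ≠ 3) (a : X)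
    (n : G) (hn : n ∈ N) : n ^ 2 = 1 := by
  classical
  by_contra hne
  have hn1 : n ≠ 1 := by
    rintro rfl
    simp at hne
  have hninv : n ≠ n⁻¹ := by
    intro h
    apply hne
    rw [pow_two]
    nth_rewrite 2 [h]
    exact mul_inv_cancel n
  have hinj := inj_of_reg N hreg a
  have hna : n • a ≠ a := fun h => hn1 (hinj n 1 hn N.one_mem (by rw [h, one_smul]))
  have hna' : n⁻¹ • a ≠ a := fun h => hn1 (by
    have := hinj n⁻¹ 1 (N.inv_mem hn) N.one_mem (by rw [h, one_smul])
    exact inv_eq_one.mp this)
  have hprim : IsPreprimitive (fixingSubgroup G ({a} : Set X)) (ofFixingSubgroup G ({a} : Set X)) :=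
    h2.isPreprimitive_ofFixingSubgroup (s := {a}) (by
      rw [Set.encard_singleton]
      rfl)
  have key := pair_univ ({a} : Set X) hprim N a rfl hinj n n⁻¹ hn (N.inv_mem hn) hninv hna hna'
    (by
      intro g _
      have e : g * n⁻¹ * g⁻¹ = (g * n * g⁻¹)⁻¹ := by group
      rw [e]
      constructor
      · rintro (h | h)
        · right
          rw [h]
        · left
          rw [h, inv_inv]
      · rintro (h | h)
        · right
          rw [← inv_inv (g * n * g⁻¹), h]
        · left
          exact inv_injective h)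
  apply h3
  rw [← Finset.card_univ, Finset.card_eq_three]
  refine ⟨a, n • a, n⁻¹ • a, hna.symm, hna'.symm, fun h => hninv (hinj _ _ hn (N.inv_mem hn) h), ?_⟩
  ext x
  simp only [Finset.mem_univ, Finset.mem_insert, Finset.mem_singleton, true_iff]
  by_cases hx : x = a
  · exact Or.inl hx
  · exact Or.inr (key x hx)

/-- A regular normal subgroup of a doubly primitive group of finite degree at least 2 is an
elementary abelian 2-group (and the degree is a power of 2), unless the degree is 3. -/
theorem two_prim {G : Type*} [Group G] {X : Type*} [Fintype X] [MulAction G X]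
    (hX : 2 ≤ Fintype.card X) (h2 : MulAction.IsMultiplyPreprimitive G X 2) (N : Subgroup G)
    [N.Normal] (htrans : MulAction.IsPretransitive N X)
    (hreg : ∀ x : X, MulAction.stabilizer N x = ⊥) :
    Fintype.card X = 3 ∨ (IsMulCommutative N ∧ (∀ n ∈ N, n ^ 2 = 1) ∧
      ∃ m : ℕ, Fintype.card X = 2 ^ m) := by
  classical
  by_cases h3 : Fintype.card X = 3
  · exact Or.inl h3
  right
  obtain ⟨a⟩ : Nonempty X := by
    rw [← Fintype.card_pos_iff]
    omega
  have hsq : ∀ n ∈ N, n ^ 2 = 1 := fun n hn => sq_eq_one h2 N hreg h3 a n hn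
  have hinv : ∀ g : N, g⁻¹ = g := by
    intro g
    apply inv_eq_of_mul_eq_one_left
    rw [← pow_two]
    exact Subtype.ext (hsq g g.2)
  refine ⟨?_, hsq, ?_⟩
  · rw [isMulCommutative_iff]
    intro x y
    rw [← hinv (x * y), mul_inv_rev, hinv, hinv]
  · have hinj := inj_of_reg N hreg a
    have hbij : Function.Bijective (fun n : N => (n : G) • a) := by
      constructor
      · intro m₁ m₂ h
        exact Subtype.ext (hinj _ _ m₁.2 m₂.2 h)
      · intro x
        obtain ⟨m, hm⟩ := MulAction.exists_smul_eq N a x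
        exact ⟨m, hm⟩
    have hfin : Finite N := Finite.of_injective _ hbij.1
    have hcard : Nat.card N = Fintype.card X := by
      rw [← Nat.card_eq_fintype_card]
      exact Nat.card_congr (Equiv.ofBijective _ hbij)
    have : Fact (Nat.Prime 2) := ⟨Nat.prime_two⟩
    have hp : IsPGroup 2 N := by
      intro g
      refine ⟨1, ?_⟩
      rw [pow_one]
      exact Subtype.ext (hsq g g.2)
    obtain ⟨m, hm⟩ := IsPGroup.iff_card.mp hp
    exact ⟨m, by rw [← hcard, hm]⟩

/-- A triply primitive group of degree at least 3 having a regular normal subgroup has degree 3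
or 4. -/
theorem three_prim {G : Type*} [Group G] {X : Type*} [Fintype X] [MulAction G X]
    (hX : 3 ≤ Fintype.card X) (h3 : MulAction.IsMultiplyPreprimitive G X 3) (N : Subgroup G)
    [N.Normal] (htrans : MulAction.IsPretransitive N X)
    (hreg : ∀ x : X, MulAction.stabilizer N x = ⊥) :
    Fintype.card X = 3 ∨ Fintype.card X = 4 := by
  classical
  have h2 : MulAction.IsMultiplyPreprimitive G X 2 :=
    isMultiplyPreprimitive_of_le G X h3 (by norm_num) (by
      rw [ENat.card_eq_coe_fintype_card]
      exact_mod_cast hX)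
  rcases two_prim (by omega) h2 N htrans hreg with h | ⟨-, hsq, k, hk⟩
  · exact Or.inl h
  right
  obtain ⟨a, b, c, hab, hac, hbc⟩ := Fintype.two_lt_card_iff.mp (by omega : 2 < Fintype.card X)
  obtain ⟨m, hm⟩ := MulAction.exists_smul_eq N a b
  obtain ⟨n, hn⟩ := MulAction.exists_smul_eq N a c
  have hm' : (m : G) • a = b := hm
  have hn' : (n : G) • a = c := hn
  have hinj := inj_of_reg N hreg a
  have hmsq : (m : G) * m = 1 := by
    rw [← pow_two]
    exact hsq m m.2
  have hprim : IsPreprimitive (fixingSubgroup G ({a, b} : Set X))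
      (ofFixingSubgroup G ({a, b} : Set X)) :=
    h3.isPreprimitive_ofFixingSubgroup (s := {a, b}) (by
      rw [Set.encard_pair hab]
      rfl)
  have hmn : (m : G) * n ∈ N := N.mul_mem m.2 n.2
  have hmna : ((m : G) * n) • a ≠ a := by
    intro h
    rw [mul_smul, hn'] at h
    have hminv : (m : G)⁻¹ = m := inv_eq_of_mul_eq_one_left hmsq
    have h' : c = (m : G)⁻¹ • a := by rw [← h, inv_smul_smul]
    rw [hminv, hm'] at h'
    exact hbc h'.symm
  have hmnb : ((m : G) * n) • a ≠ b := by
    intro h
    rw [mul_smul, hn', ← hm'] at h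
    exact hac (MulAction.injective (m : G) h).symm
  have hmnc : ((m : G) * n) • a ≠ c := by
    intro h
    rw [← hn'] at h
    have := hinj _ _ hmn n.2 h
    have h1 : (m : G) = 1 := mul_eq_right.mp this
    rw [h1, one_smul] at hm'
    exact hab hm'
  have key := pair_univ ({a, b} : Set X) hprim N a (Set.mem_insert _ _) hinj n ((m : G) * n) n.2
    hmn (fun h => hmnc (by rw [← h, hn'])) (by
      rw [hn']
      rintro (h | h)
      · exact hac h.symm
      · exact hbc h.symm) (by
      rintro (h | h)
      · exact hmna h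
      · exact hmnb h)
    (by
      intro g hg
      have hga : g • a = a := (mem_fixingSubgroup_iff G).mp hg a (Set.mem_insert _ _)
      have hgb : g • b = b :=
        (mem_fixingSubgroup_iff G).mp hg b (Set.mem_insert_of_mem _ rfl)
      have hga' : g⁻¹ • a = a := by rw [inv_smul_eq_iff, hga]
      have hgm : g * m * g⁻¹ = m := by
        apply hinj _ _ (Subgroup.Normal.conj_mem inferInstance _ m.2 g) m.2
        rw [mul_smul, mul_smul, hga', hm', hgb]
      have e : g * (m * n) * g⁻¹ = m * (g * n * g⁻¹) := by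
        calc g * (m * n) * g⁻¹ = (g * m * g⁻¹) * (g * n * g⁻¹) := by group
          _ = m * (g * n * g⁻¹) := by rw [hgm]
      rw [e]
      constructor
      · rintro (h | h)
        · right
          rw [h]
        · left
          rw [h, ← mul_assoc, hmsq, one_mul]
      · rintro (h | h)
        · right
          calc g * n * g⁻¹ = m * (m * (g * n * g⁻¹)) := by rw [← mul_assoc, hmsq, one_mul]
            _ = m * n := by rw [h]
        · left
          exact mul_left_cancel h)
  have hle : Fintype.card X ≤ 4 := by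
    rw [← Finset.card_univ]
    have hsub : (Finset.univ : Finset X) ⊆ {a, b, c, ((m : G) * n) • a} := by
      intro x _
      simp only [Finset.mem_insert, Finset.mem_singleton]
      by_cases hxa : x = a
      · exact Or.inl hxa
      by_cases hxb : x = b
      · exact Or.inr (Or.inl hxb)
      have := key x (by
        rintro (h | h)
        · exact hxa h
        · exact hxb h)
      rw [hn'] at this
      exact Or.inr (Or.inr this)
    exact (Finset.card_le_card hsub).trans Finset.card_le_four
  have hk2 : 2 ≤ k := by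
    by_contra hlt
    have : k ≤ 1 := by omega
    have : 2 ^ k ≤ 2 ^ 1 := Nat.pow_le_pow_right (by norm_num) this
    omega
  have : 2 ^ 2 ≤ 2 ^ k := Nat.pow_le_pow_right (by norm_num) hk2
  omega

end Cfsg.Agent.Lib.helper15.RegNormal
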