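import Mathlib
import Cfsg.Agent.Lib.helper15.RegNormal

set_option autoImplicit false

/-!
Normal subgroups of multiply transitive and multiply primitive groups (Jordan, Wielandt):
induction over point stabilisers for faithful actions.
-/

namespace Cfsg.Agent.Lib.helper15.Jordan

open MulAction SubMulAction
open scoped Pointwise

universe u v

section basics

variable {G : Type u} [Group G] {X : Type v} [MulAction G X]

/-- A non-trivial normal subgroup of a primitive faithful group is transitive. -/
theorem trans_of_normal [IsPreprimitive G X] [FaithfulSMul G X] (N : Subgroup G) [N.Normal]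
    (hN : N ≠ ⊥) : IsPretransitive N X := by
  apply IsQuasiPreprimitive.isPretransitive_of_normal
  intro h
  apply hN
  rw [Subgroup.eq_bot_iff_forall]
  intro n hn
  apply FaithfulSMul.eq_of_smul_eq_smul (α := X)
  intro x
  have hx : x ∈ fixedPoints N X := by
    rw [h]
    trivial
  rw [one_smul]
  exact hx ⟨n, hn⟩

/-- The point stabiliser of a faithful action acts faithfully on the remaining points. -/
theorem faithful_ofStabilizer [FaithfulSMul G X] (a : X) :
    FaithfulSMul (stabilizer G a) (ofStabilizer G a) := by
  constructor
  intro h₁ h₂ hh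
  apply Subtype.ext
  apply FaithfulSMul.eq_of_smul_eq_smul (α := X)
  intro x
  by_cases hx : x = a
  · rw [hx]
    exact (h₁.2 : (h₁ : G) • a = a).trans (h₂.2 : (h₂ : G) • a = a).symm
  · exact congrArg Subtype.val (hh ⟨x, hx⟩)

/-- If `N` is transitive and `N ∩ G_a` is `j`-transitive on the remaining points, then `N` is
`(j+1)`-transitive. -/
theorem transfer (N : Subgroup G) (a : X) [IsPretransitive N X] {j : ℕ}
    (h : IsMultiplyPretransitive (N.subgroupOf (stabilizer G a)) (ofStabilizer G a) j) :
    IsMultiplyPretransitive N X (j + 1) := by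
  rw [ofStabilizer.isMultiplyPretransitive (G := N) (a := a)]
  let σ : (N.subgroupOf (stabilizer G a)) → stabilizer N a := fun m =>
    ⟨⟨((m : stabilizer G a) : G), Subgroup.mem_subgroupOf.mp m.2⟩, (m : stabilizer G a).2⟩
  let f : ofStabilizer G a →ₑ[σ] ofStabilizer N a :=
    { toFun := fun y => ⟨(y : X), y.2⟩
      map_smul' := fun m y => rfl }
  have hσ : Function.Surjective σ := by
    intro n
    exact ⟨⟨⟨((n : N) : G), n.2⟩, Subgroup.mem_subgroupOf.mpr (n : N).2⟩, rfl⟩
  have hf : Function.Bijective f :=
    ⟨fun y₁ y₂ h => Subtype.ext (congrArg Subtype.val h), fun y => ⟨⟨(y : X), y.2⟩, rfl⟩⟩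
  exact (IsPretransitive.of_embedding_congr hσ hf).mp h

/-- A faithful `(|X| - 1)`-transitive action induces every permutation. -/
theorem surj_of_trans [Finite X] (h : IsMultiplyPretransitive G X (Nat.card X - 1)) :
    Function.Surjective (MulAction.toPermHom G X) := by
  have h' : IsMultiplyPretransitive (MulAction.toPermHom G X).range X (Nat.card X - 1) := by
    let f : X →ₑ[(MulAction.toPermHom G X).rangeRestrict] X :=
      { toFun := id
        map_smul' := fun g x => rfl }
    exact IsPretransitive.of_embedding (f := f) Function.surjective_id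
  have htop := Equiv.Perm.eq_top_of_isMultiplyPretransitive h'
  intro σ
  have hσ : σ ∈ (MulAction.toPermHom G X).range := by
    rw [htop]
    trivial
  exact hσ

/-- If a transitive action does not induce every permutation, neither does a point stabiliser
on the remaining points. -/
theorem not_surj_stab [IsPretransitive G X] (a : X)
    (h : ¬ Function.Surjective (MulAction.toPermHom G X)) :
    ¬ Function.Surjective (MulAction.toPermHom (stabilizer G a) (ofStabilizer G a)) := by
  intro hs
  apply h
  intro σ
  obtain ⟨g, hg⟩ := exists_smul_eq G a (σ a)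
  let τ : Equiv.Perm X := (MulAction.toPerm g)⁻¹ * σ
  have hτ : ∀ x, τ x = g⁻¹ • σ x := fun x => rfl
  have hτa : τ a = a := by
    rw [hτ, ← hg, inv_smul_smul]
  have hτmem : ∀ x, τ x ∈ ofStabilizer G a ↔ x ∈ ofStabilizer G a := by
    intro x
    rw [mem_ofStabilizer_iff, mem_ofStabilizer_iff, not_iff_not]
    constructor
    · intro hx
      apply τ.injective
      rw [hx, hτa]
    · intro hx
      rw [hx, hτa]
  obtain ⟨s, hs'⟩ := hs (τ.subtypePerm hτmem)
  refine ⟨g * (s : G), ?_⟩
  ext x
  by_cases hx : x = a
  · rw [hx]
    change (g * (s : G)) • a = σ a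
    rw [mul_smul, (s.2 : (s : G) • a = a), hg]
  · have e1 : (s : G) • x = τ x :=
      congrArg (fun π : Equiv.Perm (ofStabilizer G a) => ((π ⟨x, hx⟩ : ofStabilizer G a) : X)) hs'
    change (g * (s : G)) • x = σ x
    rw [mul_smul, e1, hτ, smul_inv_smul]

/-- The involution argument: in a 3-transitive group of degree at least 4, a transitive normal
subgroup `N` cannot have a non-trivial point stabiliser of exponent 2 acting semiregularly on the
remaining points. -/
theorem no_invol [Finite X] (h3 : IsMultiplyPretransitive G X 3) (hcard : 4 ≤ Nat.card X)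
    (N : Subgroup G) [N.Normal] [IsPretransitive N X] (a : X)
    (hreg : ∀ n ∈ N, n • a = a → ∀ y, y ≠ a → n • y = y → n = 1)
    (hexp : ∀ n ∈ N, n • a = a → n ^ 2 = 1)
    (t : G) (htN : t ∈ N) (ht1 : t ≠ 1) (hta : t • a = a) : False := by
  classical
  have := Fintype.ofFinite X
  rw [Nat.card_eq_fintype_card] at hcard
  have hnt : Nontrivial X := by
    rw [← Fintype.one_lt_card_iff_nontrivial]
    omega
  obtain ⟨b, hba⟩ : ∃ b, b ≠ a := exists_ne a
  have htb : t • b ≠ b := fun h => ht1 (hreg t htN hta b hba h)
  have hca : t • b ≠ a := by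
    intro h
    rw [← hta] at h
    exact hba (MulAction.injective t h)
  have htc : t • t • b = b := by
    rw [← mul_smul, ← pow_two, hexp t htN hta, one_smul]
  obtain ⟨d, hda, hdb, hdc⟩ : ∃ d, d ≠ a ∧ d ≠ b ∧ d ≠ t • b := by
    by_contra hno
    push Not at hno
    have hsub : (Finset.univ : Finset X) ⊆ {a, b, t • b} := by
      intro x _
      simp only [Finset.mem_insert, Finset.mem_singleton]
      by_cases hxa : x = a
      · exact Or.inl hxa
      by_cases hxb : x = b
      · exact Or.inr (Or.inl hxb)
      exact Or.inr (Or.inr (hno x hxa hxb))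
    have := (Finset.card_le_card hsub).trans Finset.card_le_three
    rw [Finset.card_univ] at this
    omega
  have hGtr : IsPretransitive G X := by
    rw [← is_one_pretransitive_iff]
    exact isMultiplyPretransitive_of_le (n := 3) (by norm_num) (by
      rw [Nat.card_eq_fintype_card]
      omega)
  have h2 : IsMultiplyPretransitive (stabilizer G b) (ofStabilizer G b) 2 :=
    ofStabilizer.isMultiplyPretransitive.mp h3
  rw [is_two_pretransitive_iff] at h2
  obtain ⟨g, hg1, hg2⟩ := h2 (a := ⟨t • b, htb⟩) (b := ⟨d, hdb⟩) (c := ⟨t • b, htb⟩)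
    (d := ⟨a, hba.symm⟩) (fun h => hdc (congrArg Subtype.val h).symm)
    (fun h => hca (congrArg Subtype.val h))
  have hgb : (g : G) • b = b := g.2
  have hgc : (g : G) • t • b = t • b := congrArg Subtype.val hg1
  have hgd : (g : G) • d = a := congrArg Subtype.val hg2
  have hgb' : (g : G)⁻¹ • b = b := by rw [inv_smul_eq_iff, hgb]
  have hgc' : (g : G)⁻¹ • t • b = t • b := by rw [inv_smul_eq_iff, hgc]
  have ht'N : (g : G) * t * (g : G)⁻¹ ∈ N := Subgroup.Normal.conj_mem inferInstance t htN g
  -- u = t * t' fixes b and c
  have hub : (t * ((g : G) * t * (g : G)⁻¹)) • b = b := by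
    rw [mul_smul, mul_smul, mul_smul, hgb', hgc, htc]
  have huc : (t * ((g : G) * t * (g : G)⁻¹)) • t • b = t • b := by
    rw [mul_smul, mul_smul, mul_smul, hgc', htc, hgb]
  have huN : t * ((g : G) * t * (g : G)⁻¹) ∈ N := N.mul_mem htN ht'N
  obtain ⟨n, hn⟩ := exists_smul_eq N b a
  have hn' : (n : G) • b = a := hn
  have hu1 : t * ((g : G) * t * (g : G)⁻¹) = 1 := by
    have hconj : (n : G) * (t * ((g : G) * t * (g : G)⁻¹)) * (n : G)⁻¹ = 1 := by
      apply hreg _ (Subgroup.Normal.conj_mem inferInstance _ huN n) _ ((n : G) • t • b)
      · intro h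
        rw [← hn'] at h
        exact htb (MulAction.injective (n : G) h)
      · rw [mul_smul, mul_smul, inv_smul_smul, huc]
      · rw [mul_smul, mul_smul, ← hn', inv_smul_smul, hub]
    have := mul_inv_eq_one.mp hconj
    exact mul_left_cancel (this.trans (mul_one _).symm)
  have htinv : t⁻¹ = t := by
    apply inv_eq_of_mul_eq_one_left
    rw [← pow_two]
    exact hexp t htN hta
  have ht' : (g : G) * t * (g : G)⁻¹ = t := by
    exact (eq_inv_of_mul_eq_one_right hu1).trans htinv
  have hfix : t • (g : G) • a = (g : G) • a := by
    nth_rewrite 1 [← ht']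
    rw [mul_smul, mul_smul, inv_smul_smul, hta]
  have hga : (g : G) • a ≠ a := by
    intro h
    have h' : (g : G) • a = (g : G) • d := h.trans hgd.symm
    exact hda (MulAction.injective (g : G) h').symm
  exact ht1 (hreg t htN hta _ hga hfix)

/-- A non-trivial stabiliser in `N` gives a non-trivial element. -/
theorem exists_of_stab_ne_bot (N : Subgroup G) (a : X) (h : stabilizer N a ≠ ⊥) :
    ∃ t ∈ N, t ≠ 1 ∧ t • a = a := by
  obtain ⟨n, hn⟩ := Subgroup.ne_bot_iff_exists_ne_one.mp h
  refine ⟨((n : N) : G), (n : N).2, ?_, n.2⟩
  intro h1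
  apply hn
  apply Subtype.ext
  apply Subtype.ext
  exact h1

theorem subgroupOf_ne_bot (N : Subgroup G) (a : X) (t : G) (htN : t ∈ N) (ht1 : t ≠ 1)
    (hta : t • a = a) : N.subgroupOf (stabilizer G a) ≠ ⊥ := by
  intro h
  have hm : (⟨t, hta⟩ : stabilizer G a) ∈ N.subgroupOf (stabilizer G a) :=
    Subgroup.mem_subgroupOf.mpr htN
  rw [h, Subgroup.mem_bot] at hm
  exact ht1 (congrArg Subtype.val hm)

theorem reg_of_stab_bot (N : Subgroup G) (a : X)
    (h : ∀ y : ofStabilizer G a, stabilizer (N.subgroupOf (stabilizer G a)) y = ⊥) :
    ∀ n ∈ N, n • a = a → ∀ y, y ≠ a → n • y = y → n = 1 := by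
  intro n hnN hna y hy hny
  have hm : (⟨⟨n, hna⟩, Subgroup.mem_subgroupOf.mpr hnN⟩ : N.subgroupOf (stabilizer G a)) ∈
      stabilizer (N.subgroupOf (stabilizer G a)) (⟨y, hy⟩ : ofStabilizer G a) := by
    rw [mem_stabilizer_iff]
    exact Subtype.ext hny
  rw [h, Subgroup.mem_bot] at hm
  exact congrArg (fun m : N.subgroupOf (stabilizer G a) => ((m : stabilizer G a) : G)) hm

end basics

/-- Jordan's theorem on normal subgroups of multiply transitive groups, for faithful actions:
a non-trivial normal subgroup of a `(k+2)`-transitive group of degree greater than `k+2` is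
`(k+1)`-transitive, unless `k+2 = 3` and it is an elementary abelian 2-group. -/
theorem jordan_aux (k : ℕ) : ∀ {G : Type u} [Group G] {X : Type v} [Finite X] [MulAction G X]
    [FaithfulSMul G X], IsMultiplyPretransitive G X (k + 2) → k + 2 < Nat.card X →
    ∀ (N : Subgroup G) [N.Normal], N ≠ ⊥ →
    IsMultiplyPretransitive N X (k + 1) ∨
      (k = 1 ∧ IsMulCommutative N ∧ ∀ n ∈ N, n ^ 2 = 1) := by
  induction k with
  | zero =>
    intro G _ X _ _ _ h2 hcard N _ hN
    left
    have hprim : IsPreprimitive G X := isPreprimitive_of_is_two_pretransitive h2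
    have htr : IsPretransitive N X := trans_of_normal (X := X) N hN
    exact is_one_pretransitive_iff.mpr htr
  | succ k ih =>
    intro G _ X _ _ _ hk hcard N _ hN
    have h2 : IsMultiplyPretransitive G X 2 :=
      isMultiplyPretransitive_of_le (n := k + 1 + 2) (by omega) (by omega)
    have hprim : IsPreprimitive G X := isPreprimitive_of_is_two_pretransitive h2
    have hGtr : IsPretransitive G X := hprim.toIsPretransitive
    have hNtr : IsPretransitive N X := trans_of_normal (X := X) N hN
    by_cases hreg : ∀ x : X, stabilizer N x = ⊥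
    · have hft := Fintype.ofFinite X
      have hcard' : k + 1 + 2 < Fintype.card X := by
        rw [← Nat.card_eq_fintype_card]
        exact hcard
      rcases Nat.eq_zero_or_pos k with rfl | hkpos
      · right
        have h2p : IsMultiplyPreprimitive G X 2 :=
          isMultiplyPreprimitive_of_isMultiplyPretransitive_succ G X (n := 2) (by
            rw [ENat.card_eq_coe_natCard]
            exact_mod_cast hcard.le)
        rcases RegNormal.two_prim (by omega) h2p N hNtr hreg with h | ⟨hc, hsq, -⟩
        · omega
        · exact ⟨rfl, hc, hsq⟩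
      · exfalso
        have h4 : IsMultiplyPretransitive G X 4 :=
          isMultiplyPretransitive_of_le (n := k + 1 + 2) (by omega) (by omega)
        have h3p : IsMultiplyPreprimitive G X 3 :=
          isMultiplyPreprimitive_of_isMultiplyPretransitive_succ G X (n := 3) (by
            rw [ENat.card_eq_coe_natCard]
            have : 4 ≤ Nat.card X := by omega
            exact_mod_cast this)
        rcases RegNormal.three_prim (by omega) h3p N hNtr hreg with h | h <;> omega
    · push Not at hreg
      obtain ⟨a, ha⟩ := hreg
      obtain ⟨t, htN, ht1, hta⟩ := exists_of_stab_ne_bot N a ha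
      have hH : IsMultiplyPretransitive (stabilizer G a) (ofStabilizer G a) (k + 2) :=
        ofStabilizer.isMultiplyPretransitive.mp hk
      have hcardY : k + 2 < Nat.card (ofStabilizer G a) := by
        rw [nat_card_ofStabilizer_eq]
        omega
      have hM : N.subgroupOf (stabilizer G a) ≠ ⊥ := subgroupOf_ne_bot N a t htN ht1 hta
      have hfaith := faithful_ofStabilizer (G := G) a
      rcases ih hH hcardY (N.subgroupOf (stabilizer G a)) hM with h | ⟨hk1, hc, hsq⟩
      · left
        exact transfer N a h
      · exfalso
        subst hk1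
        have h3 : IsMultiplyPretransitive G X 3 :=
          isMultiplyPretransitive_of_le (n := 1 + 1 + 2) (by omega) (by omega)
        have hH2 : IsMultiplyPretransitive (stabilizer G a) (ofStabilizer G a) 2 :=
          isMultiplyPretransitive_of_le (n := 1 + 2) (by omega) (by omega)
        have hHprim : IsPreprimitive (stabilizer G a) (ofStabilizer G a) :=
          isPreprimitive_of_is_two_pretransitive hH2
        have hMtr : IsPretransitive (N.subgroupOf (stabilizer G a)) (ofStabilizer G a) :=
          trans_of_normal (X := ofStabilizer G a) _ hM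
        have hcomm := isMulCommutative_iff.mp hc
        have hreg' : ∀ n ∈ N, n • a = a → ∀ y, y ≠ a → n • y = y → n = 1 := by
          intro n hnN hna y hy hny
          apply FaithfulSMul.eq_of_smul_eq_smul (α := X)
          intro x
          rw [one_smul]
          by_cases hx : x = a
          · rw [hx, hna]
          · obtain ⟨m, hm⟩ := exists_smul_eq (N.subgroupOf (stabilizer G a))
              (⟨y, hy⟩ : ofStabilizer G a) ⟨x, hx⟩
            have hm' : ((m : stabilizer G a) : G) • y = x := congrArg Subtype.val hm
            have hcm := hcomm ⟨⟨n, hna⟩, Subgroup.mem_subgroupOf.mpr hnN⟩ m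
            have hcm' : n * ((m : stabilizer G a) : G) = ((m : stabilizer G a) : G) * n :=
              congrArg (fun m : N.subgroupOf (stabilizer G a) => ((m : stabilizer G a) : G)) hcm
            rw [← hm', ← mul_smul, hcm', mul_smul, hny]
        have hexp' : ∀ n ∈ N, n • a = a → n ^ 2 = 1 := by
          intro n hnN hna
          have := hsq (⟨n, hna⟩ : stabilizer G a) (Subgroup.mem_subgroupOf.mpr hnN)
          exact congrArg Subtype.val this
        exact no_invol h3 (by omega) N a hreg' hexp' t htN ht1 hta

/-- Normal subgroups of multiply primitive groups, for faithful actions: in a `(k+1)`-primitive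
group not inducing the full symmetric group, a non-trivial non-regular normal subgroup is
`(k+1)`-transitive. -/
theorem kprim_aux (k : ℕ) : ∀ {G : Type u} [Group G] {X : Type v} [Finite X] [MulAction G X]
    [FaithfulSMul G X], IsMultiplyPreprimitive G X (k + 1) → k + 1 ≤ Nat.card X →
    ¬ Function.Surjective (MulAction.toPermHom G X) →
    ∀ (N : Subgroup G) [N.Normal], N ≠ ⊥ → (∃ a : X, stabilizer N a ≠ ⊥) →
    IsMultiplyPretransitive N X (k + 1) := by
  induction k with
  | zero =>
    intro G _ X _ _ _ hp hcard hns N _ hN _
    have hprim : IsPreprimitive G X := (is_one_preprimitive_iff G X).mp hp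
    have htr : IsPretransitive N X := trans_of_normal (X := X) N hN
    exact is_one_pretransitive_iff.mpr htr
  | succ k ih =>
    intro G _ X _ _ _ hp hcard hns N _ hN hnr
    have hkt : IsMultiplyPretransitive G X (k + 1 + 1) := hp.isMultiplyPretransitive
    have h1p : IsMultiplyPreprimitive G X 1 :=
      isMultiplyPreprimitive_of_le G X hp (by omega) (by
        rw [ENat.card_eq_coe_natCard]
        exact_mod_cast hcard)
    have hprim : IsPreprimitive G X := (is_one_preprimitive_iff G X).mp h1p
    have hGtr : IsPretransitive G X := hprim.toIsPretransitive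
    have hNtr : IsPretransitive N X := trans_of_normal (X := X) N hN
    obtain ⟨a, ha⟩ := hnr
    obtain ⟨t, htN, ht1, hta⟩ := exists_of_stab_ne_bot N a ha
    have hHp : IsMultiplyPreprimitive (stabilizer G a) (ofStabilizer G a) (k + 1) :=
      isMultiplyPreprimitive_ofStabilizer (M := G) (α := X) (n := k + 1) (a := a)
    have hcY : Nat.card (ofStabilizer G a) + 1 = Nat.card X :=
      nat_card_ofStabilizer_add_one_eq G a
    have hcardY : k + 1 ≤ Nat.card (ofStabilizer G a) := by omega
    have hM : N.subgroupOf (stabilizer G a) ≠ ⊥ := subgroupOf_ne_bot N a t htN ht1 hta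
    have hfaith := faithful_ofStabilizer (G := G) a
    have hns' := not_surj_stab a hns
    by_cases hregM : ∀ y : ofStabilizer G a, stabilizer (N.subgroupOf (stabilizer G a)) y = ⊥
    · have hH1p : IsMultiplyPreprimitive (stabilizer G a) (ofStabilizer G a) 1 :=
        isMultiplyPreprimitive_of_le _ _ hHp (by omega) (by
          rw [ENat.card_eq_coe_natCard]
          exact_mod_cast hcardY)
      have hHprim : IsPreprimitive (stabilizer G a) (ofStabilizer G a) :=
        (is_one_preprimitive_iff _ _).mp hH1p
      have hMtr : IsPretransitive (N.subgroupOf (stabilizer G a)) (ofStabilizer G a) :=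
        trans_of_normal (X := ofStabilizer G a) _ hM
      have hreg' := reg_of_stab_bot N a hregM
      rcases Nat.lt_or_ge k 1 with hk0 | hk1
      · have hk : k = 0 := by omega
        subst hk
        exact transfer N a (is_one_pretransitive_iff.mpr hMtr)
      · exfalso
        have hftY := Fintype.ofFinite (ofStabilizer G a)
        have hcYf : Nat.card (ofStabilizer G a) = Fintype.card (ofStabilizer G a) :=
          Nat.card_eq_fintype_card
        rcases Nat.lt_or_ge k 2 with hk2 | hk2
        · have hk : k = 1 := by omega
          subst hk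
          rcases RegNormal.two_prim (by omega) hHp (N.subgroupOf (stabilizer G a)) hMtr hregM
            with h | ⟨-, hsq, -⟩
          · apply hns
            apply surj_of_trans
            have e : Nat.card X - 1 = 3 := by omega
            rw [e]
            exact hkt
          · rcases Nat.lt_or_ge (Nat.card X) 4 with h4 | h4
            · apply hns
              apply surj_of_trans
              have h2t : IsMultiplyPretransitive G X 2 :=
                isMultiplyPretransitive_of_le (n := 1 + 1 + 1) (by omega) (by omega)
              have e : Nat.card X - 1 = 2 := by omega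
              rw [e]
              exact h2t
            · have hexp' : ∀ n ∈ N, n • a = a → n ^ 2 = 1 := by
                intro n hnN hna
                have := hsq (⟨n, hna⟩ : stabilizer G a) (Subgroup.mem_subgroupOf.mpr hnN)
                exact congrArg Subtype.val this
              exact no_invol hkt h4 N a hreg' hexp' t htN ht1 hta
        · have hH3p : IsMultiplyPreprimitive (stabilizer G a) (ofStabilizer G a) 3 :=
            isMultiplyPreprimitive_of_le _ _ hHp (by omega) (by
              rw [ENat.card_eq_coe_natCard]
              exact_mod_cast hcardY)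
          have hc34 := RegNormal.three_prim (by omega) hH3p (N.subgroupOf (stabilizer G a))
            hMtr hregM
          apply hns
          apply surj_of_trans
          exact isMultiplyPretransitive_of_le (n := k + 1 + 1) (by omega) (by omega)
    · push Not at hregM
      exact transfer N a (ih hHp hcardY hns' (N.subgroupOf (stabilizer G a)) hM hregM)

end Cfsg.Agent.Lib.helper15.Jordan
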