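import Mathlib
import Cfsg.Prelude.Def_Solvable

set_option autoImplicit false

namespace Cfsg.Agent.Lib.helper15.Knapp

open Subgroup

variable {G : Type*} [Group G]

/-- the `K`-invariant `p`-subgroups of `K` -/
def pNormSet (p : ℕ) (K : Subgroup G) : Set (Subgroup G) :=
  {N | N ≤ K ∧ K ≤ normalizer (N : Set G) ∧ IsPGroup p N}

/-- the relative `O_p(K)` of a subgroup `K`, as a subgroup of the ambient group -/
def relOp (p : ℕ) (K : Subgroup G) : Subgroup G := sSup (pNormSet p K)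

theorem bot_mem_pNormSet (p : ℕ) (K : Subgroup G) : ⊥ ∈ pNormSet p K := by
  refine ⟨bot_le, ?_, IsPGroup.of_bot⟩
  intro k _
  rw [Subgroup.mem_normalizer_iff]
  intro h
  simp [Subgroup.mem_bot]

theorem mem_normalizer_sup {N₁ N₂ : Subgroup G} {k : G} (h₁ : k ∈ normalizer (N₁ : Set G))
    (h₂ : k ∈ normalizer (N₂ : Set G)) : k ∈ normalizer ((N₁ ⊔ N₂ : Subgroup G) : Set G) := by
  rw [Subgroup.mem_normalizer_iff_map_conj_eq] at h₁ h₂ ⊢
  rw [Subgroup.map_sup, h₁, h₂]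

theorem sup_mem_pNormSet {p : ℕ} {K N₁ N₂ : Subgroup G}
    (h₁ : N₁ ∈ pNormSet p K) (h₂ : N₂ ∈ pNormSet p K) : N₁ ⊔ N₂ ∈ pNormSet p K := by
  refine ⟨sup_le h₁.1 h₂.1, fun k hk => mem_normalizer_sup (h₁.2.1 hk) (h₂.2.1 hk), ?_⟩
  exact IsPGroup.to_sup_of_normal_right' h₁.2.2 h₂.2.2 (h₁.1.trans h₂.2.1)

theorem relOp_mem [Finite G] (p : ℕ) (K : Subgroup G) : relOp p K ∈ pNormSet p K := by
  obtain ⟨N, hN, hmax⟩ := (Set.toFinite (pNormSet p K)).exists_maximal ⟨⊥, bot_mem_pNormSet p K⟩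
  have : relOp p K = N := by
    apply le_antisymm
    · apply sSup_le
      intro N' hN'
      have h1 := sup_mem_pNormSet hN' hN
      have h2 : N' ⊔ N ≤ N := hmax h1 le_sup_right
      exact le_sup_left.trans h2
    · exact le_sSup hN
  rw [this]; exact hN

theorem le_relOp {p : ℕ} {K N : Subgroup G} (h : N ∈ pNormSet p K) : N ≤ relOp p K := le_sSup h

theorem mem_map_conj {N : Subgroup G} {g x : G} :
    x ∈ N.map (MulAut.conj g).toMonoidHom ↔ g⁻¹ * x * g ∈ N := by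
  constructor
  · rintro ⟨y, hy, rfl⟩
    have : g⁻¹ * (MulAut.conj g).toMonoidHom y * g = y := by
      simp [MulAut.conj_apply, mul_assoc]
    rw [this]; exact hy
  · intro h
    refine ⟨g⁻¹ * x * g, h, ?_⟩
    simp [MulAut.conj_apply, mul_assoc]

theorem map_conj_mem_pNormSet {p : ℕ} {K N : Subgroup G} (h : N ∈ pNormSet p K) (g : G) :
    N.map (MulAut.conj g).toMonoidHom ∈ pNormSet p (K.map (MulAut.conj g).toMonoidHom) := by
  refine ⟨Subgroup.map_mono h.1, ?_, h.2.2.map _⟩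
  intro k' hk'
  have hk : g⁻¹ * k' * g ∈ K := mem_map_conj.mp hk'
  have hkn := h.2.1 hk
  rw [Subgroup.mem_normalizer_iff] at hkn ⊢
  intro x
  rw [mem_map_conj, mem_map_conj]
  have := hkn (g⁻¹ * x * g)
  rw [this]
  have e : g⁻¹ * k' * g * (g⁻¹ * x * g) * (g⁻¹ * k' * g)⁻¹ = g⁻¹ * (k' * x * k'⁻¹) * g := by group
  rw [e]

theorem map_conj_conj_inv (g : G) (K : Subgroup G) :
    (K.map (MulAut.conj g).toMonoidHom).map (MulAut.conj g⁻¹).toMonoidHom = K := by
  rw [Subgroup.map_map]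
  have : (MulAut.conj g⁻¹).toMonoidHom.comp (MulAut.conj g).toMonoidHom = MonoidHom.id G := by
    ext x
    simp [MulAut.conj_apply, mul_assoc]
  rw [this, Subgroup.map_id]

theorem relOp_conj [Finite G] (p : ℕ) (K : Subgroup G) (g : G) :
    relOp p (K.map (MulAut.conj g).toMonoidHom) = (relOp p K).map (MulAut.conj g).toMonoidHom := by
  apply le_antisymm
  · have h1 := map_conj_mem_pNormSet (relOp_mem p (K.map (MulAut.conj g).toMonoidHom)) g⁻¹
    rw [map_conj_conj_inv] at h1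
    have h2 := Subgroup.map_mono (f := (MulAut.conj g).toMonoidHom) (le_relOp h1)
    have h3 := map_conj_conj_inv g⁻¹ (relOp p (K.map (MulAut.conj g).toMonoidHom))
    rw [inv_inv] at h3
    rwa [h3] at h2
  · exact le_relOp (map_conj_mem_pNormSet (relOp_mem p K) g)

theorem normalizer_le_normalizer_relOp [Finite G] (p : ℕ) (K : Subgroup G) :
    normalizer (K : Set G) ≤ normalizer (relOp p K : Set G) := by
  intro g hg
  rw [Subgroup.mem_normalizer_iff_map_conj_eq] at hg ⊢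
  have hg' : K.map (MulAut.conj g).toMonoidHom = K := hg
  have h := relOp_conj p K g
  rw [hg'] at h
  exact h.symm

theorem exists_mul_of_mem_sup {A B : Subgroup G}
    (h : B ≤ Subgroup.normalizer (A : Set G)) {x : G} (hx : x ∈ A ⊔ B) :
    ∃ a ∈ A, ∃ b ∈ B, x = a * b := by
  rw [Subgroup.sup_eq_closure] at hx
  refine Subgroup.closure_induction ?_ ?_ ?_ ?_ hx
  · rintro x (hx | hx)
    · exact ⟨x, hx, 1, B.one_mem, by simp⟩
    · exact ⟨1, A.one_mem, x, hx, by simp⟩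
  · exact ⟨1, A.one_mem, 1, B.one_mem, by simp⟩
  · rintro _ _ _ _ ⟨a₁, ha₁, b₁, hb₁, rfl⟩ ⟨a₂, ha₂, b₂, hb₂, rfl⟩
    refine ⟨a₁ * (b₁ * a₂ * b₁⁻¹), A.mul_mem ha₁ ?_, b₁ * b₂, B.mul_mem hb₁ hb₂, by group⟩
    exact ((Subgroup.mem_normalizer_iff (H := A)).mp (h hb₁) a₂).mp ha₂
  · rintro _ _ ⟨a, ha, b, hb, rfl⟩
    refine ⟨b⁻¹ * a⁻¹ * b⁻¹⁻¹, ?_, b⁻¹, B.inv_mem hb, by group⟩
    exact ((Subgroup.mem_normalizer_iff (H := A)).mp (h (B.inv_mem hb)) a⁻¹).mp (A.inv_mem ha)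

/-- A nontrivial subgroup of a core-free coatom `A` normalized by `A` has normalizer `A`. -/
theorem normalizer_eq_of_coatom {A N : Subgroup G} (hA : IsCoatom A) (hcore : A.normalCore = ⊥)
    (hNA : N ≤ A) (hAn : A ≤ normalizer (N : Set G)) (hN : N ≠ ⊥) : normalizer (N : Set G) = A := by
  rcases eq_or_lt_of_le hAn with h | h
  · exact h.symm
  · have htop : normalizer (N : Set G) = ⊤ := hA.2 _ h
    have hn : N.Normal := Subgroup.normalizer_eq_top_iff.mp htop
    have : N ≤ A.normalCore := Subgroup.normal_le_normalCore.mpr hNA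
    rw [hcore] at this
    exact absurd (le_bot_iff.mp this) hN

/-- In a finite `p`-group `V`, a subgroup `N` such that every element of `V` normalizing `N`
lies in `N` is all of `V`. -/
theorem eq_of_self_normalizing [Finite G] {p : ℕ} [Fact p.Prime] {N V : Subgroup G} (hV : IsPGroup p V)
    (hNV : N ≤ V) (h : ∀ v ∈ V, v ∈ normalizer (N : Set G) → v ∈ N) : N = V := by
  by_contra hne
  have : Group.IsNilpotent V := hV.isNilpotent
  have hlt : N.subgroupOf V < ⊤ := by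
    rw [lt_top_iff_ne_top]
    intro htop
    rw [Subgroup.subgroupOf_eq_top] at htop
    exact hne (le_antisymm hNV htop)
  have hnc := Group.normalizerCondition_of_isNilpotent (G := V) (N.subgroupOf V) hlt
  obtain ⟨v, hv1, hv2⟩ := SetLike.exists_of_lt hnc
  apply hv2
  rw [Subgroup.mem_subgroupOf]
  apply h v v.2
  rw [Subgroup.mem_normalizer_iff] at hv1 ⊢
  intro x
  constructor
  · intro hx
    have := (hv1 ⟨x, hNV hx⟩).mp (by simpa [Subgroup.mem_subgroupOf] using hx)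
    simpa [Subgroup.mem_subgroupOf] using this
  · intro hx
    have hxV : x ∈ V := by
      have h1 : (v : G) * x * (v : G)⁻¹ ∈ V := hNV hx
      have h2 : x = (v : G)⁻¹ * ((v : G) * x * (v : G)⁻¹) * (v : G) := by group
      rw [h2]
      exact V.mul_mem (V.mul_mem (V.inv_mem v.2) h1) v.2
    have := (hv1 ⟨x, hxV⟩).mpr (by simpa [Subgroup.mem_subgroupOf] using hx)
    simpa [Subgroup.mem_subgroupOf] using this

/-- **Key lemma.** `A`, `B` distinct conjugate core-free coatoms, `K ≤ A ⊓ B` normalized by `A`.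
If `O_p(A ⊓ B) ≤ K`, then `O_p(A ⊓ B) = 1`. -/
theorem relOp_inf_eq_bot [Finite G] {p : ℕ} [Fact p.Prime] {A B K : Subgroup G} (g : G)
    (hA : IsCoatom A) (hcore : A.normalCore = ⊥)
    (hB : B = A.map (MulAut.conj g).toMonoidHom) (hne : A ≠ B)
    (hK : K ≤ A ⊓ B) (hKn : A ≤ normalizer (K : Set G))
    (hle : relOp p (A ⊓ B) ≤ K) : relOp p (A ⊓ B) = ⊥ := by
  by_contra hNbot
  have hNmem := relOp_mem p (A ⊓ B)
  have hKmem := relOp_mem p K
  have hAnK : A ≤ normalizer (relOp p K : Set G) := hKn.trans (normalizer_le_normalizer_relOp p K)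
  have h1 : relOp p (A ⊓ B) ≤ relOp p K := le_relOp ⟨hle, hK.trans hNmem.2.1, hNmem.2.2⟩
  have h2 : relOp p K ≤ relOp p (A ⊓ B) :=
    le_relOp ⟨hKmem.1.trans hK, (inf_le_left : A ⊓ B ≤ A).trans hAnK, hKmem.2.2⟩
  have hNK : relOp p (A ⊓ B) = relOp p K := le_antisymm h1 h2
  have hAnN : A ≤ normalizer (relOp p (A ⊓ B) : Set G) := by rw [hNK]; exact hAnK
  have hNA : relOp p (A ⊓ B) ≤ A := hNmem.1.trans inf_le_left
  have hNB : relOp p (A ⊓ B) ≤ B := hNmem.1.trans inf_le_right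
  have hnorm := normalizer_eq_of_coatom hA hcore hNA hAnN hNbot
  have hUBmem := relOp_mem p B
  have hUAmem := relOp_mem p A
  have hUBconj : relOp p B = (relOp p A).map (MulAut.conj g).toMonoidHom := by
    rw [hB]; exact relOp_conj p A g
  have hcard : Nat.card (relOp p B) = Nat.card (relOp p A) := by
    rw [hUBconj]; exact Subgroup.card_map_of_injective (MulAut.conj g).injective
  -- `O_p(B) ⊓ A ≤ N`
  have h5 : relOp p B ⊓ A ≤ relOp p (A ⊓ B) := by
    apply le_relOp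
    refine ⟨fun x hx => ⟨hx.2, hUBmem.1 hx.1⟩, ?_, hUBmem.2.2.to_le inf_le_left⟩
    intro h hh
    have hh1 := hUBmem.2.1 hh.2
    rw [Subgroup.mem_normalizer_iff] at hh1 ⊢
    intro x
    constructor
    · rintro ⟨hx1, hx2⟩
      exact ⟨(hh1 x).mp hx1, A.mul_mem (A.mul_mem hh.1 hx2) (A.inv_mem hh.1)⟩
    · rintro ⟨hx1, hx2⟩
      refine ⟨(hh1 x).mpr hx1, ?_⟩
      have : x = h⁻¹ * (h * x * h⁻¹) * h := by group
      rw [this]
      exact A.mul_mem (A.mul_mem (A.inv_mem hh.1) hx2) hh.1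
  -- the `p`-group `N ⊔ O_p(B)`
  have hNnB : relOp p (A ⊓ B) ≤ normalizer (relOp p B : Set G) := hNB.trans hUBmem.2.1
  have hV : IsPGroup p ((relOp p (A ⊓ B) ⊔ relOp p B : Subgroup G)) :=
    IsPGroup.to_sup_of_normal_right' hNmem.2.2 hUBmem.2.2 hNnB
  have hself : relOp p (A ⊓ B) = relOp p (A ⊓ B) ⊔ relOp p B := by
    apply eq_of_self_normalizing hV le_sup_left
    intro v hv hvn
    rw [hnorm] at hvn
    have hv' : v ∈ relOp p B ⊔ relOp p (A ⊓ B) := by rwa [sup_comm]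
    obtain ⟨u, hu, n, hn, rfl⟩ := exists_mul_of_mem_sup hNnB hv'
    have huA : u ∈ A := by
      have : u = (u * n) * n⁻¹ := by group
      rw [this]
      exact A.mul_mem hvn (A.inv_mem (hNA hn))
    exact (relOp p (A ⊓ B)).mul_mem (h5 ⟨hu, huA⟩) hn
  have hUBN : relOp p B ≤ relOp p (A ⊓ B) := by
    calc relOp p B ≤ relOp p (A ⊓ B) ⊔ relOp p B := le_sup_right
      _ = relOp p (A ⊓ B) := hself.symm
  have hNUA : relOp p (A ⊓ B) ≤ relOp p A := le_relOp ⟨hNA, hAnN, hNmem.2.2⟩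
  have hBA : relOp p B = relOp p A :=
    Subgroup.eq_of_le_of_card_ge (hUBN.trans hNUA) hcard.ge
  have hNeq : relOp p (A ⊓ B) = relOp p B := le_antisymm (hNUA.trans hBA.ge) hUBN
  have hBn : B ≤ normalizer (relOp p (A ⊓ B) : Set G) := by rw [hNeq]; exact hUBmem.2.1
  rw [hnorm] at hBn
  -- `B ≤ A` with equal cardinalities
  have hcardAB : Nat.card B = Nat.card A := by
    rw [hB]; exact Subgroup.card_map_of_injective (MulAut.conj g).injective
  exact hne (Subgroup.eq_of_le_of_card_ge hBn hcardAB.ge).symm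

end Cfsg.Agent.Lib.helper15.Knapp
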