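import Mathlib
import Cfsg.Prelude.Def_Solvable
import Cfsg.Agent.Lib.helper15.Knapp1

set_option autoImplicit false
set_option linter.style.haveILetI false

namespace Cfsg.Agent.Lib.helper15.Knapp

open Subgroup MulAction

/-- a normal subgroup of `↥A`, pushed to `G`, is normalized by `A` -/
theorem le_normalizer_map_subtype {G : Type*} [Group G] (A : Subgroup G) (N : Subgroup ↥A)
    [hN : N.Normal] : A ≤ normalizer ((N.map A.subtype : Subgroup G) : Set G) := by
  intro x hx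
  rw [Subgroup.mem_normalizer_iff]
  intro y
  constructor
  · rintro ⟨t, ht, rfl⟩
    exact ⟨⟨x, hx⟩ * t * ⟨x, hx⟩⁻¹, hN.conj_mem t ht ⟨x, hx⟩, by simp⟩
  · rintro ⟨t, ht, hte⟩
    refine ⟨⟨x, hx⟩⁻¹ * t * ⟨x, hx⟩, ?_, ?_⟩
    · have := hN.conj_mem t ht ⟨x, hx⟩⁻¹
      simpa using this
    · simp only [Subgroup.subtype_apply, Subgroup.coe_mul, Subgroup.coe_inv] at hte ⊢
      rw [hte]; group

/-- `F(H) = 1` when all relative `O_p(H)` are trivial -/
theorem fitting_eq_bot_of_relOp {G : Type*} [Group G] [Finite G] (H : Subgroup G)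
    (h : ∀ p : ℕ, p.Prime → relOp p H = ⊥) : Cfsg.fittingSubgroup ↥H = ⊥ := by
  unfold Cfsg.fittingSubgroup
  rw [sSup_eq_bot]
  rintro N ⟨hNn, hNnil⟩
  by_contra hNbot
  have hcard : Nat.card N ≠ 1 := fun h1 => hNbot (Subgroup.card_eq_one.mp h1)
  obtain ⟨p, hp, hpdvd⟩ := Nat.exists_prime_and_dvd hcard
  haveI : Fact p.Prime := ⟨hp⟩
  obtain ⟨P⟩ : Nonempty (Sylow p N) := inferInstance
  haveI hPn : (P : Subgroup N).Normal := inferInstance
  haveI : (P : Subgroup N).Characteristic := Sylow.characteristic_of_normal P hPn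
  have hPne : (P : Subgroup N) ≠ ⊥ := Sylow.ne_bot_of_dvd_card P hpdvd
  haveI hTn : ((P : Subgroup N).map N.subtype).Normal := ConjAct.normal_of_characteristic_of_normal
  have hTp : IsPGroup p ((P : Subgroup N).map N.subtype) := P.isPGroup'.map _
  have hmem : ((P : Subgroup N).map N.subtype).map H.subtype ∈ pNormSet p H :=
    ⟨Subgroup.map_subtype_le _, le_normalizer_map_subtype H _, hTp.map _⟩
  have hle := le_relOp hmem
  rw [h p hp, le_bot_iff] at hle
  have hT : (P : Subgroup N).map N.subtype = ⊥ :=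
    (Subgroup.map_eq_bot_iff_of_injective _ H.subtype_injective).mp hle
  exact hPne ((Subgroup.map_eq_bot_iff_of_injective _ N.subtype_injective).mp hT)

/-- basic facts on point stabilizers of a faithful primitive action -/
theorem stab_setup {G Ω : Type*} [Group G] [MulAction G Ω] [FaithfulSMul G Ω]
    (hprim : IsPreprimitive G Ω) (a b : Ω) (hab : ∃ h ∈ stabilizer G a, h • b ≠ b) :
    IsCoatom (stabilizer G a) ∧ (stabilizer G a).normalCore = ⊥ ∧
      stabilizer G a ≠ stabilizer G b ∧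
      ∃ g : G, g • a = b ∧ stabilizer G b = (stabilizer G a).map (MulAut.conj g).toMonoidHom := by
  obtain ⟨h, hh, hne⟩ := hab
  haveI : Nontrivial Ω := ⟨⟨h • b, b, hne⟩⟩
  haveI : IsPretransitive G Ω := hprim.toIsPretransitive
  refine ⟨(isCoatom_stabilizer_iff_preprimitive G a).mpr hprim, ?_, ?_, ?_⟩
  · rw [eq_bot_iff]
    intro n hn
    rw [Subgroup.mem_bot]
    apply FaithfulSMul.eq_of_smul_eq_smul (α := Ω)
    intro x
    obtain ⟨g, rfl⟩ := exists_smul_eq G a x
    have h1 : g⁻¹ * n * g⁻¹⁻¹ ∈ stabilizer G a := hn g⁻¹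
    rw [mem_stabilizer_iff] at h1
    rw [one_smul]
    have h2 : n • g • a = g • ((g⁻¹ * n * g⁻¹⁻¹) • a) := by
      rw [smul_smul, smul_smul]; congr 1; group
    rw [h2, h1]
  · intro hAB
    have : h ∈ stabilizer G b := hAB ▸ hh
    exact hne this
  · obtain ⟨g, hg⟩ := exists_smul_eq G a b
    exact ⟨g, hg, by rw [← hg]; exact stabilizer_smul_eq_stabilizer_map_conj g a⟩

theorem exists_moving_of_two_le {G Ω : Type*} [Group G] [MulAction G Ω] [Finite Ω] (a b : Ω)
    (h2 : 2 ≤ Nat.card (orbit (stabilizer G a) b)) : ∃ h ∈ stabilizer G a, h • b ≠ b := by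
  have : Nontrivial (orbit (stabilizer G a) b) := Finite.one_lt_card_iff_nontrivial.mp (by omega)
  obtain ⟨x, hx⟩ := exists_ne (⟨b, mem_orbit_self b⟩ : orbit (stabilizer G a) b)
  obtain ⟨h, hh⟩ := x.2
  refine ⟨(h : G), h.2, ?_⟩
  intro hb
  apply hx
  apply Subtype.ext
  rw [← hh]
  exact hb

/-- the kernel of `G_a` on the orbit of `b`, as a subgroup of `G` -/
def kerOn (G : Type*) {Ω : Type*} [Group G] [MulAction G Ω] (a b : Ω) : Subgroup G :=
  ((toPermHom (stabilizer G a) (orbit (stabilizer G a) b)).ker).map (stabilizer G a).subtype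

theorem mem_kerOn {G Ω : Type*} [Group G] [MulAction G Ω] {a b : Ω} {x : G} :
    x ∈ kerOn G a b ↔ x • a = a ∧ ∀ c ∈ orbit (stabilizer G a) b, x • c = c := by
  unfold kerOn
  constructor
  · rintro ⟨y, hy, rfl⟩
    refine ⟨y.2, fun c hc => ?_⟩
    have hy' : toPermHom (stabilizer G a) (orbit (stabilizer G a) b) y = 1 := MonoidHom.mem_ker.mp hy
    have := congrArg (fun σ : Equiv.Perm (orbit (stabilizer G a) b) => (σ ⟨c, hc⟩ : Ω)) hy'
    simp only [toPermHom_apply, toPerm_apply, Equiv.Perm.coe_one, id_eq] at this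
    exact this
  · rintro ⟨hx, hc⟩
    refine ⟨⟨x, hx⟩, ?_, rfl⟩
    apply MonoidHom.mem_ker.mpr
    ext c
    simp only [toPermHom_apply, toPerm_apply, Equiv.Perm.coe_one, id_eq]
    exact hc c.1 c.2

theorem kerOn_le {G Ω : Type*} [Group G] [MulAction G Ω] (a b : Ω) :
    kerOn G a b ≤ stabilizer G a ⊓ stabilizer G b := by
  intro x hx
  rw [mem_kerOn] at hx
  exact ⟨hx.1, hx.2 b (mem_orbit_self b)⟩

theorem le_normalizer_kerOn {G Ω : Type*} [Group G] [MulAction G Ω] (a b : Ω) :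
    stabilizer G a ≤ normalizer ((kerOn G a b : Subgroup G) : Set G) :=
  le_normalizer_map_subtype _ _

/-- From `F((G_a^Δ)_b) = 1`: `O_p(G_ab)` fixes `Δ` pointwise. -/
theorem relOp_le_kerOn {G Ω : Type*} [Group G] [Finite G] [MulAction G Ω] (a b : Ω) (p : ℕ)
    [Fact p.Prime]
    (hF : Cfsg.fittingSubgroup ↥(((stabilizer G b).subgroupOf (stabilizer G a)).map
      (toPermHom (stabilizer G a) (orbit (stabilizer G a) b))) = ⊥) :
    relOp p (stabilizer G a ⊓ stabilizer G b) ≤ kerOn G a b := by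
  classical
  set A := stabilizer G a with hA
  set B := stabilizer G b with hB
  set φ := toPermHom A (orbit A b) with hφ
  set L := (B.subgroupOf A).map φ with hL
  have hNmem := relOp_mem p (A ⊓ B)
  set N := relOp p (A ⊓ B) with hN
  -- the image of `N` in `L`
  set N₂ : Subgroup (Equiv.Perm (orbit A b)) := (N.subgroupOf A).map φ with hN₂
  have hN₂L : N₂ ≤ L := by
    apply Subgroup.map_mono
    intro x hx
    rw [Subgroup.mem_subgroupOf] at hx ⊢
    exact (hNmem.1 hx).2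
  have hfinL : Finite ↥L := by
    have : (L : Set (Equiv.Perm (orbit A b))) = φ '' (B.subgroupOf A : Set ↥A) := by
      rw [hL]; rfl
    have hfin : (L : Set (Equiv.Perm (orbit A b))).Finite := by
      rw [this]; exact (Set.toFinite _).image _
    exact hfin.to_subtype
  have hN₂p : IsPGroup p N₂ := (hNmem.2.2.comap_of_injective A.subtype A.subtype_injective).map φ
  have hN₃p : IsPGroup p (N₂.subgroupOf L) := hN₂p.comap_of_injective L.subtype L.subtype_injective
  have hN₃n : (N₂.subgroupOf L).Normal := by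
    constructor
    rintro ⟨x, hx⟩ hxN ⟨l, hl⟩
    rw [Subgroup.mem_subgroupOf] at hxN ⊢
    obtain ⟨n, hn, hnx⟩ := hxN
    obtain ⟨h, hh, hhl⟩ := hl
    simp only [Subgroup.coe_mul, Subgroup.coe_inv] at hnx ⊢
    refine ⟨h * n * h⁻¹, ?_, ?_⟩
    · have hn' : (n : G) ∈ N := Subgroup.mem_subgroupOf.mp hn
      have hh' : (h : G) ∈ B := Subgroup.mem_subgroupOf.mp hh
      apply Subgroup.mem_subgroupOf.mpr
      have hhH : (h : G) ∈ A ⊓ B := ⟨h.2, hh'⟩
      have := hNmem.2.1 hhH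
      rw [Subgroup.mem_normalizer_iff] at this
      simpa using (this (n : G)).mp hn'
    · rw [map_mul, map_mul, map_inv, hnx, hhl]
  have hnil : Group.IsNilpotent ↥(N₂.subgroupOf L) := hN₃p.isNilpotent
  have hle : N₂.subgroupOf L ≤ Cfsg.fittingSubgroup ↥L := le_sSup ⟨hN₃n, hnil⟩
  rw [hF, le_bot_iff, Subgroup.subgroupOf_eq_bot] at hle
  have hN₂bot : N₂ = ⊥ := by
    rw [eq_bot_iff]
    intro x hx
    exact (Subgroup.disjoint_def.mp hle) hx (hN₂L hx)
  intro n hn
  have hnA : n ∈ A := (hNmem.1 hn).1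
  refine ⟨⟨n, hnA⟩, ?_, rfl⟩
  apply MonoidHom.mem_ker.mpr
  have : φ ⟨n, hnA⟩ ∈ N₂ := ⟨⟨n, hnA⟩, by simpa [Subgroup.mem_subgroupOf] using hn, rfl⟩
  rw [hN₂bot, Subgroup.mem_bot] at this
  exact this

/-- **Knapp, first half**: if `(G_a^Δ)_b` has trivial Fitting subgroup, then so has `G_ab`. -/
theorem fitting_two_point_eq_bot {G Ω : Type*} [Group G] [Finite G] [MulAction G Ω]
    [FaithfulSMul G Ω] [Finite Ω] (hprim : IsPreprimitive G Ω) (a b : Ω)
    (h2 : 2 ≤ Nat.card (orbit (stabilizer G a) b))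
    (hF : Cfsg.fittingSubgroup ↥(((stabilizer G b).subgroupOf (stabilizer G a)).map
      (toPermHom (stabilizer G a) (orbit (stabilizer G a) b))) = ⊥) :
    ∀ p : ℕ, p.Prime → relOp p (stabilizer G a ⊓ stabilizer G b) = ⊥ := by
  intro p hp
  haveI : Fact p.Prime := ⟨hp⟩
  obtain ⟨hco, hcore, hne, g, -, hg⟩ := stab_setup hprim a b (exists_moving_of_two_le a b h2)
  exact relOp_inf_eq_bot g hco hcore hg hne (kerOn_le a b) (le_normalizer_kerOn a b)
    (relOp_le_kerOn a b p hF)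

end Cfsg.Agent.Lib.helper15.Knapp
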