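import Mathlib
import Cfsg.Prelude.Def_Solvable
import Cfsg.Agent.Lib.helper15.Knapp2
import Cfsg.Agent.Lib.helper73.TWD

set_option autoImplicit false

namespace Cfsg.Agent.Lib.helper15.Knapp

open Subgroup MulAction

theorem relIndex_inf_stab {G Ω : Type*} [Group G] [MulAction G Ω] (a b : Ω) :
    (stabilizer G a ⊓ stabilizer G b).relIndex (stabilizer G a) =
      Nat.card (orbit (stabilizer G a) b) := by
  rw [Subgroup.inf_relIndex_left]
  have h1 : (stabilizer G b).subgroupOf (stabilizer G a) = stabilizer (stabilizer G a) b := by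
    ext x
    rw [Subgroup.mem_subgroupOf, mem_stabilizer_iff, mem_stabilizer_iff]
    rfl
  rw [Subgroup.relIndex, h1, MulAction.index_stabilizer, Nat.card_coe_set_eq]

theorem card_mul_relIndex_of_le {G : Type*} [Group G] {H K : Subgroup G} (h : H ≤ K) :
    Nat.card H * H.relIndex K = Nat.card K := by
  have := Subgroup.relIndex_mul_relIndex (H := (⊥ : Subgroup G)) (K := H) (L := K) bot_le h
  rwa [Subgroup.relIndex_bot_left, Subgroup.relIndex_bot_left] at this

theorem relIndex_inf_stab' {G Ω : Type*} [Group G] [Finite G] [MulAction G Ω] (a b : Ω)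
    (hcard : Nat.card (stabilizer G a) = Nat.card (stabilizer G b)) :
    (stabilizer G a ⊓ stabilizer G b).relIndex (stabilizer G b) =
      Nat.card (orbit (stabilizer G a) b) := by
  rw [← relIndex_inf_stab]
  have h1 := card_mul_relIndex_of_le (inf_le_left : stabilizer G a ⊓ stabilizer G b ≤ stabilizer G a)
  have h2 := card_mul_relIndex_of_le (inf_le_right : stabilizer G a ⊓ stabilizer G b ≤ stabilizer G b)
  rw [hcard, ← h2] at h1
  have hpos : 0 < Nat.card (stabilizer G a ⊓ stabilizer G b : Subgroup G) := Nat.card_pos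
  exact (Nat.eq_of_mul_eq_mul_left hpos h1).symm

/-- **Knapp, second half** (modulo the index count for the second core, given as `hcount`):
if all `O_p(G_ab)` are trivial then `|G_a|` divides `d! ((d-1)!)^d`. -/
theorem knapp_bound {G Ω : Type*} [Group G] [Finite G] [MulAction G Ω] [FaithfulSMul G Ω]
    [Finite Ω] (hprim : IsPreprimitive G Ω) (a b : Ω) (d : ℕ)
    (hd : Nat.card (orbit (stabilizer G a) b) = d) (h2 : 2 ≤ d)
    (hO : ∀ p : ℕ, p.Prime → relOp p (stabilizer G a ⊓ stabilizer G b) = ⊥)
    (hcount : ∀ M M' : Subgroup G, (M ⊓ M').relIndex M = d → (M ⊓ M').relIndex M' = d →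
      (Cfsg.Agent.Lib.helper73.TW.X M M').relIndex M ∣ d.factorial * ((d - 1).factorial) ^ d) :
    Nat.card (stabilizer G a) ∣ d.factorial * ((d - 1).factorial) ^ d := by
  obtain ⟨hco, hcore, hne, g, -, hg⟩ :=
    stab_setup hprim a b (exists_moving_of_two_le a b (hd ▸ h2))
  have hcfg : Cfsg.Agent.Lib.helper73.TW.Cfg (stabilizer G a) (stabilizer G b) :=
    ⟨hco, hcore, hne, ⟨g, hg⟩⟩
  have hcard : Nat.card (stabilizer G a) = Nat.card (stabilizer G b) := by
    rw [hg]; exact (Subgroup.card_map_of_injective (MulAut.conj g).injective).symm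
  have hdA : (stabilizer G a ⊓ stabilizer G b).relIndex (stabilizer G a) = d := by
    rw [relIndex_inf_stab, hd]
  have hdB : (stabilizer G a ⊓ stabilizer G b).relIndex (stabilizer G b) = d := by
    rw [relIndex_inf_stab' a b hcard, hd]
  by_cases hX : Cfsg.Agent.Lib.helper73.TW.X (stabilizer G a) (stabilizer G b) = ⊥
  · have := hcount _ _ hdA hdB
    rwa [hX, Subgroup.relIndex_bot_left] at this
  · by_cases hY : Cfsg.Agent.Lib.helper73.TW.X (stabilizer G b) (stabilizer G a) = ⊥
    · have := hcount (stabilizer G b) (stabilizer G a) (by rw [inf_comm]; exact hdB)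
        (by rw [inf_comm]; exact hdA)
      rw [hY, Subgroup.relIndex_bot_left] at this
      rwa [hcard]
    · exfalso
      obtain ⟨p, hp, -, hXp, -⟩ := Cfsg.Agent.Lib.helper73.TW.main hcfg hX hY
      have hle : Cfsg.Agent.Lib.helper73.TW.X (stabilizer G a) (stabilizer G b) ≤
          relOp p (stabilizer G a ⊓ stabilizer G b) :=
        le_relOp ⟨le_inf (Cfsg.Agent.Lib.helper73.TW.X_le_left _ _)
          (Cfsg.Agent.Lib.helper73.TW.X_le_right _ _),
          inf_le_left.trans (Cfsg.Agent.Lib.helper73.TW.le_normalizer_X _ _), hXp⟩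
      rw [hO p hp, le_bot_iff] at hle
      exact hX hle

end Cfsg.Agent.Lib.helper15.Knapp
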