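import Mathlib
import Cfsg.Agent.Lib.helper44.LODefs

set_option autoImplicit false

namespace Cfsg.Agent.Lib.helper44.LO




theorem helper15_lo_arith {p : ℕ} (hp : p.Prime) (f : ℕ) (c n N M e : ℕ)
    (hc : c * n = (p ^ f) ^ N * M) (hcp : ¬ p ∣ c) (hMp : ¬ p ∣ M) (hM : M < c * (p ^ f) ^ e) :
    n.factorization p = f * N ∧ n < (p ^ f) ^ (N + e) := by
  have hc0 : c ≠ 0 := by rintro rfl; exact hcp (dvd_zero p)
  have hM0 : M ≠ 0 := by rintro rfl; exact hMp (dvd_zero p)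
  have hq0 : (p ^ f) ^ N ≠ 0 := pow_ne_zero _ (pow_ne_zero _ hp.ne_zero)
  have hn0 : n ≠ 0 := by
    rintro rfl
    rw [mul_zero] at hc
    exact (mul_ne_zero hq0 hM0) hc.symm
  refine ⟨?_, ?_⟩
  · have h1 : (c * n).factorization p = n.factorization p := by
      rw [Nat.factorization_mul hc0 hn0, Finsupp.add_apply, Nat.factorization_eq_zero_of_not_dvd hcp,
        zero_add]
    have h2 : ((p ^ f) ^ N * M).factorization p = f * N := by
      rw [Nat.factorization_mul hq0 hM0, Finsupp.add_apply, Nat.factorization_eq_zero_of_not_dvd hMp,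
        add_zero, ← pow_mul, hp.factorization_pow, Finsupp.single_eq_same]
    rw [← h1, hc, h2]
  · have h3 : c * n < c * (p ^ f) ^ (N + e) := by
      rw [hc, pow_add]
      calc (p ^ f) ^ N * M < (p ^ f) ^ N * (c * (p ^ f) ^ e) :=
            Nat.mul_lt_mul_of_pos_left hM (Nat.pos_of_ne_zero hq0)
        _ = c * ((p ^ f) ^ N * (p ^ f) ^ e) := by ring
    exact Nat.lt_of_mul_lt_mul_left h3

theorem helper15_lo_good {p : ℕ} (hp : p.Prime) (f : ℕ) (c n N M e : ℕ)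
    (hc : c * n = (p ^ f) ^ N * M) (hcp : ¬ p ∣ c) (hMp : ¬ p ∣ M) (hM : M < c * (p ^ f) ^ e)
    (h1 : e ≤ 2 * N) (h2 : 3 * e ≤ 5 * N) : LOGood p n := by
  obtain ⟨hk, hlt⟩ := helper15_lo_arith hp f c n N M e hc hcp hMp hM
  rw [← pow_mul] at hlt
  refine ⟨?_, ?_⟩
  · rw [hk]
    refine lt_of_lt_of_le hlt (Nat.pow_le_pow_right hp.pos ?_)
    have : f * (N + e) ≤ f * (3 * N) := Nat.mul_le_mul_left f (by omega)
    calc f * (N + e) ≤ f * (3 * N) := this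
      _ = 3 * (f * N) := by ring
  · rw [hk]
    have h3 : n ^ 3 < (p ^ (f * (N + e))) ^ 3 := Nat.pow_lt_pow_left hlt (by norm_num)
    rw [← pow_mul] at h3
    refine lt_of_lt_of_le h3 (Nat.pow_le_pow_right hp.pos ?_)
    have : f * (3 * (N + e)) ≤ f * (8 * N) := Nat.mul_le_mul_left f (by omega)
    calc f * (N + e) * 3 = f * (3 * (N + e)) := by ring
      _ ≤ f * (8 * N) := this
      _ = 8 * (f * N) := by ring

theorem helper15_not_dvd_pow_sub_one {p : ℕ} (hp : p.Prime) (f j : ℕ) (hf : 1 ≤ f) (hj : 1 ≤ j) :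
    ¬ p ∣ (p ^ f) ^ j - 1 := by
  intro h
  have h1 : p ∣ (p ^ f) ^ j := by
    rw [← pow_mul]
    exact dvd_pow_self p (by positivity)
  have h2 : 1 ≤ (p ^ f) ^ j := Nat.one_le_pow _ _ (pow_pos hp.pos _)
  have h3 : p ∣ (p ^ f) ^ j - ((p ^ f) ^ j - 1) := Nat.dvd_sub h1 h
  rw [Nat.sub_sub_self h2] at h3
  exact hp.one_lt.ne' (Nat.dvd_one.mp h3)

theorem helper15_pow_sub_one_lt {p : ℕ} (hp : p.Prime) (f j : ℕ) :
    (p ^ f) ^ j - 1 < (p ^ f) ^ j :=
  Nat.sub_lt (pow_pos (pow_pos hp.pos _) _) Nat.one_pos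

end Cfsg.Agent.Lib.helper44.LO
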