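import Mathlib
import Cfsg.Agent.Lib.helper44.LODefs
import Cfsg.Agent.Lib.helper15.LOCore

set_option autoImplicit false

namespace Cfsg.Agent.Lib.helper44.LO

theorem helper15_not_dvd_add_one {p a : ℕ} (hp : p.Prime) (h : p ∣ a) : ¬ p ∣ a + 1 := by
  intro h1
  exact hp.one_lt.ne' (Nat.dvd_one.mp ((Nat.dvd_add_right h).mp h1))

theorem helper15_sub_one_mul_add_one_lt {x y : ℕ} (hx : 1 ≤ x) (hxy : x ≤ y) :
    (x - 1) * (y + 1) < x * y := by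
  obtain ⟨x', rfl⟩ : ∃ x', x = x' + 1 := ⟨x - 1, by omega⟩
  simp only [Nat.add_sub_cancel]
  nlinarith

theorem helper15_qpow_mixed_lt {q : ℕ} (hq : 1 ≤ q) (a b : ℕ) (hab : a ≤ b) :
    (q ^ a - 1) * (q ^ b + 1) < q ^ (a + b) := by
  rw [pow_add]
  exact helper15_sub_one_mul_add_one_lt (Nat.one_le_pow _ _ hq) (Nat.pow_le_pow_right hq hab)

theorem helper15_td4_ineq (q : ℕ) (hq : 1 ≤ q) : (q ^ 2 - 1) * (q ^ 8 + q ^ 4 + 1) < q ^ 10 := by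
  obtain ⟨x, hx⟩ : ∃ x, q ^ 2 = x + 1 := ⟨q ^ 2 - 1, by have := Nat.one_le_pow 2 q hq; omega⟩
  have e8 : q ^ 8 = (q ^ 2) ^ 4 := by ring
  have e4 : q ^ 4 = (q ^ 2) ^ 2 := by ring
  have e10 : q ^ 10 = (q ^ 2) ^ 5 := by ring
  rw [e8, e4, e10, hx]
  simp only [Nat.add_sub_cancel]
  have h : (x + 1) ^ 5 = x * ((x + 1) ^ 4 + (x + 1) ^ 2 + 1) +
      (x ^ 4 + 3 * x ^ 3 + 4 * x ^ 2 + 2 * x + 1) := by ring
  rw [h]
  exact Nat.lt_add_of_pos_right (by positivity)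

/-- `q` with `q ^ d = |K|` (`d ≥ 1`), `K` of characteristic `p`, is a positive power of `p`. -/
theorem helper15_twisted_q {K : Type} [Field K] [Fintype K] (p : ℕ) (hp : p.Prime) [CharP K p]
    (q d : ℕ) (hd : d ≠ 0) (hq : IsPrimePow q) (hK : Fintype.card K = q ^ d) :
    ∃ j, 1 ≤ j ∧ q = p ^ j := by
  obtain ⟨n, -, hn⟩ := FiniteField.card K p
  have hqd : q ∣ p ^ (n : ℕ) := by
    rw [← hn, hK]
    exact dvd_pow_self q hd
  obtain ⟨j, -, rfl⟩ := (Nat.dvd_prime_pow hp).mp hqd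
  refine ⟨j, ?_, rfl⟩
  rcases Nat.eq_zero_or_pos j with rfl | h
  · exact absurd hq.one_lt (by simp)
  · exact h

end Cfsg.Agent.Lib.helper44.LO
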