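import Mathlib
import Cfsg.Prelude.Def_LieTypeChar
import Cfsg.Agent.Lib.helper44.LODefs
import Cfsg.Agent.Lib.helper15.LOCore
import Cfsg.Agent.S1065

set_option autoImplicit false

namespace Cfsg.Agent.Lib.helper44.LO

open Cfsg

/-- E8 (prefixed racer copy of `lo_e8`). -/
theorem helper15_lo_e8 {F : Type} [Field F] [Fintype F] (p : ℕ) (hp : p.Prime) [CharP F p] :
    LOGood p (Nat.card ↥(Cfsg.Lie.chevE8.group F)) := by
  obtain ⟨f, -, hq⟩ := FiniteField.card F p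
  have hf : 1 ≤ (f : ℕ) := f.pos
  have hcard := Cfsg.Agent.S1065.result (F := F) hq
  refine helper15_lo_good hp (f : ℕ) 1 _ 120
    (((p ^ (f : ℕ)) ^ 2 - 1) * ((p ^ (f : ℕ)) ^ 8 - 1) * ((p ^ (f : ℕ)) ^ 12 - 1) * ((p ^ (f : ℕ)) ^ 14 - 1) * ((p ^ (f : ℕ)) ^ 18 - 1) * ((p ^ (f : ℕ)) ^ 20 - 1) * ((p ^ (f : ℕ)) ^ 24 - 1) * ((p ^ (f : ℕ)) ^ 30 - 1)) 128 ?_ ?_ ?_ ?_ (by norm_num) (by norm_num)
  · rw [one_mul, hcard]
    simp only [mul_assoc]
  · intro h
    exact hp.one_lt.ne' (Nat.dvd_one.mp h)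
  · intro h
    rcases (Nat.Prime.dvd_mul hp).mp h with h | h
    · rcases (Nat.Prime.dvd_mul hp).mp h with h | h
      · rcases (Nat.Prime.dvd_mul hp).mp h with h | h
        · rcases (Nat.Prime.dvd_mul hp).mp h with h | h
          · rcases (Nat.Prime.dvd_mul hp).mp h with h | h
            · rcases (Nat.Prime.dvd_mul hp).mp h with h | h
              · rcases (Nat.Prime.dvd_mul hp).mp h with h | h
                · exact helper15_not_dvd_pow_sub_one hp f 2 hf (by norm_num) h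
                · exact helper15_not_dvd_pow_sub_one hp f 8 hf (by norm_num) h
              · exact helper15_not_dvd_pow_sub_one hp f 12 hf (by norm_num) h
            · exact helper15_not_dvd_pow_sub_one hp f 14 hf (by norm_num) h
          · exact helper15_not_dvd_pow_sub_one hp f 18 hf (by norm_num) h
        · exact helper15_not_dvd_pow_sub_one hp f 20 hf (by norm_num) h
      · exact helper15_not_dvd_pow_sub_one hp f 24 hf (by norm_num) h
    · exact helper15_not_dvd_pow_sub_one hp f 30 hf (by norm_num) h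
  · have h8 := (Nat.mul_lt_mul'' (Nat.mul_lt_mul'' (Nat.mul_lt_mul'' (Nat.mul_lt_mul'' (Nat.mul_lt_mul'' (Nat.mul_lt_mul'' (Nat.mul_lt_mul'' (helper15_pow_sub_one_lt hp f 2) (helper15_pow_sub_one_lt hp f 8)) (helper15_pow_sub_one_lt hp f 12)) (helper15_pow_sub_one_lt hp f 14)) (helper15_pow_sub_one_lt hp f 18)) (helper15_pow_sub_one_lt hp f 20)) (helper15_pow_sub_one_lt hp f 24)) (helper15_pow_sub_one_lt hp f 30))
    calc _ < (p ^ (f : ℕ)) ^ 2 * (p ^ (f : ℕ)) ^ 8 * (p ^ (f : ℕ)) ^ 12 * (p ^ (f : ℕ)) ^ 14 * (p ^ (f : ℕ)) ^ 18 * (p ^ (f : ℕ)) ^ 20 * (p ^ (f : ℕ)) ^ 24 * (p ^ (f : ℕ)) ^ 30 := h8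
      _ = 1 * (p ^ (f : ℕ)) ^ 128 := by ring

end Cfsg.Agent.Lib.helper44.LO
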