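import Mathlib
import Cfsg.Prelude.Def_LieTypeChar
import Cfsg.Agent.Lib.helper44.LODefs
import Cfsg.Agent.Lib.helper15.LOCore
import Cfsg.Agent.S1062

set_option autoImplicit false

namespace Cfsg.Agent.Lib.helper44.LO

open Cfsg

/-- F4. -/
theorem lo_f4 {F : Type} [Field F] [Fintype F] (p : ℕ) (hp : p.Prime) [CharP F p] :
    LOGood p (Nat.card ↥(Cfsg.Lie.chevF4.group F)) := by
  obtain ⟨f, -, hq⟩ := FiniteField.card F p
  have hf : 1 ≤ (f : ℕ) := f.pos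
  have hcard := Cfsg.Agent.S1062.result (F := F) hq
  refine helper15_lo_good hp (f : ℕ) 1 _ 24
    (((p ^ (f : ℕ)) ^ 2 - 1) * ((p ^ (f : ℕ)) ^ 6 - 1) * ((p ^ (f : ℕ)) ^ 8 - 1) *
      ((p ^ (f : ℕ)) ^ 12 - 1)) 28 ?_ ?_ ?_ ?_ (by norm_num) (by norm_num)
  · rw [one_mul, hcard]
    simp only [mul_assoc]
  · intro h
    exact hp.one_lt.ne' (Nat.dvd_one.mp h)
  · intro h
    rcases (Nat.Prime.dvd_mul hp).mp h with h | h
    · rcases (Nat.Prime.dvd_mul hp).mp h with h | h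
      · rcases (Nat.Prime.dvd_mul hp).mp h with h | h
        · exact helper15_not_dvd_pow_sub_one hp f 2 hf (by norm_num) h
        · exact helper15_not_dvd_pow_sub_one hp f 6 hf (by norm_num) h
      · exact helper15_not_dvd_pow_sub_one hp f 8 hf (by norm_num) h
    · exact helper15_not_dvd_pow_sub_one hp f 12 hf (by norm_num) h
  · have h4 := Nat.mul_lt_mul'' (Nat.mul_lt_mul'' (Nat.mul_lt_mul''
      (helper15_pow_sub_one_lt hp f 2) (helper15_pow_sub_one_lt hp f 6))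
      (helper15_pow_sub_one_lt hp f 8)) (helper15_pow_sub_one_lt hp f 12)
    calc _ < (p ^ (f : ℕ)) ^ 2 * (p ^ (f : ℕ)) ^ 6 * (p ^ (f : ℕ)) ^ 8 * (p ^ (f : ℕ)) ^ 12 := h4
      _ = 1 * (p ^ (f : ℕ)) ^ 28 := by ring

end Cfsg.Agent.Lib.helper44.LO
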