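import Mathlib
import Cfsg.Prelude.Def_LieTypeChar
import Cfsg.Agent.Lib.helper44.LODefs
import Cfsg.Agent.Lib.helper15.LOCore
import Cfsg.Agent.S1059

set_option autoImplicit false

namespace Cfsg.Agent.Lib.helper44.LO

open Cfsg

/-- G2 (prefixed racer copy of `lo_g2`). -/
theorem helper15_lo_g2 {F : Type} [Field F] [Fintype F] (p : ℕ) (hp : p.Prime) [CharP F p] :
    LOGood p (Nat.card ↥(Cfsg.Lie.chevG2.group F)) := by
  obtain ⟨f, -, hq⟩ := FiniteField.card F p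
  have hf : 1 ≤ (f : ℕ) := f.pos
  have hcard := Cfsg.Agent.S1059.result (F := F) hq
  refine helper15_lo_good hp (f : ℕ) 1 _ 6
    (((p ^ (f : ℕ)) ^ 2 - 1) * ((p ^ (f : ℕ)) ^ 6 - 1)) 8 ?_ ?_ ?_ ?_ (by norm_num) (by norm_num)
  · rw [one_mul, hcard]
    simp only [mul_assoc]
  · intro h
    exact hp.one_lt.ne' (Nat.dvd_one.mp h)
  · intro h
    rcases (Nat.Prime.dvd_mul hp).mp h with h | h
    · exact helper15_not_dvd_pow_sub_one hp f 2 hf (by norm_num) h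
    · exact helper15_not_dvd_pow_sub_one hp f 6 hf (by norm_num) h
  · have h2 := Nat.mul_lt_mul'' (helper15_pow_sub_one_lt hp f 2) (helper15_pow_sub_one_lt hp f 6)
    calc _ < (p ^ (f : ℕ)) ^ 2 * (p ^ (f : ℕ)) ^ 6 := h2
      _ = 1 * (p ^ (f : ℕ)) ^ 8 := by ring

end Cfsg.Agent.Lib.helper44.LO
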