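import Mathlib
import Cfsg.Prelude.Def_LieTypeChar
import Cfsg.Agent.Lib.helper44.LODefs
import Cfsg.Agent.Lib.helper15.LOCore
import Cfsg.Agent.Lib.helper15.LOCore2
import Cfsg.Agent.S1067

set_option autoImplicit false

namespace Cfsg.Agent.Lib.helper44.LO

open Cfsg

/-- TD4 (prefixed racer copy of `lo_td4`). -/
theorem helper15_lo_td4 {K : Type} [Field K] [Fintype K] (p : ℕ) (hp : p.Prime) [CharP K p] (q : ℕ) (hq : IsPrimePow q)
    (hK : Fintype.card K = q ^ 3) : LOGood p (Nat.card ↥(Cfsg.Lie.twistedD4 K q)) := by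
  obtain ⟨j, hj, rfl⟩ := helper15_twisted_q p hp q 3 (by norm_num) hq hK
  have hcard := Cfsg.Agent.S1067.result (K := K) hq hK
  have hq1 : 1 ≤ p ^ j := Nat.one_le_pow _ _ hp.pos
  have hpq : p ∣ p ^ j := dvd_pow_self p (by omega)
  refine helper15_lo_good hp j 1 _ 12
    (((p ^ j) ^ 2 - 1) * ((p ^ j) ^ 6 - 1) * ((p ^ j) ^ 8 + (p ^ j) ^ 4 + 1)) 16 ?_ ?_ ?_ ?_
    (by norm_num) (by norm_num)
  · rw [one_mul, hcard]
    simp only [mul_assoc]
  · intro h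
    exact hp.one_lt.ne' (Nat.dvd_one.mp h)
  · intro h
    rcases (Nat.Prime.dvd_mul hp).mp h with h | h
    · rcases (Nat.Prime.dvd_mul hp).mp h with h | h
      · exact helper15_not_dvd_pow_sub_one hp j 2 hj (by norm_num) h
      · exact helper15_not_dvd_pow_sub_one hp j 6 hj (by norm_num) h
    · exact helper15_not_dvd_add_one hp
        (dvd_add (dvd_pow hpq (by norm_num)) (dvd_pow hpq (by norm_num))) h
  · calc ((p ^ j) ^ 2 - 1) * ((p ^ j) ^ 6 - 1) * ((p ^ j) ^ 8 + (p ^ j) ^ 4 + 1)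
        = (((p ^ j) ^ 2 - 1) * ((p ^ j) ^ 8 + (p ^ j) ^ 4 + 1)) * ((p ^ j) ^ 6 - 1) := by ring
      _ < (p ^ j) ^ 10 * (p ^ j) ^ 6 :=
          Nat.mul_lt_mul'' (helper15_td4_ineq _ hq1) (helper15_pow_sub_one_lt hp j 6)
      _ = 1 * (p ^ j) ^ 16 := by ring

end Cfsg.Agent.Lib.helper44.LO
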