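import Mathlib
import Cfsg.Prelude.Def_LieTypeChar
import Cfsg.Agent.Lib.helper44.LODefs
import Cfsg.Agent.Lib.helper15.LOCore
import Cfsg.Agent.Lib.helper15.LOCore2
import Cfsg.Agent.S1066

set_option autoImplicit false

namespace Cfsg.Agent.Lib.helper44.LO

open Cfsg

/-- TE6 (prefixed racer copy of `lo_te6`). -/
theorem helper15_lo_te6 {K : Type} [Field K] [Fintype K] (p : ℕ) (hp : p.Prime) [CharP K p] (q : ℕ) (hq : IsPrimePow q)
    (hK : Fintype.card K = q ^ 2) : LOGood p (Nat.card ↥(Cfsg.Lie.twistedE6 K q)) := by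
  obtain ⟨j, hj, rfl⟩ := helper15_twisted_q p hp q 2 (by norm_num) hq hK
  have hcard := Cfsg.Agent.S1066.result (K := K) hq hK
  have hq1 : 1 ≤ p ^ j := Nat.one_le_pow _ _ hp.pos
  have hpq : p ∣ p ^ j := dvd_pow_self p (by omega)
  refine helper15_lo_good hp j (Nat.gcd 3 (p ^ j + 1)) _ 36
    (((p ^ j) ^ 2 - 1) * ((p ^ j) ^ 5 + 1) * ((p ^ j) ^ 6 - 1) * ((p ^ j) ^ 8 - 1) *
      ((p ^ j) ^ 9 + 1) * ((p ^ j) ^ 12 - 1)) 42 ?_ ?_ ?_ ?_ (by norm_num) (by norm_num)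
  · rw [hcard]
    simp only [mul_assoc]
  · intro h
    exact helper15_not_dvd_add_one hp hpq (h.trans (Nat.gcd_dvd_right 3 (p ^ j + 1)))
  · intro h
    rcases (Nat.Prime.dvd_mul hp).mp h with h | h
    · rcases (Nat.Prime.dvd_mul hp).mp h with h | h
      · rcases (Nat.Prime.dvd_mul hp).mp h with h | h
        · rcases (Nat.Prime.dvd_mul hp).mp h with h | h
          · rcases (Nat.Prime.dvd_mul hp).mp h with h | h
            · exact helper15_not_dvd_pow_sub_one hp j 2 hj (by norm_num) h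
            · exact helper15_not_dvd_add_one hp (dvd_pow hpq (by norm_num)) h
          · exact helper15_not_dvd_pow_sub_one hp j 6 hj (by norm_num) h
        · exact helper15_not_dvd_pow_sub_one hp j 8 hj (by norm_num) h
      · exact helper15_not_dvd_add_one hp (dvd_pow hpq (by norm_num)) h
    · exact helper15_not_dvd_pow_sub_one hp j 12 hj (by norm_num) h
  · have hc1 : 1 ≤ Nat.gcd 3 (p ^ j + 1) := Nat.gcd_pos_of_pos_left _ (by norm_num)
    calc ((p ^ j) ^ 2 - 1) * ((p ^ j) ^ 5 + 1) * ((p ^ j) ^ 6 - 1) * ((p ^ j) ^ 8 - 1) *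
          ((p ^ j) ^ 9 + 1) * ((p ^ j) ^ 12 - 1)
        = (((p ^ j) ^ 2 - 1) * ((p ^ j) ^ 5 + 1)) * ((p ^ j) ^ 6 - 1) *
          ((((p ^ j) ^ 8 - 1) * ((p ^ j) ^ 9 + 1)) * ((p ^ j) ^ 12 - 1)) := by ring
      _ < (p ^ j) ^ (2 + 5) * (p ^ j) ^ 6 * ((p ^ j) ^ (8 + 9) * (p ^ j) ^ 12) :=
          Nat.mul_lt_mul'' (Nat.mul_lt_mul'' (helper15_qpow_mixed_lt hq1 2 5 (by norm_num))
            (helper15_pow_sub_one_lt hp j 6))
            (Nat.mul_lt_mul'' (helper15_qpow_mixed_lt hq1 8 9 (by norm_num))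
              (helper15_pow_sub_one_lt hp j 12))
      _ = 1 * (p ^ j) ^ 42 := by ring
      _ ≤ Nat.gcd 3 (p ^ j + 1) * (p ^ j) ^ 42 := Nat.mul_le_mul_right _ hc1

end Cfsg.Agent.Lib.helper44.LO
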