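import Mathlib
import Cfsg.Prelude.Def_LieTypeChar
import Cfsg.Agent.Lib.helper44.LODefs
import Cfsg.Agent.Lib.helper15.LOCore
import Cfsg.Agent.Lib.helper15.LOCore2
import Cfsg.Agent.S1068

set_option autoImplicit false

namespace Cfsg.Agent.Lib.helper44.LO

open Cfsg

/-- TF4 (prefixed racer copy of `lo_tf4`). -/
theorem helper15_lo_tf4 {K : Type} [Field K] [Fintype K] (m : ℕ) (hm : 1 ≤ m) (hK : Fintype.card K = 2 ^ (2 * m + 1)) :
    LOGood 2 (Nat.card ↥(Cfsg.Lie.twistedF4 K (2 ^ m))) := by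
  have hcard := Cfsg.Agent.S1068.result (K := K) hK
  have hp := Nat.prime_two
  have hf : 1 ≤ 2 * m + 1 := by omega
  have hq1 : 1 ≤ 2 ^ (2 * m + 1) := Nat.one_le_pow _ _ (by norm_num)
  have hpq : 2 ∣ 2 ^ (2 * m + 1) := dvd_pow_self 2 (by omega)
  have hsub : ¬ 2 ∣ 2 ^ (2 * m + 1) - 1 := by
    have h1 := helper15_not_dvd_pow_sub_one hp (2 * m + 1) 1 hf le_rfl
    rwa [pow_one] at h1
  refine helper15_lo_good hp (2 * m + 1) 1 _ 12
    ((2 ^ (2 * m + 1) - 1) * ((2 ^ (2 * m + 1)) ^ 3 + 1) * ((2 ^ (2 * m + 1)) ^ 4 - 1) *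
      ((2 ^ (2 * m + 1)) ^ 6 + 1)) 14 ?_ ?_ ?_ ?_ (by norm_num) (by norm_num)
  · rw [one_mul, hcard]
    simp only [mul_assoc]
  · intro h
    exact absurd (Nat.dvd_one.mp h) (by norm_num)
  · intro h
    rcases (Nat.Prime.dvd_mul hp).mp h with h | h
    · rcases (Nat.Prime.dvd_mul hp).mp h with h | h
      · rcases (Nat.Prime.dvd_mul hp).mp h with h | h
        · exact hsub h
        · exact helper15_not_dvd_add_one hp (dvd_pow hpq (by norm_num)) h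
      · exact helper15_not_dvd_pow_sub_one hp (2 * m + 1) 4 hf (by norm_num) h
    · exact helper15_not_dvd_add_one hp (dvd_pow hpq (by norm_num)) h
  · calc (2 ^ (2 * m + 1) - 1) * ((2 ^ (2 * m + 1)) ^ 3 + 1) * ((2 ^ (2 * m + 1)) ^ 4 - 1) *
          ((2 ^ (2 * m + 1)) ^ 6 + 1)
        = ((2 ^ (2 * m + 1) - 1) * ((2 ^ (2 * m + 1)) ^ 3 + 1)) *
          (((2 ^ (2 * m + 1)) ^ 4 - 1) * ((2 ^ (2 * m + 1)) ^ 6 + 1)) := by
          simp only [mul_assoc]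
      _ < (2 ^ (2 * m + 1) * (2 ^ (2 * m + 1)) ^ 3) * (2 ^ (2 * m + 1)) ^ (4 + 6) :=
          Nat.mul_lt_mul''
            (helper15_sub_one_mul_add_one_lt hq1 (Nat.le_self_pow (by norm_num) _))
            (helper15_qpow_mixed_lt hq1 4 6 (by norm_num))
      _ = 1 * (2 ^ (2 * m + 1)) ^ 14 := by ring

end Cfsg.Agent.Lib.helper44.LO
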