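import Mathlib

/-!
# Marggraf's theorem: the combinatorial core

`CoJ G C` says that the pointwise stabiliser of the finite set `C` is transitive on the
complement of `C` (the complement is a Jordan set).  The theorem `core` shows that a group of
degree `2m+1` with a co-Jordan set of size `m+1`, which is `k`-homogeneous for some `2 ≤ k ≤ m`,
has a co-Jordan `k`-set.
-/

set_option autoImplicit false

namespace Cfsg.Agent.Lib.helper15.Marggraf

open scoped Pointwise

/-- `C` is co-Jordan: the pointwise stabiliser of `C` is transitive on the complement. -/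
def CoJ (G : Type*) {Ω : Type*} [Group G] [MulAction G Ω] (C : Finset Ω) : Prop :=
  ∀ x, x ∉ C → ∀ y, y ∉ C → ∃ g : G, (∀ z ∈ C, g • z = z) ∧ g • x = y

variable {G Ω : Type*} [Group G] [MulAction G Ω] [DecidableEq Ω]

theorem CoJ.inter {C₁ C₂ : Finset Ω} (h₁ : CoJ G C₁) (h₂ : CoJ G C₂)
    (hw : ∃ w, w ∉ C₁ ∧ w ∉ C₂) : CoJ G (C₁ ∩ C₂) := by
  obtain ⟨w, hw1, hw2⟩ := hw
  have key : ∀ x, x ∉ C₁ ∩ C₂ → ∃ g : G, (∀ z ∈ C₁ ∩ C₂, g • z = z) ∧ g • x = w := by
    intro x hx
    rw [Finset.mem_inter, not_and_or] at hx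
    rcases hx with hx | hx
    · obtain ⟨g, hg, hgx⟩ := h₁ x hx w hw1
      exact ⟨g, fun z hz => hg z (Finset.mem_inter.mp hz).1, hgx⟩
    · obtain ⟨g, hg, hgx⟩ := h₂ x hx w hw2
      exact ⟨g, fun z hz => hg z (Finset.mem_inter.mp hz).2, hgx⟩
  intro x hx y hy
  obtain ⟨g, hg, hgx⟩ := key x hx
  obtain ⟨h, hh, hhy⟩ := key y hy
  refine ⟨h⁻¹ * g, fun z hz => ?_, ?_⟩
  · rw [mul_smul, hg z hz, inv_smul_eq_iff, hh z hz]
  · rw [mul_smul, hgx, inv_smul_eq_iff, hhy]

theorem CoJ.smul {C : Finset Ω} (h : CoJ G C) (g : G) : CoJ G (g • C) := by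
  intro x hx y hy
  have hx' : g⁻¹ • x ∉ C := by rwa [Finset.inv_smul_mem_iff]
  have hy' : g⁻¹ • y ∉ C := by rwa [Finset.inv_smul_mem_iff]
  obtain ⟨a, ha, hax⟩ := h _ hx' _ hy'
  refine ⟨g * a * g⁻¹, fun z hz => ?_, ?_⟩
  · have hz' : g⁻¹ • z ∈ C := by rwa [Finset.inv_smul_mem_iff]
    rw [mul_smul, mul_smul, ha _ hz', smul_inv_smul]
  · rw [mul_smul, mul_smul, hax, smul_inv_smul]

theorem exists_least [Fintype Ω] (M : ℕ) (hM : 2 * M ≤ Fintype.card Ω + 1) (S : Finset Ω)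
    (hS : 2 ≤ S.card)
    (hex : ∃ C : Finset Ω, (CoJ G C ∧ C.card ≤ M) ∧ S ⊆ C) :
    ∃ C₀ : Finset Ω, (CoJ G C₀ ∧ C₀.card ≤ M) ∧ S ⊆ C₀ ∧
      ∀ C : Finset Ω, CoJ G C → C.card ≤ M → S ⊆ C → C₀ ⊆ C := by
  classical
  have hex' : ∃ c, ∃ C : Finset Ω, (CoJ G C ∧ C.card ≤ M) ∧ S ⊆ C ∧ C.card = c := by
    obtain ⟨C, h1, h2⟩ := hex; exact ⟨_, C, h1, h2, rfl⟩
  obtain ⟨C₀, h1, h2, h3⟩ := Nat.find_spec hex'
  refine ⟨C₀, h1, h2, fun C hC hCM hSC => ?_⟩
  have hsub : S ⊆ C₀ ∩ C := Finset.subset_inter h2 hSC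
  have hcard2 : 2 ≤ (C₀ ∩ C).card := le_trans hS (Finset.card_le_card hsub)
  have hw : ∃ w, w ∉ C₀ ∧ w ∉ C := by
    by_contra hcon
    push Not at hcon
    have huniv : (Finset.univ : Finset Ω) ⊆ C₀ ∪ C := by
      intro w _
      by_cases hw : w ∈ C₀
      · exact Finset.mem_union_left _ hw
      · exact Finset.mem_union_right _ (hcon w hw)
    have h5 := Finset.card_le_card huniv
    rw [Finset.card_univ] at h5
    have h4 := Finset.card_union_add_card_inter C₀ C
    have := h1.2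
    omega
  have hJ : CoJ G (C₀ ∩ C) := h1.1.inter hC hw
  have hle : (C₀ ∩ C).card ≤ M := le_trans (Finset.card_le_card Finset.inter_subset_left) h1.2
  have hmin : ¬ (C₀ ∩ C).card < C₀.card := by
    intro hlt
    rw [h3] at hlt
    exact Nat.find_min hex' hlt ⟨C₀ ∩ C, ⟨hJ, hle⟩, hsub, rfl⟩
  have heq : C₀ ∩ C = C₀ :=
    Finset.eq_of_subset_of_card_le Finset.inter_subset_left (not_lt.mp hmin)
  rw [← heq]; exact Finset.inter_subset_right

theorem card_dvd_of_classes (S : Finset Ω) (c : Ω → Finset Ω) (d : ℕ)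
    (h1 : ∀ x ∈ S, c x ⊆ S) (h2 : ∀ x ∈ S, x ∈ c x) (h3 : ∀ x ∈ S, (c x).card = d)
    (h4 : ∀ x ∈ S, ∀ y ∈ c x, c y = c x) : d ∣ S.card := by
  classical
  have hsum := Finset.card_eq_sum_card_fiberwise (s := S) (t := S.image c) (f := c)
    (fun x hx => Finset.mem_image_of_mem c hx)
  rw [hsum]
  apply Finset.dvd_sum
  intro t ht
  obtain ⟨x₀, hx₀, rfl⟩ := Finset.mem_image.mp ht
  have hfil : S.filter (fun x => c x = c x₀) = c x₀ := by
    ext y
    simp only [Finset.mem_filter]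
    constructor
    · rintro ⟨hy, hcy⟩
      rw [← hcy]; exact h2 y hy
    · intro hy
      exact ⟨h1 x₀ hx₀ hy, h4 x₀ hx₀ y hy⟩
  rw [hfil, h3 x₀ hx₀]

/-- The combinatorial core of Marggraf's theorem (boundary case `n = 2m+1`). -/
theorem core [Fintype Ω] (m k : ℕ) (hn : Fintype.card Ω = 2 * m + 1) (Φ : Finset Ω)
    (hΦc : Φ.card = m + 1) (hΦ : CoJ G Φ) (hk2 : 2 ≤ k) (hkm : k ≤ m)
    (hom : ∀ Q Q' : Finset Ω, Q.card = k → Q'.card = k → ∃ g : G, g • Q = Q')
    (hnot : ∀ Q : Finset Ω, Q.card = k → ¬ CoJ G Q) : False := by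
  classical
  obtain ⟨M, hMdef⟩ : ∃ M, M = m + 1 := ⟨_, rfl⟩
  have hM : 2 * M ≤ Fintype.card Ω + 1 := by omega
  obtain ⟨K₀, hK₀Φ, hK₀c⟩ := Finset.exists_subset_card_eq (s := Φ) (n := k) (by omega)
  have hex : ∀ Q : Finset Ω, Q.card = k →
      ∃ C : Finset Ω, (CoJ G C ∧ C.card ≤ M) ∧ Q ⊆ C := by
    intro Q hQ
    obtain ⟨g, hg⟩ := hom K₀ Q hK₀c hQ
    refine ⟨g • Φ, ⟨hΦ.smul g, by rw [Finset.card_smul_finset]; omega⟩, ?_⟩
    rw [← hg]; exact Finset.smul_finset_subset_smul_finset hK₀Φ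
  have hcl0 : ∀ Q : Finset Ω, Q.card = k →
      ∃ C₀ : Finset Ω, (CoJ G C₀ ∧ C₀.card ≤ M) ∧ Q ⊆ C₀ ∧
        ∀ C : Finset Ω, CoJ G C → C.card ≤ M → Q ⊆ C → C₀ ⊆ C :=
    fun Q hQ => exists_least M hM Q (by omega) (hex Q hQ)
  choose! cl hclJ hclsub hclmin using hcl0
  have hsize : ∀ Q Q' : Finset Ω, Q.card = k → Q'.card = k → (cl Q').card ≤ (cl Q).card := by
    intro Q Q' hQ hQ'
    obtain ⟨g, hg⟩ := hom Q Q' hQ hQ'
    have h1 : cl Q' ⊆ g • cl Q := by
      apply hclmin Q' hQ' _ ((hclJ Q hQ).1.smul g)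
        (by rw [Finset.card_smul_finset]; exact (hclJ Q hQ).2)
      rw [← hg]; exact Finset.smul_finset_subset_smul_finset (hclsub Q hQ)
    have h2 := Finset.card_le_card h1
    rwa [Finset.card_smul_finset] at h2
  obtain ⟨f, hf⟩ : ∃ f, f = (cl K₀).card := ⟨_, rfl⟩
  have hcard : ∀ Q : Finset Ω, Q.card = k → (cl Q).card = f := fun Q hQ => by
    rw [hf]; exact le_antisymm (hsize K₀ Q hK₀c hQ) (hsize Q K₀ hQ hK₀c)
  have hL4 : ∀ Q Q' : Finset Ω, Q.card = k → Q'.card = k → Q' ⊆ cl Q → cl Q' = cl Q := by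
    intro Q Q' hQ hQ' hsub
    apply Finset.eq_of_subset_of_card_le
      (hclmin Q' hQ' _ (hclJ Q hQ).1 (hclJ Q hQ).2 hsub)
    rw [hcard Q hQ, hcard Q' hQ']
  have hfk : k + 1 ≤ f := by
    have hne : cl K₀ ≠ K₀ := fun h => hnot K₀ hK₀c (h ▸ (hclJ K₀ hK₀c).1)
    have hss : K₀ ⊂ cl K₀ :=
      Finset.ssubset_iff_subset_ne.mpr ⟨hclsub K₀ hK₀c, fun h => hne h.symm⟩
    have h1 := Finset.card_lt_card hss
    omega
  -- the Z-lemma
  have hZ : ∀ K : Finset Ω, K.card = k → ∀ Λ' : Finset Ω,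
      (∀ Q : Finset Ω, Q.card = k → Q ⊆ Λ' → cl Q ⊆ Λ') → cl K ⊆ Λ' → ∀ p ∈ Λ', p ∉ cl K →
      k * (f - k) + f + 1 ≤ Λ'.card := by
    intro K hK Λ' hclosed hFΛ p hpΛ hpF
    have hKF : K ⊆ cl K := hclsub K hK
    have hpK : p ∉ K := fun h => hpF (hKF h)
    have hQbc : ∀ b ∈ K, (insert p (K.erase b)).card = k := by
      intro b hb
      rw [Finset.card_insert_of_notMem (fun h => hpK (Finset.mem_of_mem_erase h)),
        Finset.card_erase_of_mem hb]
      omega
    have hQbΛ : ∀ b ∈ K, insert p (K.erase b) ⊆ Λ' := by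
      intro b hb z hz
      rcases Finset.mem_insert.mp hz with rfl | hz
      · exact hpΛ
      · exact hFΛ (hKF (Finset.mem_of_mem_erase hz))
    have hi : ∀ b ∈ K, ∀ z ∈ cl (insert p (K.erase b)), z ∈ cl K → z ∈ K.erase b := by
      intro b hb z hz hzF
      by_contra hzK
      have hQ'c : (insert z (K.erase b)).card = k := by
        rw [Finset.card_insert_of_notMem hzK, Finset.card_erase_of_mem hb]; omega
      have h1 : insert z (K.erase b) ⊆ cl K := by
        intro w hw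
        rcases Finset.mem_insert.mp hw with rfl | hw
        · exact hzF
        · exact hKF (Finset.mem_of_mem_erase hw)
      have h2 : insert z (K.erase b) ⊆ cl (insert p (K.erase b)) := by
        intro w hw
        rcases Finset.mem_insert.mp hw with rfl | hw
        · exact hz
        · exact hclsub _ (hQbc b hb) (Finset.mem_insert_of_mem hw)
      have e1 := hL4 K _ hK hQ'c h1
      have e2 := hL4 _ _ (hQbc b hb) hQ'c h2
      have h3 : p ∈ cl K := by
        rw [← e1, e2]; exact hclsub _ (hQbc b hb) (Finset.mem_insert_self _ _)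
      exact hpF h3
    have hZc : ∀ b ∈ K,
        (cl (insert p (K.erase b)) \ insert p (K.erase b)).card = f - k := by
      intro b hb
      rw [Finset.card_sdiff_of_subset (hclsub _ (hQbc b hb)), hcard _ (hQbc b hb), hQbc b hb]
    have hZsub : ∀ b ∈ K,
        cl (insert p (K.erase b)) \ insert p (K.erase b) ⊆ Λ' \ insert p (cl K) := by
      intro b hb z hz
      obtain ⟨hz1, hz2⟩ := Finset.mem_sdiff.mp hz
      refine Finset.mem_sdiff.mpr ⟨hclosed _ (hQbc b hb) (hQbΛ b hb) hz1, ?_⟩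
      intro hzin
      rcases Finset.mem_insert.mp hzin with rfl | hzF
      · exact hz2 (Finset.mem_insert_self _ _)
      · exact hz2 (Finset.mem_insert_of_mem (hi b hb z hz1 hzF))
    have hdisj : ∀ b ∈ K, ∀ b' ∈ K, b ≠ b' →
        Disjoint (cl (insert p (K.erase b)) \ insert p (K.erase b))
          (cl (insert p (K.erase b')) \ insert p (K.erase b')) := by
      intro b hb b' hb' hbb'
      rw [Finset.disjoint_left]
      intro z hz hz'
      obtain ⟨hz1, hz2⟩ := Finset.mem_sdiff.mp hz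
      obtain ⟨hz1', hz2'⟩ := Finset.mem_sdiff.mp hz'
      have hzF : z ∉ cl K := fun h => hz2 (Finset.mem_insert_of_mem (hi b hb z hz1 h))
      have hzp : z ≠ p := fun h => hz2 (h ▸ Finset.mem_insert_self _ _)
      have hzK : z ∉ K := fun h => hzF (hKF h)
      have hb'mem : b' ∈ K.erase b := Finset.mem_erase.mpr ⟨fun h => hbb' h.symm, hb'⟩
      have hRc : ((K.erase b).erase b').card = k - 2 := by
        rw [Finset.card_erase_of_mem hb'mem, Finset.card_erase_of_mem hb, hK]; omega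
      have hQ''c : (insert p (insert z ((K.erase b).erase b'))).card = k := by
        rw [Finset.card_insert_of_notMem, Finset.card_insert_of_notMem, hRc]
        · omega
        · intro h; exact hzK (Finset.mem_of_mem_erase (Finset.mem_of_mem_erase h))
        · intro h
          rcases Finset.mem_insert.mp h with h | h
          · exact hzp h.symm
          · exact hpK (Finset.mem_of_mem_erase (Finset.mem_of_mem_erase h))
      have h1 : insert p (insert z ((K.erase b).erase b')) ⊆ cl (insert p (K.erase b)) := by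
        intro w hw
        rcases Finset.mem_insert.mp hw with rfl | hw
        · exact hclsub _ (hQbc b hb) (Finset.mem_insert_self _ _)
        rcases Finset.mem_insert.mp hw with rfl | hw
        · exact hz1
        · exact hclsub _ (hQbc b hb) (Finset.mem_insert_of_mem (Finset.mem_of_mem_erase hw))
      have h2 : insert p (insert z ((K.erase b).erase b')) ⊆ cl (insert p (K.erase b')) := by
        intro w hw
        rcases Finset.mem_insert.mp hw with rfl | hw
        · exact hclsub _ (hQbc b' hb') (Finset.mem_insert_self _ _)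
        rcases Finset.mem_insert.mp hw with rfl | hw
        · exact hz1'
        · refine hclsub _ (hQbc b' hb') (Finset.mem_insert_of_mem ?_)
          have hw1 := Finset.mem_erase.mp hw
          exact Finset.mem_erase.mpr ⟨hw1.1, Finset.mem_of_mem_erase hw1.2⟩
      have e1 := hL4 _ _ (hQbc b hb) hQ''c h1
      have e2 := hL4 _ _ (hQbc b' hb') hQ''c h2
      have hb'in : b' ∈ cl (insert p (K.erase b')) := by
        rw [← e2, e1]
        exact hclsub _ (hQbc b hb) (Finset.mem_insert_of_mem hb'mem)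
      have h3 := hi b' hb' b' hb'in (hKF hb')
      exact (Finset.mem_erase.mp h3).1 rfl
    have hbU : (K.biUnion fun b => cl (insert p (K.erase b)) \ insert p (K.erase b)).card
        = k * (f - k) := by
      rw [Finset.card_biUnion (fun b hb b' hb' h => hdisj b hb b' hb' h)]
      rw [Finset.sum_congr rfl hZc, Finset.sum_const, hK, smul_eq_mul]
    have hsub : (K.biUnion fun b => cl (insert p (K.erase b)) \ insert p (K.erase b))
        ⊆ Λ' \ insert p (cl K) := Finset.biUnion_subset.mpr hZsub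
    have h3 := Finset.card_le_card hsub
    have hins : insert p (cl K) ⊆ Λ' := by
      intro w hw
      rcases Finset.mem_insert.mp hw with rfl | hw
      · exact hpΛ
      · exact hFΛ hw
    have h4 : (Λ' \ insert p (cl K)).card = Λ'.card - (f + 1) := by
      rw [Finset.card_sdiff_of_subset hins, Finset.card_insert_of_notMem hpF, hcard K hK]
    have h5 : f + 1 ≤ Λ'.card := by
      have h6 := Finset.card_le_card hins
      rwa [Finset.card_insert_of_notMem hpF, hcard K hK] at h6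
    rw [hbU, h4] at h3
    omega
  -- the block `F` through `K₀`
  have hFJ := hclJ K₀ hK₀c
  have hFΦ : cl K₀ ⊆ Φ := hclmin K₀ hK₀c Φ hΦ (by omega) hK₀Φ
  have hFc : (cl K₀).card = f := hf.symm
  have hfm : f ≤ m := by
    by_contra hcon
    have hfle : f ≤ m + 1 := by rw [← hFc, ← hΦc]; exact Finset.card_le_card hFΦ
    have hfeq : f = m + 1 := by omega
    obtain ⟨p, hp⟩ : ∃ p, p ∉ Φ := by
      by_contra h; push Not at h
      have h1 : Fintype.card Ω ≤ Φ.card := by
        rw [← Finset.card_univ]; exact Finset.card_le_card (fun w _ => h w)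
      omega
    have h2 := hZ K₀ hK₀c Finset.univ (fun _ _ _ => Finset.subset_univ _)
      (Finset.subset_univ _) p (Finset.mem_univ _) (fun h => hp (hFΦ h))
    rw [Finset.card_univ, hn, hfeq] at h2
    obtain ⟨d, rfl⟩ := Nat.exists_eq_add_of_le hkm
    have h3 : k + d + 1 - k = d + 1 := by omega
    rw [h3] at h2
    have h4 : d ≤ k * d := Nat.le_mul_of_pos_left d (by omega)
    have h5 : k * (d + 1) = k * d + k := by ring
    rw [h5] at h2
    omega
  obtain ⟨x₀, hx₀Φ, hx₀F⟩ : ∃ x₀, x₀ ∈ Φ ∧ x₀ ∉ cl K₀ := by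
    by_contra h; push Not at h
    have h1 : Φ ⊆ cl K₀ := fun w hw => h w hw
    have h2 := Finset.card_le_card h1
    omega
  have hexL : ∀ x, x ∉ cl K₀ → ∃ C₀ : Finset Ω, (CoJ G C₀ ∧ C₀.card ≤ M) ∧
      insert x (cl K₀) ⊆ C₀ ∧
      ∀ C : Finset Ω, CoJ G C → C.card ≤ M → insert x (cl K₀) ⊆ C → C₀ ⊆ C := by
    intro x hx
    apply exists_least M hM
    · rw [Finset.card_insert_of_notMem hx]; omega
    · obtain ⟨g, hg, hgx⟩ := hFJ.1 x₀ hx₀F x hx
      refine ⟨g • Φ, ⟨hΦ.smul g, by rw [Finset.card_smul_finset]; omega⟩, ?_⟩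
      intro w hw
      rcases Finset.mem_insert.mp hw with rfl | hw
      · rw [← hgx]; exact Finset.smul_mem_smul_finset hx₀Φ
      · rw [← hg w hw]; exact Finset.smul_mem_smul_finset (hFΦ hw)
  choose! L hLJ hLsub hLmin using hexL
  have hLsize : ∀ x y, x ∉ cl K₀ → y ∉ cl K₀ → (L y).card ≤ (L x).card := by
    intro x y hx hy
    obtain ⟨g, hg, hgx⟩ := hFJ.1 x hx y hy
    have h1 : L y ⊆ g • L x := by
      apply hLmin y hy _ ((hLJ x hx).1.smul g)
        (by rw [Finset.card_smul_finset]; exact (hLJ x hx).2)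
      intro w hw
      rcases Finset.mem_insert.mp hw with rfl | hw
      · rw [← hgx]
        exact Finset.smul_mem_smul_finset (hLsub x hx (Finset.mem_insert_self _ _))
      · rw [← hg w hw]
        exact Finset.smul_mem_smul_finset (hLsub x hx (Finset.mem_insert_of_mem hw))
    have h2 := Finset.card_le_card h1
    rwa [Finset.card_smul_finset] at h2
  obtain ⟨lam, hlam⟩ : ∃ lam, lam = (L x₀).card := ⟨_, rfl⟩
  have hLcard : ∀ x, x ∉ cl K₀ → (L x).card = lam := fun x hx => by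
    rw [hlam]; exact le_antisymm (hLsize x₀ x hx₀F hx) (hLsize x x₀ hx hx₀F)
  have hFL : ∀ x, x ∉ cl K₀ → cl K₀ ⊆ L x :=
    fun x hx w hw => hLsub x hx (Finset.mem_insert_of_mem hw)
  have hxL : ∀ x, x ∉ cl K₀ → x ∈ L x := fun x hx => hLsub x hx (Finset.mem_insert_self _ _)
  have hL11 : ∀ x, x ∉ cl K₀ → ∀ y ∈ L x, y ∉ cl K₀ → L y = L x := by
    intro x hx y hy hyF
    apply Finset.eq_of_subset_of_card_le
    · apply hLmin y hyF _ (hLJ x hx).1 (hLJ x hx).2
      intro w hw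
      rcases Finset.mem_insert.mp hw with rfl | hw
      · exact hy
      · exact hFL x hx hw
    · rw [hLcard x hx, hLcard y hyF]
  have hLΦ : ∀ x ∈ Φ, x ∉ cl K₀ → L x ⊆ Φ := by
    intro x hxΦ hx
    apply hLmin x hx Φ hΦ (by omega)
    intro w hw
    rcases Finset.mem_insert.mp hw with rfl | hw
    · exact hxΦ
    · exact hFΦ hw
  have hlamf : f + 1 ≤ lam := by
    have h1 := Finset.card_le_card (hLsub x₀ hx₀F)
    rw [Finset.card_insert_of_notMem hx₀F, hFc, hLcard x₀ hx₀F] at h1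
    exact h1
  have hclass_card : ∀ x, x ∉ cl K₀ → (L x \ cl K₀).card = lam - f := by
    intro x hx
    rw [Finset.card_sdiff_of_subset (hFL x hx), hLcard x hx, hFc]
  have hd1 : (lam - f) ∣ (Φ \ cl K₀).card := by
    apply card_dvd_of_classes (Φ \ cl K₀) (fun x => L x \ cl K₀) (lam - f)
    · intro x hx w hw
      obtain ⟨hx1, hx2⟩ := Finset.mem_sdiff.mp hx
      obtain ⟨hw1, hw2⟩ := Finset.mem_sdiff.mp hw
      exact Finset.mem_sdiff.mpr ⟨hLΦ x hx1 hx2 hw1, hw2⟩
    · intro x hx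
      obtain ⟨hx1, hx2⟩ := Finset.mem_sdiff.mp hx
      exact Finset.mem_sdiff.mpr ⟨hxL x hx2, hx2⟩
    · intro x hx
      exact hclass_card x (Finset.mem_sdiff.mp hx).2
    · intro x hx y hy
      obtain ⟨hx1, hx2⟩ := Finset.mem_sdiff.mp hx
      obtain ⟨hy1, hy2⟩ := Finset.mem_sdiff.mp hy
      show L y \ cl K₀ = L x \ cl K₀
      rw [hL11 x hx2 y hy1 hy2]
  have hd2 : (lam - f) ∣ (Finset.univ \ Φ).card := by
    apply card_dvd_of_classes (Finset.univ \ Φ) (fun x => L x \ cl K₀) (lam - f)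
    · intro x hx w hw
      have hxΦ : x ∉ Φ := (Finset.mem_sdiff.mp hx).2
      have hxF : x ∉ cl K₀ := fun h => hxΦ (hFΦ h)
      obtain ⟨hw1, hw2⟩ := Finset.mem_sdiff.mp hw
      refine Finset.mem_sdiff.mpr ⟨Finset.mem_univ _, fun hwΦ => ?_⟩
      have h1 := hL11 x hxF w hw1 hw2
      have hxw : x ∈ L w := by rw [h1]; exact hxL x hxF
      exact hxΦ (hLΦ w hwΦ hw2 hxw)
    · intro x hx
      have hxΦ : x ∉ Φ := (Finset.mem_sdiff.mp hx).2
      have hxF : x ∉ cl K₀ := fun h => hxΦ (hFΦ h)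
      exact Finset.mem_sdiff.mpr ⟨hxL x hxF, hxF⟩
    · intro x hx
      have hxΦ : x ∉ Φ := (Finset.mem_sdiff.mp hx).2
      exact hclass_card x (fun h => hxΦ (hFΦ h))
    · intro x hx y hy
      have hxΦ : x ∉ Φ := (Finset.mem_sdiff.mp hx).2
      have hxF : x ∉ cl K₀ := fun h => hxΦ (hFΦ h)
      obtain ⟨hy1, hy2⟩ := Finset.mem_sdiff.mp hy
      show L y \ cl K₀ = L x \ cl K₀
      rw [hL11 x hxF y hy1 hy2]
  have hc1 : (Φ \ cl K₀).card = m + 1 - f := by
    rw [Finset.card_sdiff_of_subset hFΦ, hΦc, hFc]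
  have hc2 : (Finset.univ \ Φ).card = m := by
    rw [Finset.card_sdiff_of_subset (Finset.subset_univ _), Finset.card_univ, hn, hΦc]; omega
  rw [hc1] at hd1
  rw [hc2] at hd2
  have hd3 : (lam - f) ∣ (f - 1) := by
    have h1 := Nat.dvd_sub hd2 hd1
    have e : m - (m + 1 - f) = f - 1 := by omega
    rwa [e] at h1
  have hδle : lam - f ≤ f - 1 := Nat.le_of_dvd (by omega) hd3
  have hfin := hZ K₀ hK₀c (L x₀)
    (fun Q hQ hsub => hclmin Q hQ _ (hLJ x₀ hx₀F).1 (hLJ x₀ hx₀F).2 hsub)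
    (hFL x₀ hx₀F) x₀ (hxL x₀ hx₀F) hx₀F
  rw [hLcard x₀ hx₀F] at hfin
  obtain ⟨k', rfl⟩ : ∃ k', k = k' + 1 := ⟨k - 1, by omega⟩
  obtain ⟨a', ha'⟩ : ∃ a', f - (k' + 1) = a' + 1 := ⟨f - (k' + 1) - 1, by omega⟩
  rw [ha'] at hfin
  have h7 : (k' + 1) * (a' + 1) = k' * a' + k' + a' + 1 := by ring
  rw [h7] at hfin
  omega

end Cfsg.Agent.Lib.helper15.Marggraf
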