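import Mathlib
import Cfsg.Agent.Lib.helper15.Marggraf1
import Cfsg.Agent.S3707
import Cfsg.Agent.S0711

/-!
# Marggraf's theorem for primitive groups

A primitive group of degree `n` with a Jordan set of size `m`, `1 < m < n/2`, contains the
alternating group.  Induction on `n` through point stabilisers reduces to `n = 2m+1`, where the
combinatorial core (`Marggraf1.core`) shows the group is `(m+1)`-transitive.
-/

set_option autoImplicit false

namespace Cfsg.Agent.Lib.helper15.Marggraf

open scoped Pointwise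
open MulAction

section wrappers

variable {G Ω : Type*} [Group G] [MulAction G Ω] [DecidableEq Ω]

theorem homog_of_mt {k : ℕ} (h : IsMultiplyPretransitive G Ω k) (Q Q' : Finset Ω)
    (hQ : Q.card = k) (hQ' : Q'.card = k) : ∃ g : G, g • Q = Q' := by
  let e : Fin k ↪ Ω :=
    (Q.equivFinOfCardEq hQ).symm.toEmbedding.trans (Function.Embedding.subtype _)
  let e' : Fin k ↪ Ω :=
    (Q'.equivFinOfCardEq hQ').symm.toEmbedding.trans (Function.Embedding.subtype _)
  obtain ⟨g, hg⟩ := h.exists_smul_eq e e'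
  refine ⟨g, ?_⟩
  apply Finset.eq_of_subset_of_card_le
  · intro z hz
    obtain ⟨w, hw, rfl⟩ := Finset.mem_smul_finset.mp hz
    have h1 : e ((Q.equivFinOfCardEq hQ) ⟨w, hw⟩) = w := by simp [e]
    have h2 : g • e ((Q.equivFinOfCardEq hQ) ⟨w, hw⟩)
        = e' ((Q.equivFinOfCardEq hQ) ⟨w, hw⟩) := by
      rw [← hg]; rfl
    rw [← h1, h2]
    simp [e']
  · rw [Finset.card_smul_finset, hQ, hQ']

theorem mt_succ_of_coJ {k : ℕ} (h : IsMultiplyPretransitive G Ω k) (Q : Finset Ω)
    (hQ : Q.card = k) (hJ : CoJ G Q) : IsMultiplyPretransitive G Ω (k + 1) := by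
  let e : Fin k ↪ Ω :=
    (Q.equivFinOfCardEq hQ).symm.toEmbedding.trans (Function.Embedding.subtype _)
  have he : ∀ i, e i ∈ Q := fun i => by simp [e]
  have key : ∀ a : Fin (k + 1) ↪ Ω, ∃ g : G,
      (∀ i : Fin k, g • a (Fin.castSucc i) = e i) ∧ g • a (Fin.last k) ∉ Q := by
    intro a
    let a' : Fin k ↪ Ω := (Fin.castSuccEmb).trans a
    obtain ⟨g, hg⟩ := h.exists_smul_eq a' e
    have hgi : ∀ i : Fin k, g • a (Fin.castSucc i) = e i := fun i => by
      rw [← hg]; rfl
    refine ⟨g, hgi, ?_⟩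
    intro hmem
    obtain ⟨i, hi⟩ : ∃ i, e i = g • a (Fin.last k) :=
      ⟨Q.equivFinOfCardEq hQ ⟨_, hmem⟩, by simp [e]⟩
    rw [← hgi i] at hi
    have h1 := a.injective (MulAction.injective g hi)
    exact (Fin.castSucc_lt_last i).ne h1
  refine ⟨fun a b => ?_⟩
  obtain ⟨g₁, h1, h1'⟩ := key a
  obtain ⟨g₂, h2, h2'⟩ := key b
  obtain ⟨c, hc, hc'⟩ := hJ _ h1' _ h2'
  refine ⟨g₂⁻¹ * c * g₁, ?_⟩
  ext i
  rw [Function.Embedding.smul_apply, mul_smul, mul_smul, inv_smul_eq_iff]
  rcases Fin.eq_castSucc_or_eq_last i with ⟨j, rfl⟩ | rfl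
  · rw [h1 j, h2 j, hc _ (he j)]
  · exact hc'

end wrappers

theorem exists_small_support.{u, v} (n : ℕ) : ∀ (G : Type u) (Ω : Type v) [Group G] [Finite G]
    [MulAction G Ω] [FaithfulSMul G Ω] [Finite Ω], Nat.card Ω = n → IsPreprimitive G Ω →
    ∀ Γ : Set Ω, 1 < Γ.ncard → 2 * Γ.ncard < Nat.card Ω →
    (∀ x ∈ Γ, ∀ y ∈ Γ, ∃ g : G, (∀ z ∉ Γ, g • z = z) ∧ g • x = y) →
    ∃ g : G, g ≠ 1 ∧ ∃ s : Finset Ω, s.card ≤ 3 ∧ ∀ z ∉ s, g • z = z := by
  induction n using Nat.strong_induction_on with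
  | _ n ih =>
  intro G Ω _ _ _ _ _ hcard hprim Γ h1 h2 htr
  classical
  have h3 : IsMultiplyPretransitive G Ω 3 :=
    Cfsg.Agent.S3707.result hprim Γ h1 (by omega) htr
  by_cases hb : 2 * Γ.ncard + 1 < Nat.card Ω
  · -- inductive step: pass to a point stabiliser
    have hpt : IsPretransitive G Ω := hprim.toIsPretransitive
    obtain ⟨a, ha⟩ : ∃ a, a ∉ Γ := by
      by_contra hcon; push Not at hcon
      have h4 : Γ = Set.univ := Set.eq_univ_of_forall hcon
      rw [h4, Set.ncard_univ] at h2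
      omega
    have hcard' : Nat.card (SubMulAction.ofStabilizer G a) + 1 = Nat.card Ω :=
      SubMulAction.nat_card_ofStabilizer_add_one_eq G a
    have : FaithfulSMul (stabilizer G a) (SubMulAction.ofStabilizer G a) := by
      refine ⟨fun {g₁ g₂} h => ?_⟩
      apply Subtype.ext
      apply FaithfulSMul.eq_of_smul_eq_smul (α := Ω)
      intro z
      by_cases hz : z = a
      · subst hz
        rw [mem_stabilizer_iff.mp g₁.2, mem_stabilizer_iff.mp g₂.2]
      · have h5 := h ⟨z, (SubMulAction.mem_ofStabilizer_iff G a).mpr hz⟩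
        exact congrArg Subtype.val h5
    have h2' : IsMultiplyPretransitive (stabilizer G a) (SubMulAction.ofStabilizer G a) 2 :=
      (SubMulAction.ofStabilizer.isMultiplyPretransitive (n := 2) (a := a)).mp h3
    have hprim' : IsPreprimitive (stabilizer G a) (SubMulAction.ofStabilizer G a) :=
      isPreprimitive_of_is_two_pretransitive h2'
    let Γ' : Set (SubMulAction.ofStabilizer G a) := Subtype.val ⁻¹' Γ
    have hΓ' : Γ'.ncard = Γ.ncard := by
      apply Set.ncard_preimage_of_injective_subset_range Subtype.val_injective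
      intro z hz
      exact ⟨⟨z, (SubMulAction.mem_ofStabilizer_iff G a).mpr (fun h => ha (h ▸ hz))⟩, rfl⟩
    have htr' : ∀ x ∈ Γ', ∀ y ∈ Γ', ∃ g : stabilizer G a,
        (∀ z ∉ Γ', g • z = z) ∧ g • x = y := by
      intro x hx y hy
      obtain ⟨g, hg, hgx⟩ := htr x.1 hx y.1 hy
      refine ⟨⟨g, hg a ha⟩, fun z hz => ?_, ?_⟩
      · apply Subtype.ext; exact hg z.1 hz
      · apply Subtype.ext; exact hgx
    obtain ⟨g', hg', s', hs', hfix⟩ := ih (Nat.card (SubMulAction.ofStabilizer G a)) (by omega)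
      (stabilizer G a) (SubMulAction.ofStabilizer G a) rfl hprim' Γ' (by omega) (by omega) htr'
    refine ⟨(g' : G), fun h => hg' (Subtype.ext h),
      s'.map (Function.Embedding.subtype _), by simpa using hs', fun z hz => ?_⟩
    by_cases hza : z = a
    · subst hza; exact mem_stabilizer_iff.mp g'.2
    · have hz' : (⟨z, (SubMulAction.mem_ofStabilizer_iff G a).mpr hza⟩ :
          SubMulAction.ofStabilizer G a) ∉ s' := by
        intro hmem
        apply hz
        rw [Finset.mem_map]
        exact ⟨_, hmem, rfl⟩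
      exact congrArg Subtype.val (hfix _ hz')
  · -- boundary case
    have hn : Nat.card Ω = 2 * Γ.ncard + 1 := by omega
    haveI : Fintype Ω := Fintype.ofFinite Ω
    obtain ⟨m, hm⟩ : ∃ m, m = Γ.ncard := ⟨_, rfl⟩
    have hm2 : 2 ≤ m := by omega
    have hcardF : Fintype.card Ω = 2 * m + 1 := by
      rw [← Nat.card_eq_fintype_card, hm]; exact hn
    let Φ : Finset Ω := Finset.univ.filter (fun z => z ∉ Γ)
    have hΦmem : ∀ z, z ∈ Φ ↔ z ∉ Γ := fun z => by simp [Φ]
    have hΓfin : (Finset.univ.filter (fun z => z ∈ Γ)).card = m := by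
      rw [hm, ← Set.ncard_coe_finset]; congr 1; ext z; simp
    have hΦc : Φ.card = m + 1 := by
      have h4 := Finset.card_filter_add_card_filter_not (s := (Finset.univ : Finset Ω))
        (fun z : Ω => z ∈ Γ)
      rw [Finset.card_univ, hcardF, hΓfin] at h4
      show (Finset.univ.filter (fun z => z ∉ Γ)).card = m + 1
      omega
    have hΦ : CoJ G Φ := by
      intro x hx y hy
      rw [hΦmem, not_not] at hx hy
      obtain ⟨g, hg, hgx⟩ := htr x hx y hy
      exact ⟨g, fun z hz => hg z ((hΦmem z).mp hz), hgx⟩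
    have h3n : 3 ≤ Fintype.card Ω := by omega
    obtain ⟨k, hk⟩ : ∃ k, k = Nat.findGreatest (fun j => IsMultiplyPretransitive G Ω j)
        (Fintype.card Ω) := ⟨_, rfl⟩
    have hk3 : 3 ≤ k := by rw [hk]; exact Nat.le_findGreatest h3n h3
    have hPk : IsMultiplyPretransitive G Ω k := by
      rw [hk]
      exact Nat.findGreatest_spec (P := fun j => IsMultiplyPretransitive G Ω j) h3n h3
    have hkn : k ≤ Fintype.card Ω := by rw [hk]; exact Nat.findGreatest_le _
    by_cases hkm : k ≤ m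
    · exfalso
      have hnot : ¬ IsMultiplyPretransitive G Ω (k + 1) :=
        Nat.findGreatest_is_greatest (P := fun j => IsMultiplyPretransitive G Ω j)
          (by rw [← hk]; exact Nat.lt_succ_self k) (by omega)
      exact core m k hcardF Φ hΦc hΦ (by omega) hkm
        (fun Q Q' hQ hQ' => homog_of_mt hPk Q Q' hQ hQ')
        (fun Q hQ hJ => hnot (mt_succ_of_coJ hPk Q hQ hJ))
    · push Not at hkm
      obtain ⟨x, y, hx, hy, hxy⟩ := (Set.one_lt_ncard_iff (Set.toFinite Γ)).mp h1
      obtain ⟨g, hg, hgx⟩ := htr x hx y hy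
      let R : Subgroup (Equiv.Perm Ω) := (MulAction.toPermHom G Ω).range
      have hR : IsMultiplyPretransitive R Ω k := by
        refine ⟨fun a b => ?_⟩
        obtain ⟨c, hc⟩ := hPk.exists_smul_eq a b
        refine ⟨⟨MulAction.toPermHom G Ω c, ⟨c, rfl⟩⟩, ?_⟩
        rw [← hc]; rfl
      have hσ1 : (MulAction.toPerm g : Equiv.Perm Ω) ≠ 1 := by
        intro h
        have h4 := congrArg (fun p : Equiv.Perm Ω => p x) h
        simp only [MulAction.toPerm_apply, Equiv.Perm.one_apply] at h4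
        exact hxy (h4.symm.trans hgx)
      have hsupp : (MulAction.toPerm g : Equiv.Perm Ω).support.card < 2 * k - 2 := by
        have hsub : (MulAction.toPerm g : Equiv.Perm Ω).support
            ⊆ Finset.univ.filter (fun z => z ∈ Γ) := by
          intro z hz
          rw [Equiv.Perm.mem_support] at hz
          simp only [Finset.mem_filter, Finset.mem_univ, true_and]
          by_contra hzΓ
          exact hz (hg z hzΓ)
        have h4 := Finset.card_le_card hsub
        rw [hΓfin] at h4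
        omega
      obtain ⟨⟨h, hhR, hh1, hhs⟩, -⟩ := Cfsg.Agent.S0711.result R hk3 hkn hR
        (MulAction.toPerm g) ⟨g, rfl⟩ hσ1 hsupp
      obtain ⟨g₀, rfl⟩ := hhR
      refine ⟨g₀, fun e => hh1 (by rw [e, map_one]), (MulAction.toPermHom G Ω g₀).support, hhs,
        fun z hz => ?_⟩
      exact Equiv.Perm.notMem_support.mp hz

/-- **Marggraf's theorem**, primitive case. -/
theorem marggraf_primitive {G Ω : Type*} [Group G] [Finite G] [MulAction G Ω] [FaithfulSMul G Ω]
    [Fintype Ω] [DecidableEq Ω] (hprim : IsPreprimitive G Ω) (Γ : Set Ω) (hΓ1 : 1 < Γ.ncard)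
    (hΓ2 : 2 * Γ.ncard < Fintype.card Ω)
    (htr : ∀ x ∈ Γ, ∀ y ∈ Γ, ∃ g : G, (∀ z ∉ Γ, g • z = z) ∧ g • x = y) :
    ∀ σ : Equiv.Perm Ω, Equiv.Perm.sign σ = 1 →
      ∃ x : G, (MulAction.toPerm x : Equiv.Perm Ω) = σ := by
  obtain ⟨g, hg1, s, hs, hfix⟩ := exists_small_support (Nat.card Ω) G Ω rfl hprim Γ hΓ1
    (by rwa [Nat.card_eq_fintype_card]) htr
  have hprim' : IsPreprimitive (MulAction.toPermHom G Ω).range Ω := by
    let φ : G → (MulAction.toPermHom G Ω).range := fun g => ⟨MulAction.toPermHom G Ω g, ⟨g, rfl⟩⟩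
    let f : Ω →ₑ[φ] Ω := { toFun := id, map_smul' := fun _ _ => rfl }
    exact IsPreprimitive.of_surjective (f := f) Function.surjective_id
  have hτR : (MulAction.toPerm g : Equiv.Perm Ω) ∈ (MulAction.toPermHom G Ω).range := ⟨g, rfl⟩
  have hτ1 : (MulAction.toPerm g : Equiv.Perm Ω) ≠ 1 := by
    intro h
    apply hg1
    apply MulAction.toPerm_injective (α := G) (β := Ω)
    rw [h]; exact (map_one (MulAction.toPermHom G Ω)).symm
  have hsupp : (MulAction.toPerm g : Equiv.Perm Ω).support ⊆ s := by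
    intro z hz
    by_contra hzs
    exact (Equiv.Perm.mem_support.mp hz) (hfix z hzs)
  have hc3 : (MulAction.toPerm g : Equiv.Perm Ω).support.card ≤ 3 :=
    le_trans (Finset.card_le_card hsupp) hs
  have hc2 : 2 ≤ (MulAction.toPerm g : Equiv.Perm Ω).support.card :=
    Equiv.Perm.two_le_card_support_of_ne_one hτ1
  have hle : alternatingGroup Ω ≤ (MulAction.toPermHom G Ω).range := by
    rcases Nat.lt_or_ge (MulAction.toPerm g : Equiv.Perm Ω).support.card 3 with h | h
    · have h2 : (MulAction.toPerm g : Equiv.Perm Ω).support.card = 2 := by omega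
      have h3 := Equiv.Perm.subgroup_eq_top_of_isPreprimitive_of_isSwap_mem hprim' _
        (Equiv.Perm.card_support_eq_two.mp h2) hτR
      rw [h3]; exact le_top
    · have h3 : (MulAction.toPerm g : Equiv.Perm Ω).support.card = 3 := by omega
      exact Equiv.Perm.alternatingGroup_le_of_isPreprimitive_of_isThreeCycle_mem hprim'
        (card_support_eq_three_iff.mp h3) hτR
  intro σ hσ
  obtain ⟨x, hx⟩ := hle (Equiv.Perm.mem_alternatingGroup.mpr hσ)
  exact ⟨x, hx⟩

end Cfsg.Agent.Lib.helper15.Marggraf
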