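import Mathlib
import Cfsg.Agent.Lib.helper15.Marggraf2

/-!
# Marggraf's theorem for quasiprimitive groups

Reduction of the quasiprimitive case to the primitive case: a quasiprimitive group with a
Jordan set of fewer than half the points is primitive.
-/

set_option autoImplicit false

namespace Cfsg.Agent.Lib.helper15.Marggraf

open scoped Pointwise
open MulAction

section blocks

variable {G Ω : Type*} [Group G] [MulAction G Ω]

/-- The type of translates of a set `B`. -/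
abbrev Bl (G : Type*) {Ω : Type*} [Group G] [MulAction G Ω] (B : Set Ω) : Type _ :=
  ↥(MulAction.orbit G B)

theorem Bl.eq_of_mem {B : Set Ω} (hB : IsBlock G B) {C C' : Bl G B} {z : Ω}
    (hz : z ∈ (C : Set Ω)) (hz' : z ∈ (C' : Set Ω)) : C = C' := by
  obtain ⟨g, hg⟩ := C.2
  obtain ⟨g', hg'⟩ := C'.2
  have hg : g • B = (C : Set Ω) := hg
  have hg' : g' • B = (C' : Set Ω) := hg'
  apply Subtype.ext
  by_contra hne
  have hne' : g • B ≠ g' • B := by
    intro h; apply hne; rw [← hg, ← hg']; exact h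
  have hd := hB hne'
  rw [hg, hg'] at hd
  exact Set.disjoint_left.mp hd hz hz'

theorem Bl.smul_eq_of_map {B : Set Ω} (hB : IsBlock G B) (g : G) (C C' : Bl G B) {z : Ω}
    (hz : z ∈ (C : Set Ω)) (hz' : g • z ∈ (C' : Set Ω)) : g • C = C' :=
  Bl.eq_of_mem hB (z := g • z) (Set.smul_mem_smul_set hz) hz'

theorem Bl.smul_eq_of_fix {B : Set Ω} (hB : IsBlock G B) (g : G) (C : Bl G B) {z : Ω}
    (hz : z ∈ (C : Set Ω)) (hg : g • z = z) : g • C = C :=
  Bl.smul_eq_of_map hB g C C hz (hg.symm ▸ hz)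

theorem Bl.exists_mem [IsPretransitive G Ω] {B : Set Ω} (hBne : B.Nonempty) (z : Ω) :
    ∃ C : Bl G B, z ∈ (C : Set Ω) := by
  obtain ⟨b, hb⟩ := hBne
  obtain ⟨g, hg⟩ := exists_smul_eq G b z
  exact ⟨⟨g • B, mem_orbit B g⟩, by rw [← hg]; exact Set.smul_mem_smul_set hb⟩

theorem Bl.nonempty_coe {B : Set Ω} (hBne : B.Nonempty) (C : Bl G B) :
    (C : Set Ω).Nonempty := by
  obtain ⟨g, hg⟩ := C.2
  have hg : g • B = (C : Set Ω) := hg
  obtain ⟨b, hb⟩ := hBne
  exact ⟨g • b, by rw [← hg]; exact Set.smul_mem_smul_set hb⟩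

theorem Bl.ncard_coe {B : Set Ω} (C : Bl G B) : (C : Set Ω).ncard = B.ncard := by
  obtain ⟨g, hg⟩ := C.2
  have hg : g • B = (C : Set Ω) := hg
  rw [← hg, ← Set.image_smul]
  exact Set.ncard_image_of_injective _ (MulAction.injective g)

end blocks

theorem marggraf_quasi.{u, v} (n : ℕ) : ∀ (G : Type u) (Ω : Type v) [Group G] [Finite G]
    [MulAction G Ω] [FaithfulSMul G Ω] [Fintype Ω] [DecidableEq Ω], Fintype.card Ω = n →
    (∀ N : Subgroup G, N.Normal → N ≠ ⊥ → IsPretransitive ↥N Ω) →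
    ∀ Γ : Set Ω, 1 < Γ.ncard → 2 * Γ.ncard < Fintype.card Ω →
    (∀ x ∈ Γ, ∀ y ∈ Γ, ∃ g : G, (∀ z ∉ Γ, g • z = z) ∧ g • x = y) →
    ∀ σ : Equiv.Perm Ω, Equiv.Perm.sign σ = 1 →
      ∃ x : G, (MulAction.toPerm x : Equiv.Perm Ω) = σ := by
  induction n using Nat.strong_induction_on with
  | _ n ih =>
  intro G Ω _ _ _ _ _ _ hcard hqp Γ h1 h2 htr
  classical
  obtain ⟨x₁, x₂, hx₁, hx₂, hx₁₂⟩ := (Set.one_lt_ncard_iff (Set.toFinite Γ)).mp h1
  obtain ⟨j₀, hj₀, hj₀x⟩ := htr x₁ hx₁ x₂ hx₂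
  have hj₀1 : j₀ ≠ 1 := fun h => hx₁₂ (by rw [← hj₀x, h, one_smul])
  have hpt : IsPretransitive G Ω := by
    have htop : (⊤ : Subgroup G) ≠ ⊥ := by
      intro h
      exact hj₀1 ((Subgroup.eq_bot_iff_forall _).mp h j₀ (Subgroup.mem_top _))
    have h3 := hqp ⊤ inferInstance htop
    refine ⟨fun a b => ?_⟩
    obtain ⟨g, hg⟩ := h3.exists_smul_eq a b
    exact ⟨(g : G), hg⟩
  by_cases hprim : IsPreprimitive G Ω
  · exact marggraf_primitive hprim Γ h1 h2 htr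
  exfalso
  obtain ⟨B, hB, hBnt⟩ : ∃ B : Set Ω, IsBlock G B ∧ ¬ IsTrivialBlock B := by
    by_contra hcon; push Not at hcon
    exact hprim { toIsPretransitive := hpt, isTrivialBlock_of_isBlock := fun {B} hB => hcon B hB }
  have hBns : ¬ B.Subsingleton := fun h => hBnt (Or.inl h)
  have hBnu : B ≠ Set.univ := fun h => hBnt (Or.inr h)
  obtain ⟨b₁, hb₁, b₂, hb₂, hb₁₂⟩ : ∃ b₁ ∈ B, ∃ b₂ ∈ B, b₁ ≠ b₂ := by
    by_contra hcon; push Not at hcon
    exact hBns (fun a ha b hb => hcon a ha b hb)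
  have hBne : B.Nonempty := ⟨b₁, hb₁⟩
  -- faithfulness on blocks
  have hfaith : ∀ g : G, (∀ C : Bl G B, g • C = C) → g = 1 := by
    intro g hg
    by_contra hg1
    have hker : g ∈ (MulAction.toPermHom G (Bl G B)).ker := by
      rw [MonoidHom.mem_ker]; exact Equiv.ext (fun C => hg C)
    have hKne : (MulAction.toPermHom G (Bl G B)).ker ≠ ⊥ :=
      fun h => hg1 ((Subgroup.eq_bot_iff_forall _).mp h g hker)
    have hKt := hqp _ (MonoidHom.normal_ker _) hKne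
    obtain ⟨z, hz⟩ : ∃ z, z ∉ B := by
      by_contra hcon; push Not at hcon; exact hBnu (Set.eq_univ_of_forall hcon)
    obtain ⟨k, hk⟩ := hKt.exists_smul_eq b₁ z
    have hkB : (k : G) • (⟨B, mem_orbit_self B⟩ : Bl G B) = ⟨B, mem_orbit_self B⟩ := by
      have h3 := k.2
      rw [MonoidHom.mem_ker] at h3
      have h4 := congrArg (fun p : Equiv.Perm (Bl G B) => p ⟨B, mem_orbit_self B⟩) h3
      simpa using h4
    have hkB' : (k : G) • B = B := congrArg Subtype.val hkB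
    apply hz
    rw [← hkB', ← hk]
    exact Set.smul_mem_smul_set hb₁
  haveI : FaithfulSMul G (Bl G B) := by
    refine ⟨fun {g₁ g₂} h => ?_⟩
    have h3 := hfaith (g₂⁻¹ * g₁) (fun C => by rw [mul_smul, h C, inv_smul_smul])
    exact (inv_mul_eq_one.mp h3).symm
  -- dichotomy
  have hdich : ∀ C : Bl G B, (C : Set Ω) ⊆ Γ ∨ Disjoint (C : Set Ω) Γ := by
    intro C
    by_contra hcon
    push Not at hcon
    obtain ⟨hnsub, hndis⟩ := hcon
    obtain ⟨w, hwC, hwΓ⟩ := Set.not_subset.mp hnsub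
    obtain ⟨z, hzC, hzΓ⟩ := Set.not_disjoint_iff.mp hndis
    have hJC : ∀ g : G, (∀ z ∉ Γ, g • z = z) → g • C = C := fun g hg =>
      Bl.smul_eq_of_fix hB g C hwC (hg w hwΓ)
    have hΓC : Γ ⊆ (C : Set Ω) := by
      intro y hy
      obtain ⟨g, hg, hgz⟩ := htr z hzΓ y hy
      have h3 := hJC g hg
      rw [← hgz, ← h3]
      exact Set.smul_mem_smul_set hzC
    apply hj₀1
    apply hfaith
    intro C'
    by_cases hCC' : C' = C
    · rw [hCC']; exact hJC j₀ hj₀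
    · obtain ⟨w', hw'⟩ := Bl.nonempty_coe hBne C'
      have hw'Γ : w' ∉ Γ := fun h => hCC' (Bl.eq_of_mem hB hw' (hΓC h))
      exact Bl.smul_eq_of_fix hB j₀ C' hw' (hj₀ w' hw'Γ)
  have hJΓ : ∀ g : G, (∀ z ∉ Γ, g • z = z) → ∀ z ∈ Γ, g • z ∈ Γ := by
    intro g hg z hz
    by_contra h
    have h3 : g • z = z := MulAction.injective g (hg _ h)
    exact h (by rw [h3]; exact hz)
  -- the Jordan set of blocks
  let Γb : Set (Bl G B) := {C | (C : Set Ω) ⊆ Γ}
  have htrb : ∀ C ∈ Γb, ∀ C' ∈ Γb, ∃ g : G, (∀ D ∉ Γb, g • D = D) ∧ g • C = C' := by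
    intro C hC C' hC'
    obtain ⟨z, hz⟩ := Bl.nonempty_coe hBne C
    obtain ⟨z', hz'⟩ := Bl.nonempty_coe hBne C'
    obtain ⟨g, hg, hgz⟩ := htr z (hC hz) z' (hC' hz')
    refine ⟨g, fun D hD => ?_, Bl.smul_eq_of_map hB g C C' hz (hgz.symm ▸ hz')⟩
    obtain ⟨w, hw⟩ := Bl.nonempty_coe hBne D
    have hdis : Disjoint (D : Set Ω) Γ := (hdich D).resolve_left hD
    exact Bl.smul_eq_of_fix hB g D hw (hg w (fun h => Set.disjoint_left.mp hdis hw h))
  -- the block map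
  have hex := fun z => Bl.exists_mem (G := G) hBne z
  choose π hπ using hex
  have hπu : ∀ z (C : Bl G B), z ∈ (C : Set Ω) → π z = C :=
    fun z C hz => Bl.eq_of_mem hB (hπ z) hz
  haveI : Fintype (Bl G B) := Fintype.ofFinite _
  -- counting
  have hcount : ∀ S : Set Ω, (∀ C : Bl G B, (C : Set Ω) ⊆ S ∨ Disjoint (C : Set Ω) S) →
      S.ncard = B.ncard * {C : Bl G B | (C : Set Ω) ⊆ S}.ncard := by
    intro S hS
    rw [Set.ncard_eq_toFinset_card' S, Set.ncard_eq_toFinset_card' {C : Bl G B | (C : Set Ω) ⊆ S}]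
    have hmaps : ∀ z ∈ S.toFinset, π z ∈ ({C : Bl G B | (C : Set Ω) ⊆ S}).toFinset := by
      intro z hz
      rw [Set.mem_toFinset] at hz ⊢
      exact (hS (π z)).resolve_right (fun hd => Set.disjoint_left.mp hd (hπ z) hz)
    rw [Finset.card_eq_sum_card_fiberwise hmaps]
    rw [Finset.sum_congr rfl (g := fun _ => B.ncard), Finset.sum_const, smul_eq_mul, mul_comm]
    intro C hC
    rw [Set.mem_toFinset] at hC
    rw [← Bl.ncard_coe C, Set.ncard_eq_toFinset_card' (C : Set Ω)]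
    congr 1
    ext z
    simp only [Finset.mem_filter, Set.mem_toFinset]
    constructor
    · rintro ⟨_, rfl⟩; exact hπ z
    · intro hz; exact ⟨hC hz, hπu z C hz⟩
  have hcΓ := hcount Γ hdich
  have hcU := hcount Set.univ (fun C => Or.inl (Set.subset_univ _))
  have hsetU : {C : Bl G B | (C : Set Ω) ⊆ Set.univ} = Set.univ := by ext C; simp
  rw [hsetU, Set.ncard_univ, Set.ncard_univ, Nat.card_eq_fintype_card,
    Nat.card_eq_fintype_card] at hcU
  have hb2 : 2 ≤ B.ncard :=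
    (Set.one_lt_ncard_iff (Set.toFinite B)).mpr ⟨b₁, b₂, hb₁, hb₂, hb₁₂⟩
  obtain ⟨m', hm'⟩ : ∃ m', m' = Γb.ncard := ⟨_, rfl⟩
  have hcΓ' : Γ.ncard = B.ncard * m' := by rw [hm']; exact hcΓ
  have h2' : 2 * m' < Fintype.card (Bl G B) := by
    have h3 : 2 * (B.ncard * m') < B.ncard * Fintype.card (Bl G B) := by
      rw [← hcΓ', ← hcU]; exact h2
    have h4 : B.ncard * (2 * m') < B.ncard * Fintype.card (Bl G B) := by
      rw [show B.ncard * (2 * m') = 2 * (B.ncard * m') by ring]; exact h3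
    exact Nat.lt_of_mul_lt_mul_left h4
  -- at least three blocks inside Γ
  have hm3 : 3 ≤ m' := by
    by_contra hlt; push Not at hlt
    have hC₁ : (π x₁ : Set Ω) ⊆ Γ :=
      (hdich (π x₁)).resolve_right (fun hd => Set.disjoint_left.mp hd (hπ x₁) hx₁)
    obtain ⟨y₁, y₂, hy₁, hy₂, hy₁₂⟩ :
        ∃ y₁ y₂, y₁ ∈ (π x₁ : Set Ω) ∧ y₂ ∈ (π x₁ : Set Ω) ∧ y₁ ≠ y₂ := by
      have h3 : 1 < (π x₁ : Set Ω).ncard := by rw [Bl.ncard_coe]; omega
      exact (Set.one_lt_ncard_iff (Set.toFinite _)).mp h3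
    obtain ⟨g, hg, hgy⟩ := htr y₁ (hC₁ hy₁) y₂ (hC₁ hy₂)
    have hg1 : g ≠ 1 := fun h => hy₁₂ (by rw [← hgy, h, one_smul])
    apply hg1
    apply hfaith
    intro D
    have hgC₁ : g • π x₁ = π x₁ := Bl.smul_eq_of_map hB g _ _ hy₁ (hgy.symm ▸ hy₂)
    by_cases hD : (D : Set Ω) ⊆ Γ
    · by_contra hgD
      by_cases hDC : D = π x₁
      · exact hgD (hDC ▸ hgC₁)
      · have hgDΓ : ((g • D : Bl G B) : Set Ω) ⊆ Γ := by
          intro z hz
          obtain ⟨w, hw, rfl⟩ := hz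
          exact hJΓ g hg w (hD hw)
        have hgDC : g • D ≠ π x₁ := by
          intro h; apply hDC
          have h3 : g • D = g • π x₁ := by rw [h, hgC₁]
          exact MulAction.injective g h3
        have h3 : ({π x₁, D, g • D} : Finset (Bl G B)).card = 3 := by
          rw [Finset.card_eq_three]
          exact ⟨_, _, _, fun h => hDC h.symm, fun h => hgDC h.symm, fun h => hgD h.symm, rfl⟩
        have hsub : (({π x₁, D, g • D} : Finset (Bl G B)) : Set (Bl G B)) ⊆ Γb := by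
          intro E hE
          simp only [Finset.coe_insert, Finset.coe_singleton, Set.mem_insert_iff,
            Set.mem_singleton_iff] at hE
          rcases hE with rfl | rfl | rfl
          · exact hC₁
          · exact hD
          · exact hgDΓ
        have h4 := Set.ncard_le_ncard hsub (Set.toFinite _)
        rw [Set.ncard_coe_finset, h3] at h4
        omega
    · obtain ⟨w, hw⟩ := Bl.nonempty_coe hBne D
      have hdis : Disjoint (D : Set Ω) Γ := (hdich D).resolve_left hD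
      exact Bl.smul_eq_of_fix hB g D hw (hg w (fun h => Set.disjoint_left.mp hdis hw h))
  have hslt : Fintype.card (Bl G B) < n := by
    rw [← hcard, hcU]
    have hs0 : 0 < Fintype.card (Bl G B) := by omega
    nlinarith
  have hqp' : ∀ N : Subgroup G, N.Normal → N ≠ ⊥ → IsPretransitive ↥N (Bl G B) := by
    intro N hN hNne
    have h3 := hqp N hN hNne
    refine ⟨fun C C' => ?_⟩
    obtain ⟨z, hz⟩ := Bl.nonempty_coe hBne C
    obtain ⟨z', hz'⟩ := Bl.nonempty_coe hBne C'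
    obtain ⟨k, hk⟩ := h3.exists_smul_eq z z'
    exact ⟨k, Bl.smul_eq_of_map hB (k : G) C C' hz (by rw [← hk] at hz'; exact hz')⟩
  have hIH := ih (Fintype.card (Bl G B)) hslt G (Bl G B) rfl hqp' Γb (by omega)
    (by rw [← hm']; exact h2') htrb
  -- the subgroup of elements acting evenly on the blocks
  have hφinj : Function.Injective (MulAction.toPermHom G (Bl G B)) := MulAction.toPerm_injective
  obtain ⟨A, hA⟩ : ∃ A : Subgroup G,
      A = (Equiv.Perm.sign.comp (MulAction.toPermHom G (Bl G B))).ker := ⟨_, rfl⟩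
  have hAmem : ∀ g : G, g ∈ A ↔ Equiv.Perm.sign (MulAction.toPermHom G (Bl G B) g) = 1 := by
    intro g; rw [hA, MonoidHom.mem_ker]; rfl
  have hAnormal : A.Normal := by rw [hA]; exact MonoidHom.normal_ker _
  -- a third point of Γ
  obtain ⟨x₃, hx₃, hx₃1, hx₃2⟩ : ∃ x₃ ∈ Γ, x₃ ≠ x₁ ∧ x₃ ≠ x₂ := by
    by_contra hcon; push Not at hcon
    have hsub : Γ ⊆ {x₁, x₂} := by
      intro z hz
      by_cases h : z = x₁
      · simp [h]
      · simp [hcon z hz h]
    have h3 := Set.ncard_le_ncard hsub (Set.toFinite _)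
    have h4 : ({x₁, x₂} : Set Ω).ncard ≤ 2 := by
      have h5 := Set.ncard_insert_le x₁ ({x₂} : Set Ω)
      rw [Set.ncard_singleton] at h5
      exact h5
    have h5 : 6 ≤ B.ncard * m' := by nlinarith
    omega
  obtain ⟨j₁, hj₁, hj₁x⟩ := htr x₁ hx₁ x₃ hx₃
  obtain ⟨j, hjJ, hj1, hjA⟩ : ∃ j : G, (∀ z ∉ Γ, j • z = z) ∧ j ≠ 1 ∧ j ∈ A := by
    by_cases h0 : j₀ ∈ A
    · exact ⟨j₀, hj₀, hj₀1, h0⟩
    by_cases h1' : j₁ ∈ A
    · exact ⟨j₁, hj₁, fun h => hx₃1 (by rw [← hj₁x, h, one_smul]), h1'⟩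
    refine ⟨j₀⁻¹ * j₁, fun z hz => by rw [mul_smul, hj₁ z hz, inv_smul_eq_iff, hj₀ z hz], ?_, ?_⟩
    · intro h
      have h3 : j₀ = j₁ := inv_mul_eq_one.mp h
      apply hx₃2; rw [← hj₁x, ← h3, hj₀x]
    · rw [hAmem] at h0 h1' ⊢
      have e0 := (Int.units_eq_one_or _).resolve_left h0
      have e1 := (Int.units_eq_one_or _).resolve_left h1'
      rw [map_mul, map_inv, map_mul, map_inv, e0, e1]; decide
  have hAne : A ≠ ⊥ := fun h => hj1 ((Subgroup.eq_bot_iff_forall _).mp h j hjA)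
  have hAt := hqp A hAnormal hAne
  -- a block outside Γ
  obtain ⟨C₀, hC₀⟩ : ∃ C₀ : Bl G B, C₀ ∉ Γb := by
    by_contra hcon; push Not at hcon
    have h3 : Γb = Set.univ := Set.eq_univ_of_forall hcon
    rw [h3, Set.ncard_univ, Nat.card_eq_fintype_card] at hm'
    omega
  have hC₀dis : Disjoint (C₀ : Set Ω) Γ := (hdich C₀).resolve_left hC₀
  obtain ⟨y₁, y₂, hy₁, hy₂, hy₁₂⟩ :
      ∃ y₁ y₂, y₁ ∈ (C₀ : Set Ω) ∧ y₂ ∈ (C₀ : Set Ω) ∧ y₁ ≠ y₂ := by
    have h3 : 1 < (C₀ : Set Ω).ncard := by rw [Bl.ncard_coe]; omega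
    exact (Set.one_lt_ncard_iff (Set.toFinite _)).mp h3
  obtain ⟨a, ha⟩ := hAt.exists_smul_eq y₁ y₂
  have ha' : (a : G) • y₁ = y₂ := ha
  have haC₀ : (a : G) • C₀ = C₀ :=
    Bl.smul_eq_of_map hB (a : G) C₀ C₀ hy₁ (ha'.symm ▸ hy₂)
  -- simplicity of the alternating group on the remaining blocks
  have hcard' : 5 ≤ Nat.card {C : Bl G B // C ≠ C₀} := by
    rw [Nat.card_eq_fintype_card, Fintype.card_subtype_compl (fun C : Bl G B => C = C₀),
      Fintype.card_subtype_eq]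
    omega
  haveI hsimple : IsSimpleGroup (alternatingGroup {C : Bl G B // C ≠ C₀}) :=
    alternatingGroup.isSimpleGroup hcard'
  obtain ⟨N₁, hN₁⟩ : ∃ N₁ : Subgroup (alternatingGroup {C : Bl G B // C ≠ C₀}),
      N₁ = ((((fixingSubgroup G (C₀ : Set Ω)).map (MulAction.toPermHom G (Bl G B))).comap
        (Equiv.Perm.ofSubtype : Equiv.Perm {C : Bl G B // C ≠ C₀} →* Equiv.Perm (Bl G B))
        ).subgroupOf (alternatingGroup {C : Bl G B // C ≠ C₀})) := ⟨_, rfl⟩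
  have hN₁mem : ∀ τ : alternatingGroup {C : Bl G B // C ≠ C₀}, τ ∈ N₁ ↔
      ∃ g : G, (∀ z ∈ (C₀ : Set Ω), g • z = z) ∧
        MulAction.toPermHom G (Bl G B) g
          = Equiv.Perm.ofSubtype (τ : Equiv.Perm {C : Bl G B // C ≠ C₀}) := by
    intro τ
    rw [hN₁, Subgroup.mem_subgroupOf, Subgroup.mem_comap, Subgroup.mem_map]
    constructor
    · rintro ⟨g, hg, hgτ⟩
      exact ⟨g, fun z hz => (mem_fixingSubgroup_iff G).mp hg z hz, hgτ⟩
    · rintro ⟨g, hg, hgτ⟩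
      exact ⟨g, (mem_fixingSubgroup_iff G).mpr hg, hgτ⟩
  have hlift : ∀ τ : Equiv.Perm {C : Bl G B // C ≠ C₀}, Equiv.Perm.sign τ = 1 →
      ∃ h : G, MulAction.toPermHom G (Bl G B) h = Equiv.Perm.ofSubtype τ := by
    intro τ hτ
    have h3 : Equiv.Perm.sign (Equiv.Perm.ofSubtype τ) = 1 := by
      rw [Equiv.Perm.sign_ofSubtype]; exact hτ
    exact hIH _ h3
  have hnormal : N₁.Normal := by
    refine ⟨fun τ hτ τ' => ?_⟩
    rw [hN₁mem] at hτ ⊢
    obtain ⟨g, hgK, hgτ⟩ := hτ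
    obtain ⟨h, hh⟩ := hlift τ'.1 (Equiv.Perm.mem_alternatingGroup.mp τ'.2)
    have hhC₀ : h • C₀ = C₀ := by
      have h3 := congrArg (fun q : Equiv.Perm (Bl G B) => q C₀) hh
      have h4 : (Equiv.Perm.ofSubtype (τ' : Equiv.Perm {C : Bl G B // C ≠ C₀})) C₀ = C₀ :=
        Equiv.Perm.ofSubtype_apply_of_not_mem _ (by simp)
      exact h3.trans h4
    refine ⟨h * g * h⁻¹, ?_, ?_⟩
    · intro z hz
      have hz' : h⁻¹ • z ∈ (C₀ : Set Ω) := by
        have h3 : h⁻¹ • C₀ = C₀ := by rw [inv_smul_eq_iff, hhC₀]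
        have h4 : h⁻¹ • z ∈ ((h⁻¹ • C₀ : Bl G B) : Set Ω) := Set.smul_mem_smul_set hz
        rwa [h3] at h4
      rw [mul_smul, mul_smul, hgK _ hz', smul_inv_smul]
    · rw [map_mul, map_mul, map_inv, hh, hgτ]
      simp
  -- even elements fixing the block `C₀` restrict to even permutations of the other blocks
  have hsub : ∀ g : G, g ∈ A → g • C₀ = C₀ →
      ∃ τ : Equiv.Perm {C : Bl G B // C ≠ C₀}, Equiv.Perm.sign τ = 1 ∧
        Equiv.Perm.ofSubtype τ = MulAction.toPermHom G (Bl G B) g := by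
    intro g hgA hgC
    have h₁ : ∀ C : Bl G B, (MulAction.toPermHom G (Bl G B) g) C ≠ C₀ ↔ C ≠ C₀ := by
      intro C
      show g • C ≠ C₀ ↔ C ≠ C₀
      rw [not_iff_not]
      constructor
      · intro h; rw [← hgC] at h; exact MulAction.injective g h
      · intro h; rw [h, hgC]
    have h₂ : ∀ C : Bl G B, (MulAction.toPermHom G (Bl G B) g) C ≠ C → C ≠ C₀ := by
      intro C hC hCC; apply hC; rw [hCC]; exact hgC
    refine ⟨Equiv.Perm.subtypePerm (MulAction.toPermHom G (Bl G B) g) h₁, ?_,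
      Equiv.Perm.ofSubtype_subtypePerm h₁ h₂⟩
    rw [Equiv.Perm.sign_subtypePerm _ h₁ h₂]
    exact (hAmem g).mp hgA
  rcases hnormal.eq_bot_or_eq_top with hbot | htop
  · have hjC₀ : j • C₀ = C₀ := by
      obtain ⟨w, hw⟩ := Bl.nonempty_coe hBne C₀
      exact Bl.smul_eq_of_fix hB j C₀ hw (hjJ w (fun h => Set.disjoint_left.mp hC₀dis hw h))
    obtain ⟨τ, hτs, hτφ⟩ := hsub j hjA hjC₀
    have hτN : (⟨τ, Equiv.Perm.mem_alternatingGroup.mpr hτs⟩ :
        alternatingGroup {C : Bl G B // C ≠ C₀}) ∈ N₁ := by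
      rw [hN₁mem]
      exact ⟨j, fun z hz => hjJ z (fun h => Set.disjoint_left.mp hC₀dis hz h), hτφ.symm⟩
    rw [hbot, Subgroup.mem_bot] at hτN
    have hτ1 : τ = 1 := congrArg Subtype.val hτN
    apply hj1
    apply hφinj
    rw [← hτφ, hτ1, map_one, map_one]
  · obtain ⟨τ, hτs, hτφ⟩ := hsub (a : G) a.2 haC₀
    have hτN : (⟨τ, Equiv.Perm.mem_alternatingGroup.mpr hτs⟩ :
        alternatingGroup {C : Bl G B // C ≠ C₀}) ∈ N₁ := by
      rw [htop]; exact Subgroup.mem_top _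
    rw [hN₁mem] at hτN
    obtain ⟨g, hgK, hgτ⟩ := hτN
    have h3 : g = (a : G) := hφinj (by rw [hgτ]; exact hτφ)
    rw [h3] at hgK
    exact hy₁₂ ((hgK y₁ hy₁).symm.trans ha')

end Cfsg.Agent.Lib.helper15.Marggraf
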