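import Mathlib

set_option autoImplicit false

namespace Cfsg.Agent.Lib.helper15.Maschke

/-- Maschke for a commutative group under a coprime automorphism group:
an invariant subgroup with a complement has an invariant complement. -/
theorem comm_case {V A : Type*} [CommGroup V] [Finite V] [Group A] [Finite A] (φ : A →* MulAut V)
    (hcop : (Nat.card A).Coprime (Nat.card V)) (U W : Subgroup V)
    (hU : ∀ a u, u ∈ U → φ a u ∈ U) (hUW : U ⊓ W = ⊥) (hUWV : U ⊔ W = ⊤) :
    ∃ W' : Subgroup V, (∀ a w, w ∈ W' → φ a w ∈ W') ∧ U ⊓ W' = ⊥ ∧ U ⊔ W' = ⊤ := by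
  classical
  have : Fintype A := Fintype.ofFinite A
  -- the projection onto U along W
  let c : ↥U × ↥W →* V := (U.subtype).coprod (W.subtype)
  have hc_apply : ∀ x : ↥U × ↥W, c x = (x.1 : V) * (x.2 : V) := fun x => by
    simp [c, MonoidHom.coprod_apply]
  have hcinj : Function.Injective c := by
    rw [injective_iff_map_eq_one]
    rintro ⟨u, w⟩ h
    rw [hc_apply] at h
    have h1 : (u : V) = (w : V)⁻¹ := eq_inv_of_mul_eq_one_left h
    have h2 : (u : V) ∈ U ⊓ W := ⟨u.2, by rw [h1]; exact W.inv_mem w.2⟩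
    rw [hUW, Subgroup.mem_bot] at h2
    have h3 : (w : V) = 1 := by rw [h2] at h; simpa using h
    ext
    · simpa using h2
    · simpa using h3
  have hcsurj : Function.Surjective c := by
    intro v
    have hv : v ∈ U ⊔ W := by rw [hUWV]; trivial
    obtain ⟨u, hu, w, hw, rfl⟩ := Subgroup.mem_sup.mp hv
    exact ⟨(⟨u, hu⟩, ⟨w, hw⟩), by rw [hc_apply]⟩
  let e : ↥U × ↥W ≃* V := MulEquiv.ofBijective c ⟨hcinj, hcsurj⟩
  let π : V →* V := (U.subtype).comp ((MonoidHom.fst ↥U ↥W).comp e.symm.toMonoidHom)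
  have hπU : ∀ v, π v ∈ U := fun v => by
    simp only [π, MonoidHom.comp_apply]
    exact Subtype.property _
  have hπu : ∀ u ∈ U, π u = u := by
    intro u hu
    have : e.symm u = (⟨u, hu⟩, 1) := by
      rw [MulEquiv.symm_apply_eq]
      change u = c _
      rw [hc_apply]; simp
    simp only [π, MonoidHom.comp_apply, MulEquiv.coe_toMonoidHom, this]
    rfl
  -- the averaged map
  let f : A → (V →* V) := fun a => ((φ a).toMonoidHom).comp (π.comp (φ a⁻¹).toMonoidHom)
  let θ : V →* V := ∏ a : A, f a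
  have hθ : ∀ v, θ v = ∏ a : A, φ a (π (φ a⁻¹ v)) := by
    intro v
    simp only [θ, MonoidHom.finsetProd_apply]
    rfl
  have hθU : ∀ v, θ v ∈ U := by
    intro v
    rw [hθ]
    exact Subgroup.prod_mem _ (fun a _ => hU a _ (hπU _))
  have hθu : ∀ u ∈ U, θ u = u ^ Nat.card A := by
    intro u hu
    rw [hθ]
    have : ∀ a : A, φ a (π (φ a⁻¹ u)) = u := by
      intro a
      rw [hπu _ (hU a⁻¹ u hu)]
      rw [← MulAut.mul_apply, ← map_mul, mul_inv_cancel, map_one, MulAut.one_apply]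
    simp only [this, Finset.prod_const, Finset.card_univ, Nat.card_eq_fintype_card]
  have hθeq : ∀ (b : A) (v : V), θ (φ b v) = φ b (θ v) := by
    intro b v
    rw [hθ, hθ, map_prod]
    refine Fintype.prod_equiv (Equiv.mulLeft b⁻¹) _ _ ?_
    intro a
    simp only [Equiv.coe_mulLeft, map_mul, map_inv, MulAut.mul_apply, mul_inv_rev, inv_inv,
      MulAut.apply_inv_self]
  refine ⟨θ.ker, ?_, ?_, ?_⟩
  · intro a w hw
    rw [MonoidHom.mem_ker] at hw ⊢
    rw [hθeq, hw, map_one]
  · rw [eq_bot_iff]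
    intro u huk
    obtain ⟨hu, hk⟩ := Subgroup.mem_inf.mp huk
    rw [MonoidHom.mem_ker, hθu u hu] at hk
    rw [Subgroup.mem_bot]
    have h1 : orderOf u ∣ Nat.card A := orderOf_dvd_of_pow_eq_one hk
    have h2 : orderOf u ∣ Nat.card V := orderOf_dvd_natCard u
    have h3 : orderOf u = 1 := Nat.eq_one_of_dvd_coprimes hcop h1 h2
    exact orderOf_eq_one_iff.mp h3
  · rw [eq_top_iff]
    intro v _
    have hco : (Nat.card A).Coprime (orderOf (θ v)) :=
      Nat.Coprime.coprime_dvd_right (orderOf_dvd_natCard _) hcop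
    obtain ⟨m, hm⟩ := exists_pow_eq_self_of_coprime hco
    have hu : (θ v) ^ m ∈ U := U.pow_mem (hθU v) m
    have hk : v * ((θ v) ^ m)⁻¹ ∈ θ.ker := by
      rw [MonoidHom.mem_ker, map_mul, map_inv, hθu _ hu, ← pow_mul, mul_comm m, pow_mul, hm,
        mul_inv_cancel]
    have : v = (θ v) ^ m * (v * ((θ v) ^ m)⁻¹) := by
      rw [mul_comm v, mul_inv_cancel_left]
    rw [this]
    exact Subgroup.mul_mem_sup hu hk

end Cfsg.Agent.Lib.helper15.Maschke
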