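import Mathlib
import Cfsg.Prelude.Def_PLocal
import Cfsg.Prelude.Def_Local
import Cfsg.Agent.Lib.helper14.PStable
import Cfsg.Agent.Lib.helper14.ZJBridge
import Cfsg.Agent.Lib.helper57.PPrimeQuot

/-!
# `p`-stability passes to `G / O_{p'}(G)` (on normal `p`-subgroups), and Glauberman's factorization
`G = O_{p'}(G) N_G(Z(J(P)))` for `p`-constrained `p`-stable groups.
-/

set_option autoImplicit false

namespace Cfsg.Agent.Lib.helper15.PStableQuot

open Subgroup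
open scoped commutatorElement

variable {G : Type*} [Group G] [Finite G] {p : ℕ} [hp : Fact p.Prime]

/-- If `G` is `p`-stable then `G / O_{p'}(G)` acts `p`-stably on each of its normal
`p`-subgroups. -/
theorem isPStableOn_quotient [hKn : (Cfsg.pPrimeCore p G).Normal] (hs : Cfsg.IsPStable p G)
    (Vb : Subgroup (G ⧸ Cfsg.pPrimeCore p G)) [hVbn : Vb.Normal] (hVb : IsPGroup p Vb) :
    Cfsg.IsPStableOn p Vb := by
  intro ab hq
  have hK : (Nat.card (Cfsg.pPrimeCore p G)).Coprime p :=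
    Cfsg.Agent.Lib.helper40.pPrimeCore_card_coprime p G
  obtain ⟨π, hπdef⟩ : ∃ π : G →* G ⧸ Cfsg.pPrimeCore p G,
      π = QuotientGroup.mk' (Cfsg.pPrimeCore p G) := ⟨_, rfl⟩
  have hπs : Function.Surjective π := by rw [hπdef]; exact QuotientGroup.mk'_surjective _
  have hker : π.ker = Cfsg.pPrimeCore p G := by rw [hπdef]; exact QuotientGroup.ker_mk' _
  have hπK : ∀ k ∈ Cfsg.pPrimeCore p G, π k = 1 := fun k hk => by
    rw [← MonoidHom.mem_ker, hker]; exact hk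
  obtain ⟨V₁, hV₁⟩ : ∃ V₁ : Subgroup G, V₁ = Vb.comap π := ⟨_, rfl⟩
  have hKV₁ : Cfsg.pPrimeCore p G ≤ V₁ := by
    have h := Subgroup.ker_le_comap π Vb
    rw [hker] at h
    rw [hV₁]
    exact h
  have hV₁map : V₁.map π = Vb := by
    rw [hV₁]
    exact Subgroup.map_comap_eq_self_of_surjective hπs Vb
  have hrel : ∃ n : ℕ, (Cfsg.pPrimeCore p G).relIndex V₁ = p ^ n := by
    have h := Subgroup.relIndex_comap (⊥ : Subgroup (G ⧸ Cfsg.pPrimeCore p G)) π V₁
    rw [MonoidHom.comap_bot, hker, hV₁map, Subgroup.relIndex_bot_left] at h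
    obtain ⟨n, hn⟩ := IsPGroup.iff_card.mp hVb
    exact ⟨n, h.trans hn⟩
  obtain ⟨Q⟩ : Nonempty (Sylow p V₁) := inferInstance
  obtain ⟨V, hVdef⟩ : ∃ V : Subgroup G, V = (Q : Subgroup V₁).map V₁.subtype := ⟨_, rfl⟩
  have hVp : IsPGroup p V := by rw [hVdef]; exact Q.2.map _
  have hVV₁ : V ≤ V₁ := by rw [hVdef]; exact Subgroup.map_subtype_le _
  have hV₁le : V₁ ≤ Cfsg.pPrimeCore p G ⊔ V := by
    rw [hVdef]
    exact Cfsg.Agent.Lib.helper14.le_sup_sylow_of_relIndex _ V₁ hKV₁ hrel Q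
  have hsup : Cfsg.pPrimeCore p G ⊔ V = V₁ := le_antisymm (sup_le hKV₁ hVV₁) hV₁le
  have hVmap : V.map π = Vb := by
    rw [← hV₁map, ← hsup, Subgroup.map_sup]
    have h2 : (Cfsg.pPrimeCore p G).map π = ⊥ := by
      rw [Subgroup.map_eq_bot_iff, hker]
    rw [h2, bot_sup_eq]
  have hVbn' : (V.map (QuotientGroup.mk' (Cfsg.pPrimeCore p G))).Normal := by
    rw [← hπdef, hVmap]; exact hVbn
  -- lift the acting element into the normalizer of `V`
  obtain ⟨g, rfl⟩ := hπs ab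
  obtain ⟨k, hk, hg'⟩ := Cfsg.Agent.Lib.helper57.exists_mul_mem_normalizer_of_map_normal
    (Cfsg.pPrimeCore p G) hK hVp hVbn' g
  obtain ⟨g', hg'def⟩ : ∃ g' : G, g' = k⁻¹ * g := ⟨_, rfl⟩
  rw [← hg'def] at hg'
  have hπg' : π g' = π g := by
    rw [hg'def, map_mul, map_inv, hπK k hk, inv_one, one_mul]
  -- the `p`-part of `g'`
  obtain ⟨j, m, hm, hjm⟩ :=
    Nat.exists_eq_pow_mul_and_not_dvd (orderOf_pos g').ne' p hp.out.ne_one
  obtain ⟨a', ha'def⟩ : ∃ a' : G, a' = g' ^ m := ⟨_, rfl⟩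
  have hap : IsPGroup p ↥(Subgroup.zpowers a') := by
    have h1 : orderOf a' ∣ p ^ j := by
      apply orderOf_dvd_of_pow_eq_one
      rw [ha'def, ← pow_mul, mul_comm, ← hjm, pow_orderOf_eq_one]
    obtain ⟨i, -, hi⟩ := (Nat.dvd_prime_pow hp.out).mp h1
    apply IsPGroup.of_card (n := i)
    rw [Nat.card_zpowers, hi]
  have ha'N : a' ∈ Subgroup.normalizer (V : Set G) := by
    rw [ha'def]; exact Subgroup.pow_mem _ hg' m
  have hzle : Subgroup.zpowers a' ≤ Subgroup.zpowers g' := by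
    rw [ha'def]
    exact (Subgroup.zpowers_le).mpr (Subgroup.pow_mem _ (Subgroup.mem_zpowers g') m)
  have hzN : Subgroup.zpowers g' ≤ Subgroup.normalizer (V : Set G) :=
    (Subgroup.zpowers_le).mpr hg'
  have hcomm1 : ⁅V, Subgroup.zpowers g'⁆ ≤ V := by
    rw [Subgroup.commutator_le]
    intro v hv z hz
    have h1 : z * v⁻¹ * z⁻¹ ∈ V :=
      (Subgroup.mem_normalizer_iff.mp (hzN hz) v⁻¹).mp (V.inv_mem hv)
    have h2 : ⁅v, z⁆ = v * (z * v⁻¹ * z⁻¹) := by rw [commutatorElement_def]; group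
    rw [h2]
    exact V.mul_mem hv h1
  have hcomm2 : ⁅⁅V, Subgroup.zpowers g'⁆, Subgroup.zpowers g'⁆ ≤ V :=
    (Subgroup.commutator_mono hcomm1 le_rfl).trans hcomm1
  have hcommK : ⁅⁅V, Subgroup.zpowers g'⁆, Subgroup.zpowers g'⁆ ≤ Cfsg.pPrimeCore p G := by
    rw [← hker, ← Subgroup.map_eq_bot_iff, Subgroup.map_commutator, Subgroup.map_commutator,
      hVmap, MonoidHom.map_zpowers, hπg']
    exact hq
  have hquad : ⁅⁅V, Subgroup.zpowers a'⁆, Subgroup.zpowers a'⁆ = ⊥ := by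
    rw [eq_bot_iff]
    calc ⁅⁅V, Subgroup.zpowers a'⁆, Subgroup.zpowers a'⁆
        ≤ ⁅⁅V, Subgroup.zpowers g'⁆, Subgroup.zpowers g'⁆ :=
          Subgroup.commutator_mono (Subgroup.commutator_mono le_rfl hzle) hzle
      _ ≤ V ⊓ Cfsg.pPrimeCore p G := le_inf hcomm2 hcommK
      _ = ⊥ := Cfsg.Agent.Lib.helper57.inf_eq_bot_of_isPGroup_of_coprime hVp hK
  have hnorm : ∀ a ∈ Subgroup.zpowers a', ∀ x ∈ V, a * x * a⁻¹ ∈ V := fun a ha x hx =>
    (Subgroup.mem_normalizer_iff.mp (hzN (hzle ha)) x).mp hx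
  have hVle : V ≤ Cfsg.pPrimePCore p G := by
    intro v hv
    have h1 : π v ∈ Cfsg.pCore p (G ⧸ Cfsg.pPrimeCore p G) :=
      Cfsg.Agent.Lib.helper40.le_pCore Vb hVbn hVb (hVmap ▸ Subgroup.mem_map_of_mem π hv)
    rw [hπdef] at h1
    exact h1
  have hsupn : (Cfsg.pPrimeCore p G ⊔ V).Normal := by
    rw [hsup, hV₁]
    exact hVbn.comap π
  have key := hs.2.2 (Subgroup.zpowers a') V hap hVp hnorm hVle hsupn hquad
  -- transfer along `N(V) / C(V) → (G/K) / C(Vb)`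
  have hle : (Subgroup.centralizer (V : Set G)).subgroupOf (Subgroup.normalizer (V : Set G)) ≤
      (Subgroup.centralizer (Vb : Set (G ⧸ Cfsg.pPrimeCore p G))).comap
        (π.comp (Subgroup.normalizer (V : Set G)).subtype) := by
    intro x hx
    rw [Subgroup.mem_subgroupOf] at hx
    rw [Subgroup.mem_comap, Subgroup.mem_centralizer_iff]
    intro y hy
    rw [← hVmap] at hy
    obtain ⟨v, hv, rfl⟩ := hy
    rw [MonoidHom.comp_apply, Subgroup.coe_subtype, ← map_mul, ← map_mul,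
      Subgroup.mem_centralizer_iff.mp hx v hv]
  have hψs : Function.Surjective (QuotientGroup.map
      ((Subgroup.centralizer (V : Set G)).subgroupOf (Subgroup.normalizer (V : Set G)))
      (Subgroup.centralizer (Vb : Set (G ⧸ Cfsg.pPrimeCore p G)))
      (π.comp (Subgroup.normalizer (V : Set G)).subtype) hle) := by
    intro y
    obtain ⟨x, rfl⟩ := QuotientGroup.mk_surjective y
    obtain ⟨x, rfl⟩ := hπs x
    obtain ⟨k', hk', hx⟩ := Cfsg.Agent.Lib.helper57.exists_mul_mem_normalizer_of_map_normal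
      (Cfsg.pPrimeCore p G) hK hVp hVbn' x
    refine ⟨QuotientGroup.mk ⟨k'⁻¹ * x, hx⟩, ?_⟩
    have h1 : π (k'⁻¹ * x) = π x := by
      rw [map_mul, map_inv, hπK k' hk', inv_one, one_mul]
    rw [← h1]
    rfl
  have hDn : ((Cfsg.pCore p (↥(Subgroup.normalizer (V : Set G)) ⧸
      (Subgroup.centralizer (V : Set G)).subgroupOf (Subgroup.normalizer (V : Set G)))).map
      (QuotientGroup.map _ (Subgroup.centralizer (Vb : Set (G ⧸ Cfsg.pPrimeCore p G)))
        (π.comp (Subgroup.normalizer (V : Set G)).subtype) hle)).Normal :=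
    (Cfsg.Agent.Lib.helper40.pCore_normal' p _).map _ hψs
  have hDp : IsPGroup p ↥((Cfsg.pCore p (↥(Subgroup.normalizer (V : Set G)) ⧸
      (Subgroup.centralizer (V : Set G)).subgroupOf (Subgroup.normalizer (V : Set G)))).map
      (QuotientGroup.map _ (Subgroup.centralizer (Vb : Set (G ⧸ Cfsg.pPrimeCore p G)))
        (π.comp (Subgroup.normalizer (V : Set G)).subtype) hle)) :=
    (Cfsg.Agent.Lib.helper40.pCore_isPGroup p _).map _
  have hDle := Cfsg.Agent.Lib.helper40.le_pCore _ hDn hDp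
  have hmem : (QuotientGroup.mk (π a') :
      (G ⧸ Cfsg.pPrimeCore p G) ⧸ Subgroup.centralizer (Vb : Set (G ⧸ Cfsg.pPrimeCore p G))) ∈
      Cfsg.pCore p ((G ⧸ Cfsg.pPrimeCore p G) ⧸
        Subgroup.centralizer (Vb : Set (G ⧸ Cfsg.pPrimeCore p G))) := by
    apply hDle
    refine ⟨QuotientGroup.mk ⟨a', ha'N⟩, ?_, rfl⟩
    apply key
    exact ⟨⟨a', ha'N⟩, Subgroup.mem_subgroupOf.mpr (Subgroup.mem_zpowers a'), rfl⟩
  -- `π g` is, modulo `C(Vb)`, a power of `π g ^ m`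
  have hpowC := Cfsg.Agent.Lib.helper14.pow_card_mem_centralizer_of_quadratic Vb (π g) hq
  obtain ⟨n, hn⟩ := IsPGroup.iff_card.mp hVb
  rw [hn] at hpowC
  have hord : orderOf (QuotientGroup.mk (π g) :
      (G ⧸ Cfsg.pPrimeCore p G) ⧸ Subgroup.centralizer (Vb : Set (G ⧸ Cfsg.pPrimeCore p G)))
      ∣ p ^ n := by
    apply orderOf_dvd_of_pow_eq_one
    rw [← QuotientGroup.mk_pow]
    exact (QuotientGroup.eq_one_iff _).mpr hpowC
  have hmcop : m.Coprime (orderOf (QuotientGroup.mk (π g) :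
      (G ⧸ Cfsg.pPrimeCore p G) ⧸ Subgroup.centralizer (Vb : Set (G ⧸ Cfsg.pPrimeCore p G)))) :=
    Nat.Coprime.coprime_dvd_right hord
      (Nat.Coprime.pow_right n ((Nat.Prime.coprime_iff_not_dvd hp.out).mpr hm).symm)
  obtain ⟨t, ht⟩ := exists_pow_eq_self_of_coprime hmcop
  rw [← ht]
  apply Subgroup.pow_mem
  have h3 : (QuotientGroup.mk (π g) :
      (G ⧸ Cfsg.pPrimeCore p G) ⧸ Subgroup.centralizer (Vb : Set (G ⧸ Cfsg.pPrimeCore p G))) ^ m =
      QuotientGroup.mk (π a') := by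
    rw [← QuotientGroup.mk_pow, ← hπg', ← map_pow, ha'def]
  rw [h3]
  exact hmem

/-- Glauberman: a `p`-constrained `p`-stable group (`p` odd) is `O_{p'}(G) N_G(Z(J(P)))`. -/
theorem factorization (hp2 : p ≠ 2) (hc : Cfsg.IsPConstrained p G) (hs : Cfsg.IsPStable p G)
    (P : Sylow p G) :
    Cfsg.pPrimeCore p G ⊔
      Subgroup.normalizer (Cfsg.centerThompsonAOf (P : Subgroup G) : Set G) = ⊤ := by
  have hKn := Cfsg.Agent.Lib.helper40.pPrimeCore_normal' p G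
  have hK : (Nat.card (Cfsg.pPrimeCore p G)).Coprime p :=
    Cfsg.Agent.Lib.helper40.pPrimeCore_card_coprime p G
  have hcq : Cfsg.IsPConstrained p (G ⧸ Cfsg.pPrimeCore p G) :=
    Cfsg.Agent.Lib.helper14.isPConstrained_iff_quotient.mp hc
  have hbot : Cfsg.pPrimeCore p (G ⧸ Cfsg.pPrimeCore p G) = ⊥ :=
    Cfsg.Agent.Lib.helper14.pPrimeCore_quotient_pPrimeCore p
  have hcq' := (Cfsg.Agent.Lib.helper14.isPConstrained_iff_of_pPrimeCore_eq_bot p hbot).mp hcq
  have hst : ∀ (Vb : Subgroup (G ⧸ Cfsg.pPrimeCore p G)) [Vb.Normal], IsPGroup p Vb →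
      Cfsg.IsPStableOn p Vb := fun Vb _ hVb => isPStableOn_quotient hs Vb hVb
  have hZn := Cfsg.Agent.Lib.helper14.zjE_normal hp2 0 hcq' hst
    (P.mapSurjective (QuotientGroup.mk'_surjective (Cfsg.pPrimeCore p G)))
  rw [Sylow.coe_mapSurjective, Cfsg.Agent.Lib.helper57.zjE_map_mk' 0 _ hK P.2 le_rfl] at hZn
  rw [Cfsg.Agent.Lib.helper14.centerThompsonAOf_eq_zjE, eq_top_iff]
  intro g _
  have hZp : IsPGroup p (Cfsg.Agent.Lib.helper14.zjE 0 (P : Subgroup G)) :=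
    P.2.to_le (Cfsg.Agent.Lib.helper14.zjE_le 0 _)
  obtain ⟨k, hk, hg⟩ := Cfsg.Agent.Lib.helper57.exists_mul_mem_normalizer_of_map_normal _ hK hZp
    hZn g
  have h1 : g = k * (k⁻¹ * g) := by group
  rw [h1]
  exact Subgroup.mul_mem_sup hk hg

end Cfsg.Agent.Lib.helper15.PStableQuot
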