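import Mathlib

set_option autoImplicit false

namespace Cfsg.Agent.Lib.helper15

theorem reeArith_class_ge (G0 c e m k : ℕ) (hm : 5 ≤ m) (hek : e ≤ k)
    (hc : c * (e * m) = G0 * (m - 1)) : 4 * G0 ≤ 5 * k * c := by
  have h2 : G0 * (m - 1) ≤ c * (k * m) := by
    rw [← hc]; exact Nat.mul_le_mul_left c (Nat.mul_le_mul_right m hek)
  have h3 : 4 * m ≤ 5 * (m - 1) := by omega
  have h4 : (4 * G0) * m ≤ (5 * k * c) * m := by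
    calc 4 * G0 * m = G0 * (4 * m) := by ring
      _ ≤ G0 * (5 * (m - 1)) := Nat.mul_le_mul_left _ h3
      _ = 5 * (G0 * (m - 1)) := by ring
      _ ≤ 5 * (c * (k * m)) := Nat.mul_le_mul_left _ h2
      _ = 5 * k * c * m := by ring
  exact Nat.le_of_mul_le_mul_right h4 (by omega)

theorem reeArith_m_ge (q m : ℕ) (h3 : 3 ∣ q) (hodd : Odd q) (hm : m ∣ q ^ 2 - q + 1)
    (h1 : 1 < m) : 5 ≤ m := by
  have hqq : q ≤ q ^ 2 := Nat.le_self_pow (by norm_num) q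
  obtain ⟨a, rfl⟩ := h3
  obtain ⟨b, hb⟩ := hodd
  have e1 : (3 * a) ^ 2 = 9 * a ^ 2 := by ring
  have e2 : (3 * a) ^ 2 = 4 * b ^ 2 + 4 * b + 1 := by rw [hb]; ring
  by_contra hlt
  push_neg at hlt
  obtain ⟨t, ht⟩ := hm
  interval_cases m
  · omega
  · omega
  · omega

theorem reeArith_X_lt (q X : ℕ) (hq : 27 ≤ q) (hX : 3 * X = q ^ 4 * (q ^ 2 - 1) * (q - 2)) :
    5 * X < 2 * (q ^ 3 * (q ^ 3 + 1) * (q - 1)) := by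
  have hq1 : 1 ≤ q := by omega
  have hq2 : 2 ≤ q := by omega
  have hq21 : 1 ≤ q ^ 2 := Nat.one_le_pow _ _ (by omega)
  zify [hq1, hq2, hq21] at hX ⊢
  have hqZ : (27 : ℤ) ≤ q := by exact_mod_cast hq
  have hpos : (0 : ℤ) < (q : ℤ) ^ 3 * ((q : ℤ) - 1) * ((q : ℤ) + 1) * ((q : ℤ) ^ 2 + 4 * q + 6) := by
    have a1 : (0 : ℤ) < (q : ℤ) ^ 3 := by positivity
    have a2 : (0 : ℤ) < (q : ℤ) - 1 := by linarith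
    have a3 : (0 : ℤ) < (q : ℤ) + 1 := by linarith
    have a4 : (0 : ℤ) < (q : ℤ) ^ 2 + 4 * q + 6 := by positivity
    exact mul_pos (mul_pos (mul_pos a1 a2) a3) a4
  have key : 3 * (2 * ((q : ℤ) ^ 3 * ((q : ℤ) ^ 3 + 1) * ((q : ℤ) - 1)) - 5 * (X : ℤ))
      = (q : ℤ) ^ 3 * ((q : ℤ) - 1) * ((q : ℤ) + 1) * ((q : ℤ) ^ 2 + 4 * q + 6) := by
    linear_combination (-5 : ℤ) * hX
  linarith

theorem ree_tori_arith_one (q m₁ e₁ c₁ X : ℕ) (hq : 27 ≤ q) (h3 : 3 ∣ q) (hodd : Odd q)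
    (hm₁ : m₁ ∣ q ^ 2 - q + 1) (h1 : 1 < m₁) (he₁ : e₁ ∣ 6)
    (hc₁ : c₁ * (e₁ * m₁) = q ^ 3 * (q ^ 3 + 1) * (q - 1) * (m₁ - 1))
    (hX : 3 * X = q ^ 4 * (q ^ 2 - 1) * (q - 2)) : c₁ ≠ X := by
  rintro rfl
  have hq1 : 1 ≤ q := by omega
  have hq2 : 2 ≤ q := by omega
  have hqq : q ≤ q ^ 2 := Nat.le_self_pow (by norm_num) q
  have hq21 : 1 ≤ q ^ 2 := Nat.one_le_pow _ _ (by omega)
  have hm1 : 1 ≤ m₁ := by omega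
  obtain ⟨t, ht⟩ := hm₁
  have he6 : e₁ ≤ 6 := Nat.le_of_dvd (by norm_num) he₁
  zify [hq1, hq2, hqq, hq21, hm1] at hc₁ hX ht
  have hqZ : (27 : ℤ) ≤ q := by exact_mod_cast hq
  have hmZ : (2 : ℤ) ≤ m₁ := by exact_mod_cast h1
  have hq2pos : (0 : ℤ) < (q : ℤ) ^ 2 - 1 := by nlinarith
  have hne : ((q : ℤ) ^ 3 * ((q : ℤ) ^ 2 - 1) * m₁) ≠ 0 := by
    have a1 : (0 : ℤ) < (q : ℤ) ^ 3 := by positivity
    have a2 : (0 : ℤ) < (m₁ : ℤ) := by linarith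
    exact (mul_pos (mul_pos a1 hq2pos) a2).ne'
  have key : ((q : ℤ) ^ 3 * ((q : ℤ) ^ 2 - 1) * m₁) *
      ((q : ℤ) * (q - 2) * e₁ - 3 * t * (m₁ - 1)) = 0 := by
    linear_combination (-(e₁ * m₁ : ℤ)) * hX + 3 * hc₁
      + (3 * (q : ℤ) ^ 3 * ((q : ℤ) ^ 2 - 1) * (m₁ - 1) : ℤ) * ht
  have hE : (q : ℤ) * (q - 2) * e₁ = 3 * t * (m₁ - 1) := by
    have := (mul_eq_zero.mp key).resolve_left hne
    linarith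
  have hmt3 : (m₁ : ℤ) * (3 * t) = 3 * ((q : ℤ) ^ 2 - q + 1) := by
    linear_combination (-3 : ℤ) * ht
  have hq27 : (27 : ℤ) * q ≤ (q : ℤ) ^ 2 := by nlinarith
  interval_cases e₁
  · simp at he₁
  · -- e = 1
    have h3t : 3 * (t : ℤ) = 2 * (q : ℤ) ^ 2 - q + 3 := by push_cast at hE; linarith
    rw [h3t] at hmt3
    nlinarith [mul_nonneg (sub_nonneg.2 hmZ) (by nlinarith : (0 : ℤ) ≤ 2 * (q : ℤ) ^ 2 - q + 3)]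
  · -- e = 2
    have h3t : 3 * (t : ℤ) = (q : ℤ) ^ 2 + q + 3 := by push_cast at hE; linarith
    rw [h3t] at hmt3
    rcases le_or_gt (m₁ : ℤ) 2 with h | h
    · nlinarith [mul_nonneg (sub_nonneg.2 h) (by nlinarith : (0 : ℤ) ≤ (q : ℤ) ^ 2 + q + 3)]
    · have h' : (3 : ℤ) ≤ m₁ := by omega
      nlinarith [mul_nonneg (sub_nonneg.2 h') (by nlinarith : (0 : ℤ) ≤ (q : ℤ) ^ 2 + q + 3)]
  · -- e = 3
    have h3t : (t : ℤ) = q + 1 := by push_cast at hE; linarith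
    rw [h3t] at ht
    have hdvd : ((q : ℤ) + 1) ∣ 3 := ⟨(m₁ : ℤ) - q + 2, by linear_combination ht⟩
    have := Int.le_of_dvd (by norm_num) hdvd
    linarith
  · omega
  · omega
  · -- e = 6
    have h3t : (t : ℤ) = -(q : ℤ) ^ 2 + 3 * q + 1 := by push_cast at hE; linarith
    have htneg : (t : ℤ) < 0 := by nlinarith
    have : (0 : ℤ) ≤ (t : ℤ) := by positivity
    linarith

theorem ree_tori_arith_three (q m₁ m₂ m₃ e₁ e₂ e₃ c₁ c₂ c₃ X : ℕ) (hq : 27 ≤ q) (h3 : 3 ∣ q)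
    (hodd : Odd q) (hm₁ : m₁ ∣ q ^ 2 - q + 1) (hm₂ : m₂ ∣ q ^ 2 - q + 1)
    (hm₃ : m₃ ∣ q ^ 2 - q + 1) (h1 : 1 < m₁) (h2 : 1 < m₂) (h3' : 1 < m₃) (he₁ : e₁ ∣ 6)
    (he₂ : e₂ ∣ 6) (he₃ : e₃ ∣ 6)
    (hc₁ : c₁ * (e₁ * m₁) = q ^ 3 * (q ^ 3 + 1) * (q - 1) * (m₁ - 1))
    (hc₂ : c₂ * (e₂ * m₂) = q ^ 3 * (q ^ 3 + 1) * (q - 1) * (m₂ - 1))
    (hc₃ : c₃ * (e₃ * m₃) = q ^ 3 * (q ^ 3 + 1) * (q - 1) * (m₃ - 1))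
    (hX : 3 * X = q ^ 4 * (q ^ 2 - 1) * (q - 2)) : X < c₁ + c₂ + c₃ := by
  have hX5 := reeArith_X_lt q X hq hX
  have a1 := reeArith_class_ge _ c₁ e₁ m₁ 6 (reeArith_m_ge q m₁ h3 hodd hm₁ h1)
    (Nat.le_of_dvd (by norm_num) he₁) hc₁
  have a2 := reeArith_class_ge _ c₂ e₂ m₂ 6 (reeArith_m_ge q m₂ h3 hodd hm₂ h2)
    (Nat.le_of_dvd (by norm_num) he₂) hc₂
  have a3 := reeArith_class_ge _ c₃ e₃ m₃ 6 (reeArith_m_ge q m₃ h3 hodd hm₃ h3')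
    (Nat.le_of_dvd (by norm_num) he₃) hc₃
  generalize q ^ 3 * (q ^ 3 + 1) * (q - 1) = G0 at hX5 a1 a2 a3
  omega

theorem ree_tori_arith_two (q r m₁ m₂ e₁ e₂ c₁ c₂ X : ℕ) (hq : 27 ≤ q) (h3 : 3 ∣ q)
    (hodd : Odd q) (hr : r * r = 3 * q) (hm₁ : m₁ ∣ q ^ 2 - q + 1) (hm₂ : m₂ ∣ q ^ 2 - q + 1)
    (h1 : 1 < m₁) (h2 : 1 < m₂) (he₁ : e₁ ∣ 6) (he₂ : e₂ ∣ 6)
    (hc₁ : c₁ * (e₁ * m₁) = q ^ 3 * (q ^ 3 + 1) * (q - 1) * (m₁ - 1))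
    (hc₂ : c₂ * (e₂ * m₂) = q ^ 3 * (q ^ 3 + 1) * (q - 1) * (m₂ - 1))
    (hX : 3 * X = q ^ 4 * (q ^ 2 - 1) * (q - 2)) (hsum : c₁ + c₂ = X)
    (hcop : Nat.Coprime m₁ m₂) :
    e₁ = 6 ∧ e₂ = 6 ∧ ((m₁ = q + 1 - r ∧ m₂ = q + 1 + r) ∨ (m₁ = q + 1 + r ∧ m₂ = q + 1 - r)) := by
  have hm5₁ := reeArith_m_ge q m₁ h3 hodd hm₁ h1
  have hm5₂ := reeArith_m_ge q m₂ h3 hodd hm₂ h2
  have hX5 := reeArith_X_lt q X hq hX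
  have he₁6 : e₁ ≤ 6 := Nat.le_of_dvd (by norm_num) he₁
  have he₂6 : e₂ ≤ 6 := Nat.le_of_dvd (by norm_num) he₂
  have E1 : e₁ = 6 := by
    by_contra hne
    have he3 : e₁ ≤ 3 := by interval_cases e₁ <;> omega
    have a1 := reeArith_class_ge _ c₁ e₁ m₁ 3 hm5₁ he3 hc₁
    have a2 := reeArith_class_ge _ c₂ e₂ m₂ 6 hm5₂ he₂6 hc₂
    generalize q ^ 3 * (q ^ 3 + 1) * (q - 1) = G0 at hX5 a1 a2
    omega
  have E2 : e₂ = 6 := by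
    by_contra hne
    have he3 : e₂ ≤ 3 := by interval_cases e₂ <;> omega
    have a1 := reeArith_class_ge _ c₁ e₁ m₁ 6 hm5₁ he₁6 hc₁
    have a2 := reeArith_class_ge _ c₂ e₂ m₂ 3 hm5₂ he3 hc₂
    generalize q ^ 3 * (q ^ 3 + 1) * (q - 1) = G0 at hX5 a1 a2
    omega
  subst E1 E2
  refine ⟨rfl, rfl, ?_⟩
  obtain ⟨k, hk⟩ := Nat.Coprime.mul_dvd_of_dvd_of_dvd hcop hm₁ hm₂
  have hq1 : 1 ≤ q := by omega
  have hq2 : 2 ≤ q := by omega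
  have hqq : q ≤ q ^ 2 := Nat.le_self_pow (by norm_num) q
  have hq21 : 1 ≤ q ^ 2 := Nat.one_le_pow _ _ (by omega)
  have hm1 : 1 ≤ m₁ := by omega
  have hm2 : 1 ≤ m₂ := by omega
  zify [hq1, hq2, hqq, hq21, hm1, hm2] at hc₁ hc₂ hX hsum hk hr
  have hqZ : (27 : ℤ) ≤ q := by exact_mod_cast hq
  have hm₁Z : (5 : ℤ) ≤ m₁ := by exact_mod_cast hm5₁
  have hm₂Z : (5 : ℤ) ≤ m₂ := by exact_mod_cast hm5₂
  have hq2pos : (0 : ℤ) < (q : ℤ) ^ 2 - 1 := by nlinarith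
  have hq27 : (27 : ℤ) * q ≤ (q : ℤ) ^ 2 := by nlinarith
  have hne : (3 * (q : ℤ) ^ 3 * ((q : ℤ) ^ 2 - 1)) ≠ 0 := by
    have a1 : (0 : ℤ) < 3 * (q : ℤ) ^ 3 := by positivity
    exact (mul_pos a1 hq2pos).ne'
  have key : (3 * (q : ℤ) ^ 3 * ((q : ℤ) ^ 2 - 1)) *
      (2 * ((q : ℤ) + 1) * (m₁ * m₂) - ((q : ℤ) ^ 2 - q + 1) * (m₁ + m₂)) = 0 := by
    linear_combination (-3 * m₂ : ℤ) * hc₁ + (-3 * m₁ : ℤ) * hc₂ + (18 * m₁ * m₂ : ℤ) * hsum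
      + (6 * m₁ * m₂ : ℤ) * hX
  have hE : 2 * ((q : ℤ) + 1) * (m₁ * m₂) = ((q : ℤ) ^ 2 - q + 1) * (m₁ + m₂) := by
    have := (mul_eq_zero.mp key).resolve_left hne
    linarith
  have hmm : ((m₁ : ℤ) * m₂) ≠ 0 := by
    have : (0 : ℤ) < (m₁ : ℤ) * m₂ := mul_pos (by linarith) (by linarith)
    exact this.ne'
  have hkk : (k : ℤ) * (m₁ + m₂) = 2 * ((q : ℤ) + 1) := by
    have h : ((m₁ : ℤ) * m₂) * ((k : ℤ) * (m₁ + m₂)) = ((m₁ : ℤ) * m₂) * (2 * ((q : ℤ) + 1)) := by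
      rw [hk] at hE; linear_combination -hE
    exact mul_left_cancel₀ hmm h
  have hPpos : (0 : ℤ) < (q : ℤ) ^ 2 - q + 1 := by nlinarith
  have hk1 : (k : ℤ) = 1 := by
    have hk0 : (k : ℤ) ≠ 0 := by
      rintro h0
      rw [h0] at hk
      simp at hk
      linarith
    have hk0' : (0 : ℤ) ≤ (k : ℤ) := by positivity
    by_contra hk1
    have hk2 : (2 : ℤ) ≤ k := by omega
    have h4 : 4 * ((m₁ : ℤ) * m₂) ≤ ((m₁ : ℤ) + m₂) ^ 2 := by nlinarith [sq_nonneg ((m₁ : ℤ) - m₂)]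
    have e1 : (k : ℤ) * ((q : ℤ) ^ 2 - q + 1) * 4 = (k : ℤ) ^ 2 * (4 * ((m₁ : ℤ) * m₂)) := by
      rw [hk]; ring
    have e2 : (k : ℤ) ^ 2 * ((m₁ : ℤ) + m₂) ^ 2 = 4 * ((q : ℤ) + 1) ^ 2 := by
      have : ((k : ℤ) * (m₁ + m₂)) ^ 2 = (2 * ((q : ℤ) + 1)) ^ 2 := by rw [hkk]
      linear_combination this
    have e3 : (k : ℤ) ^ 2 * (4 * ((m₁ : ℤ) * m₂)) ≤ (k : ℤ) ^ 2 * ((m₁ : ℤ) + m₂) ^ 2 :=
      mul_le_mul_of_nonneg_left h4 (sq_nonneg _)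
    have h5 : (k : ℤ) * ((q : ℤ) ^ 2 - q + 1) ≤ ((q : ℤ) + 1) ^ 2 := by linarith
    nlinarith [mul_nonneg (sub_nonneg.2 hk2) hPpos.le]
  rw [hk1] at hk hkk
  have hsq : ((m₁ : ℤ) - m₂) ^ 2 = (2 * (r : ℤ)) ^ 2 := by
    linear_combination ((m₁ : ℤ) + m₂ + 2 * ((q : ℤ) + 1)) * (by linarith : (m₁ : ℤ) + m₂ = 2 * ((q : ℤ) + 1))
      + 4 * hk - 4 * hr
  rcases eq_or_eq_neg_of_sq_eq_sq _ _ hsq with h | h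
  · right; omega
  · left; omega

end Cfsg.Agent.Lib.helper15
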