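import Mathlib

set_option autoImplicit false

/-!
Certificate-based verification that a finitely generated subgroup of `GL(2, p)` acts regularly on
the non-zero vectors.  The certificate is a table giving, for each first column `w`, the second
column `f w` of the unique group element with that first column, together with a rank function and
parent pointers witnessing reachability from the identity.
-/

namespace Cfsg.Agent.Lib.helper15.RegGL2

section abstract

variable {p : ℕ}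

/-- first column -/
def col1 (M : Matrix (Fin 2) (Fin 2) (ZMod p)) : ZMod p × ZMod p := (M 0 0, M 1 0)

/-- second column -/
def col2 (M : Matrix (Fin 2) (Fin 2) (ZMod p)) : ZMod p × ZMod p := (M 0 1, M 1 1)

/-- first column of `x * g`, given the columns `w`, `c` of `x` -/
def stepc (g : Matrix (Fin 2) (Fin 2) (ZMod p)) (w c : ZMod p × ZMod p) : ZMod p × ZMod p :=
  (w.1 * g 0 0 + c.1 * g 1 0, w.2 * g 0 0 + c.2 * g 1 0)

/-- second column of `x * g`, given the columns `w`, `c` of `x` -/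
def stepd (g : Matrix (Fin 2) (Fin 2) (ZMod p)) (w c : ZMod p × ZMod p) : ZMod p × ZMod p :=
  (w.1 * g 0 1 + c.1 * g 1 1, w.2 * g 0 1 + c.2 * g 1 1)

theorem col1_mul (x g : Matrix (Fin 2) (Fin 2) (ZMod p)) :
    col1 (x * g) = stepc g (col1 x) (col2 x) := by
  simp [col1, col2, stepc, Matrix.mul_apply, Fin.sum_univ_two]

theorem col2_mul (x g : Matrix (Fin 2) (Fin 2) (ZMod p)) :
    col2 (x * g) = stepd g (col1 x) (col2 x) := by
  simp [col1, col2, stepd, Matrix.mul_apply, Fin.sum_univ_two]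

theorem mat_ext_cols {x y : Matrix (Fin 2) (Fin 2) (ZMod p)} (h1 : col1 x = col1 y)
    (h2 : col2 x = col2 y) : x = y := by
  simp only [col1, col2, Prod.mk.injEq] at h1 h2
  ext i j
  fin_cases i <;> fin_cases j <;> simp [h1.1, h1.2, h2.1, h2.2]

theorem col1_ne_zero [Fact p.Prime] (x : GL (Fin 2) (ZMod p)) :
    col1 (x : Matrix (Fin 2) (Fin 2) (ZMod p)) ≠ (0, 0) := by
  intro h
  simp only [col1, Prod.mk.injEq] at h
  have h1 : ((x⁻¹ * x : GL (Fin 2) (ZMod p)) : Matrix (Fin 2) (Fin 2) (ZMod p)) 0 0 = 1 := by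
    simp
  rw [Units.val_mul, Matrix.mul_apply, Fin.sum_univ_two, h.1, h.2] at h1
  simp at h1

theorem card_nonzero_pairs [Fact p.Prime] : Nat.card {w : ZMod p × ZMod p // w ≠ (0, 0)} = p ^ 2 - 1 := by
  have : NeZero p := ⟨(Fact.out : p.Prime).ne_zero⟩
  rw [Nat.card_eq_fintype_card, Fintype.card_subtype_compl, Fintype.card_subtype_eq]
  simp [ZMod.card, sq]

theorem card_nonzero_vecs [Fact p.Prime] : Nat.card {w : Fin 2 → ZMod p // w ≠ 0} = p ^ 2 - 1 := by
  have : NeZero p := ⟨(Fact.out : p.Prime).ne_zero⟩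
  rw [Nat.card_eq_fintype_card, Fintype.card_subtype_compl, Fintype.card_subtype_eq]
  simp [ZMod.card]

theorem regular_of_table [Fact p.Prime] (S : Set (GL (Fin 2) (ZMod p)))
    (f : ZMod p × ZMod p → ZMod p × ZMod p)
    (hf1 : f (1, 0) = (0, 1))
    (hstep : ∀ g ∈ S, ∀ w, f (stepc (g : Matrix (Fin 2) (Fin 2) (ZMod p)) w (f w))
      = stepd (g : Matrix (Fin 2) (Fin 2) (ZMod p)) w (f w))
    (rank : ZMod p × ZMod p → ℕ)
    (hreach : ∀ w, w ≠ (0, 0) → w ≠ (1, 0) → ∃ g ∈ S, ∃ u, u ≠ (0, 0) ∧ rank u < rank w ∧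
      stepc (g : Matrix (Fin 2) (Fin 2) (ZMod p)) u (f u) = w)
    (hfpf : ∀ w, w ≠ (0, 0) → w ≠ (1, 0) → (w.1 - 1) * ((f w).2 - 1) - w.2 * (f w).1 ≠ 0) :
    Nat.card (Subgroup.closure S) = p ^ 2 - 1 ∧
    ∀ v w : Fin 2 → ZMod p, v ≠ 0 → w ≠ 0 → ∃! h : Subgroup.closure S,
      Matrix.mulVec ((h : GL (Fin 2) (ZMod p)) : Matrix (Fin 2) (Fin 2) (ZMod p)) v = w := by
  have : NeZero p := ⟨(Fact.out : p.Prime).ne_zero⟩
  -- the invariant
  have hP1 : ∀ g ∈ S, ∀ x : GL (Fin 2) (ZMod p),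
      col2 (x : Matrix (Fin 2) (Fin 2) (ZMod p)) = f (col1 (x : Matrix (Fin 2) (Fin 2) (ZMod p))) →
      col2 ((x * g : GL (Fin 2) (ZMod p)) : Matrix (Fin 2) (Fin 2) (ZMod p)) =
        f (col1 ((x * g : GL (Fin 2) (ZMod p)) : Matrix (Fin 2) (Fin 2) (ZMod p))) := by
    intro g hg x hx
    rw [Units.val_mul, col1_mul, col2_mul, hx, hstep g hg]
  have hP2 : ∀ g ∈ S, ∀ k : ℕ, ∀ x : GL (Fin 2) (ZMod p),
      col2 (x : Matrix (Fin 2) (Fin 2) (ZMod p)) = f (col1 (x : Matrix (Fin 2) (Fin 2) (ZMod p))) →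
      col2 ((x * g ^ k : GL (Fin 2) (ZMod p)) : Matrix (Fin 2) (Fin 2) (ZMod p)) =
        f (col1 ((x * g ^ k : GL (Fin 2) (ZMod p)) : Matrix (Fin 2) (Fin 2) (ZMod p))) := by
    intro g hg k
    induction k with
    | zero => intro x hx; simpa using hx
    | succ k ih =>
      intro x hx
      rw [pow_succ, ← mul_assoc]
      exact hP1 g hg _ (ih x hx)
  have hP : ∀ x ∈ Subgroup.closure S,
      col2 (x : Matrix (Fin 2) (Fin 2) (ZMod p)) = f (col1 (x : Matrix (Fin 2) (Fin 2) (ZMod p))) := by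
    intro x hx
    induction hx using Subgroup.closure_induction_right with
    | one => simp [col1, col2, hf1]
    | mul_right x hx y hy ih => exact hP1 y hy x ih
    | mul_inv_cancel x hx y hy ih =>
      have hy' : y⁻¹ = y ^ (orderOf y - 1) := by
        apply inv_eq_of_mul_eq_one_right
        rw [← pow_succ', Nat.sub_add_cancel (orderOf_pos y), pow_orderOf_eq_one]
      rw [hy']
      exact hP2 y hy _ x ih
  -- reachability
  have hQ : ∀ n : ℕ, ∀ w, rank w = n → w ≠ (0, 0) →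
      ∃ x ∈ Subgroup.closure S, col1 (x : Matrix (Fin 2) (Fin 2) (ZMod p)) = w := by
    intro n
    induction n using Nat.strong_induction_on with
    | _ n ih =>
      intro w hw hw0
      by_cases hw1 : w = (1, 0)
      · exact ⟨1, one_mem _, by simp [col1, hw1]⟩
      · obtain ⟨g, hg, u, hu0, hur, hu⟩ := hreach w hw0 hw1
        obtain ⟨x, hx, hxu⟩ := ih (rank u) (hw ▸ hur) u rfl hu0
        refine ⟨x * g, mul_mem hx (Subgroup.subset_closure hg), ?_⟩
        rw [Units.val_mul, col1_mul, hP x hx, hxu, hu]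
  -- injectivity of the first column
  have hinj : ∀ x ∈ Subgroup.closure S, ∀ y ∈ Subgroup.closure S,
      col1 (x : Matrix (Fin 2) (Fin 2) (ZMod p)) = col1 (y : Matrix (Fin 2) (Fin 2) (ZMod p)) →
      x = y := by
    intro x hx y hy hxy
    apply Units.ext
    exact mat_ext_cols hxy (by rw [hP x hx, hP y hy, hxy])
  -- cardinality
  have hcard : Nat.card (Subgroup.closure S) = p ^ 2 - 1 := by
    rw [← card_nonzero_pairs (p := p)]
    apply Nat.card_eq_of_bijective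
      (fun x : Subgroup.closure S => (⟨col1 ((x : GL (Fin 2) (ZMod p)) : Matrix (Fin 2) (Fin 2) (ZMod p)),
        col1_ne_zero _⟩ : {w : ZMod p × ZMod p // w ≠ (0, 0)}))
    constructor
    · intro x y hxy
      apply Subtype.ext
      exact hinj x x.2 y y.2 (congrArg Subtype.val hxy)
    · rintro ⟨w, hw⟩
      obtain ⟨x, hx, hxw⟩ := hQ (rank w) w rfl hw
      exact ⟨⟨x, hx⟩, Subtype.ext hxw⟩
  refine ⟨hcard, ?_⟩
  -- freeness
  have hfree : ∀ x ∈ Subgroup.closure S, ∀ v : Fin 2 → ZMod p, v ≠ 0 →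
      Matrix.mulVec (x : Matrix (Fin 2) (Fin 2) (ZMod p)) v = v → x = 1 := by
    intro x hx v hv hxv
    by_contra hx1
    have hc1 : col1 (x : Matrix (Fin 2) (Fin 2) (ZMod p)) ≠ (1, 0) := by
      intro h
      apply hx1
      apply hinj x hx 1 (one_mem _)
      rw [h]
      simp [col1]
    have hdet := hfpf _ (col1_ne_zero x) hc1
    rw [← hP x hx] at hdet
    have hdet' : ((x : Matrix (Fin 2) (Fin 2) (ZMod p)) - 1).det ≠ 0 := by
      rw [Matrix.det_fin_two]
      simp only [col1, col2] at hdet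
      simp only [Matrix.sub_apply, Matrix.one_apply_eq, Matrix.one_apply_ne, ne_eq, Fin.isValue,
        Fin.zero_eq_one_iff, Fin.one_eq_zero_iff, OfNat.ofNat_ne_one, not_false_eq_true, sub_zero]
      intro h
      apply hdet
      rw [← h]
      ring
    apply hv
    apply Matrix.eq_zero_of_mulVec_eq_zero hdet'
    rw [Matrix.sub_mulVec, hxv, Matrix.one_mulVec, sub_self]
  intro v w hv hw
  have hne : ∀ x : Subgroup.closure S,
      Matrix.mulVec ((x : GL (Fin 2) (ZMod p)) : Matrix (Fin 2) (Fin 2) (ZMod p)) v ≠ 0 := by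
    intro x h
    apply hv
    have := congrArg (Matrix.mulVec ((x⁻¹ : GL (Fin 2) (ZMod p)) : Matrix (Fin 2) (Fin 2) (ZMod p))) h
    rw [Matrix.mulVec_mulVec, ← Units.val_mul, inv_mul_cancel] at this
    simpa using this
  have hbij : Function.Bijective (fun x : Subgroup.closure S =>
      (⟨Matrix.mulVec ((x : GL (Fin 2) (ZMod p)) : Matrix (Fin 2) (Fin 2) (ZMod p)) v, hne x⟩ :
        {u : Fin 2 → ZMod p // u ≠ 0})) := by
    apply Function.Injective.bijective_of_nat_card_le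
    · intro x y hxy
      have hxy' : Matrix.mulVec ((x : GL (Fin 2) (ZMod p)) : Matrix (Fin 2) (Fin 2) (ZMod p)) v =
          Matrix.mulVec ((y : GL (Fin 2) (ZMod p)) : Matrix (Fin 2) (Fin 2) (ZMod p)) v :=
        congrArg Subtype.val hxy
      have h1 : (y⁻¹ * x : GL (Fin 2) (ZMod p)) = 1 := by
        apply hfree _ (mul_mem (inv_mem y.2) x.2) v hv
        rw [Units.val_mul, ← Matrix.mulVec_mulVec, hxy', Matrix.mulVec_mulVec, ← Units.val_mul,
          inv_mul_cancel]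
        simp
      apply Subtype.ext
      have := congrArg (fun z => (y : GL (Fin 2) (ZMod p)) * z) h1
      simpa using this
    · rw [hcard, card_nonzero_vecs]
  obtain ⟨x, hx⟩ := hbij.2 ⟨w, hw⟩
  refine ⟨x, congrArg Subtype.val hx, ?_⟩
  intro y hy
  apply hbij.1
  apply Subtype.ext
  change Matrix.mulVec ((y : GL (Fin 2) (ZMod p)) : Matrix (Fin 2) (Fin 2) (ZMod p)) v =
    Matrix.mulVec ((x : GL (Fin 2) (ZMod p)) : Matrix (Fin 2) (Fin 2) (ZMod p)) v
  rw [hy]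
  exact (congrArg Subtype.val hx).symm

end abstract

section cert

/-- table lookup; an entry is `(f1, f2, rank, generator index)` -/
def look (tbl : List (List (ℕ × ℕ × ℕ × ℕ))) (a b : ℕ) : ℕ × ℕ × ℕ × ℕ :=
  (tbl.getD a []).getD b (0, 0, 0, 0)

/-- the second-column function read off the table -/
def fOf (p : ℕ) (tbl : List (List (ℕ × ℕ × ℕ × ℕ))) (w : ZMod p × ZMod p) : ZMod p × ZMod p :=
  (((look tbl w.1.val w.2.val).1 : ZMod p), ((look tbl w.1.val w.2.val).2.1 : ZMod p))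

/-- the rank function read off the table -/
def rankOf (p : ℕ) (tbl : List (List (ℕ × ℕ × ℕ × ℕ))) (w : ZMod p × ZMod p) : ℕ :=
  (look tbl w.1.val w.2.val).2.2.1

/-- the matrix with entries `(g00, g01, g10, g11)` -/
def matOf (p : ℕ) (g : ℕ × ℕ × ℕ × ℕ) : Matrix (Fin 2) (Fin 2) (ZMod p) :=
  !![(g.1 : ZMod p), (g.2.1 : ZMod p); (g.2.2.1 : ZMod p), (g.2.2.2 : ZMod p)]

def chkOne (tbl : List (List (ℕ × ℕ × ℕ × ℕ))) : Bool :=
  Nat.beq (look tbl 1 0).1 0 && Nat.beq (look tbl 1 0).2.1 1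

def chkStep (p : ℕ) (tbl : List (List (ℕ × ℕ × ℕ × ℕ))) (g : ℕ × ℕ × ℕ × ℕ) : Bool :=
  (List.range p).all fun a => (List.range p).all fun b =>
    Nat.beq (look tbl ((a * g.1 + (look tbl a b).1 * g.2.2.1) % p)
        ((b * g.1 + (look tbl a b).2.1 * g.2.2.1) % p)).1
      ((a * g.2.1 + (look tbl a b).1 * g.2.2.2) % p) &&
    Nat.beq (look tbl ((a * g.1 + (look tbl a b).1 * g.2.2.1) % p)
        ((b * g.1 + (look tbl a b).2.1 * g.2.2.1) % p)).2.1
      ((b * g.2.1 + (look tbl a b).2.1 * g.2.2.2) % p)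

/-- first coordinate of the parent of `(a, b)` -/
def par1 (p : ℕ) (tbl : List (List (ℕ × ℕ × ℕ × ℕ))) (ginvs : List (ℕ × ℕ × ℕ × ℕ)) (a b : ℕ) : ℕ :=
  (a * (ginvs.getD (look tbl a b).2.2.2 (0, 0, 0, 0)).1 +
    (look tbl a b).1 * (ginvs.getD (look tbl a b).2.2.2 (0, 0, 0, 0)).2.2.1) % p

/-- second coordinate of the parent of `(a, b)` -/
def par2 (p : ℕ) (tbl : List (List (ℕ × ℕ × ℕ × ℕ))) (ginvs : List (ℕ × ℕ × ℕ × ℕ)) (a b : ℕ) : ℕ :=
  (b * (ginvs.getD (look tbl a b).2.2.2 (0, 0, 0, 0)).1 +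
    (look tbl a b).2.1 * (ginvs.getD (look tbl a b).2.2.2 (0, 0, 0, 0)).2.2.1) % p

def chkReach (p : ℕ) (tbl : List (List (ℕ × ℕ × ℕ × ℕ))) (gens ginvs : List (ℕ × ℕ × ℕ × ℕ)) :
    Bool :=
  (List.range p).all fun a => (List.range p).all fun b =>
    (Nat.beq a 0 && Nat.beq b 0) || (Nat.beq a 1 && Nat.beq b 0) ||
    (Nat.blt (look tbl a b).2.2.2 gens.length &&
      !(Nat.beq (par1 p tbl ginvs a b) 0 && Nat.beq (par2 p tbl ginvs a b) 0) &&
      Nat.blt (look tbl (par1 p tbl ginvs a b) (par2 p tbl ginvs a b)).2.2.1 (look tbl a b).2.2.1 &&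
      Nat.beq ((par1 p tbl ginvs a b * (gens.getD (look tbl a b).2.2.2 (0, 0, 0, 0)).1 +
        (look tbl (par1 p tbl ginvs a b) (par2 p tbl ginvs a b)).1 *
          (gens.getD (look tbl a b).2.2.2 (0, 0, 0, 0)).2.2.1) % p) a &&
      Nat.beq ((par2 p tbl ginvs a b * (gens.getD (look tbl a b).2.2.2 (0, 0, 0, 0)).1 +
        (look tbl (par1 p tbl ginvs a b) (par2 p tbl ginvs a b)).2.1 *
          (gens.getD (look tbl a b).2.2.2 (0, 0, 0, 0)).2.2.1) % p) b)

def chkFpf (p : ℕ) (tbl : List (List (ℕ × ℕ × ℕ × ℕ))) : Bool :=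
  (List.range p).all fun a => (List.range p).all fun b =>
    (Nat.beq a 0 && Nat.beq b 0) || (Nat.beq a 1 && Nat.beq b 0) ||
    !(Nat.beq (((a + (p - 1)) * ((look tbl a b).2.1 + (p - 1)) + (p - 1) * (b * (look tbl a b).1)) % p) 0)

def chkAll (p : ℕ) (gens ginvs : List (ℕ × ℕ × ℕ × ℕ)) (tbl : List (List (ℕ × ℕ × ℕ × ℕ))) : Bool :=
  chkOne tbl && gens.all (chkStep p tbl) && chkReach p tbl gens ginvs && chkFpf p tbl

theorem all_range2 {p : ℕ} {F : ℕ → ℕ → Bool}
    (h : ((List.range p).all fun a => (List.range p).all fun b => F a b) = true) {a b : ℕ}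
    (ha : a < p) (hb : b < p) : F a b = true := by
  rw [List.all_eq_true] at h
  have := h a (List.mem_range.mpr ha)
  rw [List.all_eq_true] at this
  exact this b (List.mem_range.mpr hb)

theorem val_lin (p : ℕ) [NeZero p] (a : ZMod p) (x y z : ℕ) :
    (a * (x : ZMod p) + (y : ZMod p) * (z : ZMod p)).val = (a.val * x + y * z) % p := by
  conv_lhs => rw [← ZMod.natCast_zmod_val a]
  rw [← Nat.cast_mul, ← Nat.cast_mul, ← Nat.cast_add, ZMod.val_natCast]

theorem cast_lin (p : ℕ) [NeZero p] (a : ZMod p) (x y z : ℕ) :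
    a * (x : ZMod p) + (y : ZMod p) * (z : ZMod p) = (((a.val * x + y * z) % p : ℕ) : ZMod p) := by
  rw [ZMod.natCast_mod]
  push_cast
  rw [ZMod.natCast_zmod_val]

theorem step_of_chk (p : ℕ) [NeZero p] (tbl : List (List (ℕ × ℕ × ℕ × ℕ))) (g : ℕ × ℕ × ℕ × ℕ)
    (h : chkStep p tbl g = true) (w : ZMod p × ZMod p) :
    fOf p tbl (stepc (matOf p g) w (fOf p tbl w)) = stepd (matOf p g) w (fOf p tbl w) := by
  obtain ⟨a, b⟩ := w
  have h' := all_range2 h (ZMod.val_lt a) (ZMod.val_lt b)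
  simp only [Bool.and_eq_true] at h'
  obtain ⟨h1, h2⟩ := h'
  have h1' := Nat.eq_of_beq_eq_true h1
  have h2' := Nat.eq_of_beq_eq_true h2
  simp only [fOf, stepc, stepd, matOf, Matrix.of_apply, Matrix.cons_val_zero, Matrix.cons_val_one,
    Matrix.cons_val', Matrix.cons_val_fin_one]
  rw [val_lin, val_lin, h1', h2', cast_lin, cast_lin]

theorem val_eq_one_imp (p : ℕ) [NeZero p] (a : ZMod p) (h : a.val = 1) : a = 1 := by
  rw [← ZMod.natCast_zmod_val a, h, Nat.cast_one]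

theorem reach_of_chk (p : ℕ) [Fact p.Prime] (tbl : List (List (ℕ × ℕ × ℕ × ℕ)))
    (gens ginvs : List (ℕ × ℕ × ℕ × ℕ)) (h : chkReach p tbl gens ginvs = true)
    (w : ZMod p × ZMod p) (hw0 : w ≠ (0, 0)) (hw1 : w ≠ (1, 0)) :
    ∃ e ∈ gens, ∃ u : ZMod p × ZMod p, u ≠ (0, 0) ∧ rankOf p tbl u < rankOf p tbl w ∧
      stepc (matOf p e) u (fOf p tbl u) = w := by
  have : NeZero p := ⟨(Fact.out : p.Prime).ne_zero⟩
  have hp0 : 0 < p := (Fact.out : p.Prime).pos
  obtain ⟨a, b⟩ := w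
  have h' := all_range2 h (ZMod.val_lt a) (ZMod.val_lt b)
  simp only [Bool.or_eq_true, Bool.and_eq_true] at h'
  rcases h' with (⟨ha, hb⟩ | ⟨ha, hb⟩) | h'
  · exfalso
    apply hw0
    rw [(ZMod.val_eq_zero a).mp (Nat.eq_of_beq_eq_true ha),
      (ZMod.val_eq_zero b).mp (Nat.eq_of_beq_eq_true hb)]
  · exfalso
    apply hw1
    rw [val_eq_one_imp p a (Nat.eq_of_beq_eq_true ha),
      (ZMod.val_eq_zero b).mp (Nat.eq_of_beq_eq_true hb)]
  · obtain ⟨⟨⟨⟨hj, hu0⟩, hr⟩, h1⟩, h2⟩ := h'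
    have hj' : (look tbl a.val b.val).2.2.2 < gens.length := by
      simpa [Nat.blt] using hj
    have hr' : (look tbl (par1 p tbl ginvs a.val b.val) (par2 p tbl ginvs a.val b.val)).2.2.1 <
        (look tbl a.val b.val).2.2.1 := by
      simpa [Nat.blt] using hr
    have h1' := Nat.eq_of_beq_eq_true h1
    have h2' := Nat.eq_of_beq_eq_true h2
    have hp1 : par1 p tbl ginvs a.val b.val < p := Nat.mod_lt _ hp0
    have hp2 : par2 p tbl ginvs a.val b.val < p := Nat.mod_lt _ hp0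
    have hv1 : ((par1 p tbl ginvs a.val b.val : ℕ) : ZMod p).val = par1 p tbl ginvs a.val b.val :=
      ZMod.val_cast_of_lt hp1
    have hv2 : ((par2 p tbl ginvs a.val b.val : ℕ) : ZMod p).val = par2 p tbl ginvs a.val b.val :=
      ZMod.val_cast_of_lt hp2
    refine ⟨gens.getD (look tbl a.val b.val).2.2.2 (0, 0, 0, 0), ?_,
      (((par1 p tbl ginvs a.val b.val : ℕ) : ZMod p), ((par2 p tbl ginvs a.val b.val : ℕ) : ZMod p)),
      ?_, ?_, ?_⟩
    · rw [List.getD_eq_getElem _ _ hj']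
      exact List.getElem_mem hj'
    · intro h0
      simp only [Prod.mk.injEq] at h0
      have e1 := (ZMod.val_eq_zero _).mpr h0.1
      have e2 := (ZMod.val_eq_zero _).mpr h0.2
      rw [hv1] at e1
      rw [hv2] at e2
      rw [e1, e2] at hu0
      simp at hu0
    · simp only [rankOf, hv1, hv2]
      exact hr'
    · simp only [fOf, stepc, matOf, Matrix.of_apply, Matrix.cons_val_zero, Matrix.cons_val_one,
        Matrix.cons_val', Matrix.cons_val_fin_one, hv1, hv2]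
      rw [cast_lin, cast_lin, hv1, hv2, h1', h2', ZMod.natCast_zmod_val, ZMod.natCast_zmod_val]

theorem fpf_of_chk (p : ℕ) [Fact p.Prime] (tbl : List (List (ℕ × ℕ × ℕ × ℕ)))
    (h : chkFpf p tbl = true) (w : ZMod p × ZMod p) (hw0 : w ≠ (0, 0)) (hw1 : w ≠ (1, 0)) :
    (w.1 - 1) * ((fOf p tbl w).2 - 1) - w.2 * (fOf p tbl w).1 ≠ 0 := by
  have : NeZero p := ⟨(Fact.out : p.Prime).ne_zero⟩
  have hp0 : 0 < p := (Fact.out : p.Prime).pos
  obtain ⟨a, b⟩ := w
  have h' := all_range2 h (ZMod.val_lt a) (ZMod.val_lt b)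
  simp only [Bool.or_eq_true, Bool.and_eq_true] at h'
  rcases h' with (⟨ha, hb⟩ | ⟨ha, hb⟩) | h'
  · exfalso
    apply hw0
    rw [(ZMod.val_eq_zero a).mp (Nat.eq_of_beq_eq_true ha),
      (ZMod.val_eq_zero b).mp (Nat.eq_of_beq_eq_true hb)]
  · exfalso
    apply hw1
    rw [val_eq_one_imp p a (Nat.eq_of_beq_eq_true ha),
      (ZMod.val_eq_zero b).mp (Nat.eq_of_beq_eq_true hb)]
  · intro h0
    have key : (a - 1) * ((fOf p tbl (a, b)).2 - 1) - b * (fOf p tbl (a, b)).1 =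
        ((((a.val + (p - 1)) * ((look tbl a.val b.val).2.1 + (p - 1)) +
          (p - 1) * (b.val * (look tbl a.val b.val).1) : ℕ)) : ZMod p) := by
      have hpm : ((p - 1 : ℕ) : ZMod p) = -1 := by
        rw [Nat.cast_sub hp0, ZMod.natCast_self]
        simp
      push_cast
      rw [hpm, ZMod.natCast_zmod_val, ZMod.natCast_zmod_val]
      simp only [fOf]
      ring
    rw [key, ZMod.natCast_eq_zero_iff, Nat.dvd_iff_mod_eq_zero] at h0
    rw [h0] at h'
    simp at h'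

theorem regular_of_cert (p : ℕ) [Fact p.Prime] (S : Set (GL (Fin 2) (ZMod p)))
    (gens ginvs : List (ℕ × ℕ × ℕ × ℕ)) (tbl : List (List (ℕ × ℕ × ℕ × ℕ)))
    (hS : ∀ g ∈ S, ∃ e ∈ gens, (g : Matrix (Fin 2) (Fin 2) (ZMod p)) = matOf p e)
    (hS' : ∀ e ∈ gens, ∃ g ∈ S, (g : Matrix (Fin 2) (Fin 2) (ZMod p)) = matOf p e)
    (hchk : chkAll p gens ginvs tbl = true) :
    Nat.card (Subgroup.closure S) = p ^ 2 - 1 ∧
    ∀ v w : Fin 2 → ZMod p, v ≠ 0 → w ≠ 0 → ∃! h : Subgroup.closure S,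
      Matrix.mulVec ((h : GL (Fin 2) (ZMod p)) : Matrix (Fin 2) (Fin 2) (ZMod p)) v = w := by
  have : NeZero p := ⟨(Fact.out : p.Prime).ne_zero⟩
  have hp1 : 1 < p := (Fact.out : p.Prime).one_lt
  simp only [chkAll, Bool.and_eq_true] at hchk
  obtain ⟨⟨⟨h1, h2⟩, h3⟩, h4⟩ := hchk
  rw [List.all_eq_true] at h2
  apply regular_of_table S (fOf p tbl) ?_ ?_ (rankOf p tbl) ?_ ?_
  · simp only [chkOne, Bool.and_eq_true] at h1
    have hv1 : (1 : ZMod p).val = 1 := by
      have : Fact (1 < p) := ⟨hp1⟩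
      exact ZMod.val_one p
    simp only [fOf, hv1, ZMod.val_zero]
    rw [Nat.eq_of_beq_eq_true h1.1, Nat.eq_of_beq_eq_true h1.2]
    simp
  · intro g hg w
    obtain ⟨e, he, hge⟩ := hS g hg
    rw [hge]
    exact step_of_chk p tbl e (h2 e he) w
  · intro w hw0 hw1
    obtain ⟨e, he, u, hu0, hur, hu⟩ := reach_of_chk p tbl gens ginvs h3 w hw0 hw1
    obtain ⟨g, hg, hge⟩ := hS' e he
    exact ⟨g, hg, u, hu0, hur, by rw [hge]; exact hu⟩
  · intro w hw0 hw1
    exact fpf_of_chk p tbl h4 w hw0 hw1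

end cert

end Cfsg.Agent.Lib.helper15.RegGL2
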