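import Mathlib
import Cfsg.Agent.Lib.helper51.S2113Defs
import Cfsg.Agent.Lib.helper69.StemSylow

set_option autoImplicit false

namespace Cfsg.Agent.Lib.helper15.S2113

open scoped commutatorElement
open Cfsg.Agent.Lib.helper69

/-- PIECE TWOC (racer copy by helper15): the preimage of such a `2³` in a central extension is abelian. -/
theorem helper15_two_comm {G Γ : Type*} [Group G] [Group Γ] (σ : Γ →* G) (hsurj : Function.Surjective σ)
    (hc : σ.ker ≤ Subgroup.center Γ) (S : Subgroup G) (hcard : Nat.card S = 8)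
    (hexp : ∀ x ∈ S, x * x = 1) (g : G) (hg : ∀ x ∈ S, g * x * g⁻¹ ∈ S) (hg7 : g ^ 7 = 1)
    (hfix : ∀ x ∈ S, g * x * g⁻¹ = x → x = 1)
    (hF : ∀ (f : ZMod 7 → Γ) (j : ZMod 7), (∀ a b, f a * f b = f b * f a) → f 0 = 1 →
      (∀ k, f k * f k = 1) → (∀ k, f (-k) = f k) → j ≠ 0 → j ≠ 1 →
      (∀ i, f (i + j) = f i * f (i + 1)) → ∀ k, f k = 1)
    (x y : Γ) (hx : σ x ∈ S) (hy : σ y ∈ S) : x * y = y * x := by
  classical
  -- S is abelian
  have hinv : ∀ a ∈ S, a⁻¹ = a := fun a ha => inv_eq_of_mul_eq_one_left (hexp a ha)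
  have hSab : ∀ a ∈ S, ∀ b ∈ S, a * b = b * a := by
    intro a ha b hb
    have h1 := hexp (a * b) (S.mul_mem ha hb)
    have h2 : a * b = (a * b)⁻¹ := (hinv _ (S.mul_mem ha hb)).symm
    rw [h2, mul_inv_rev, hinv a ha, hinv b hb]
  obtain ⟨ℓ, hℓ⟩ := hsurj.hasRightInverse
  have hℓ' : ∀ a, σ (ℓ a) = a := hℓ
  set c : G → G → Γ := fun a b => ⁅ℓ a, ℓ b⁆ with hcdef
  have hcen : ∀ a ∈ S, ∀ b ∈ S, c a b ∈ Subgroup.center Γ := by
    intro a ha b hb
    apply commutatorElement_mem_center_of_central σ hc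
    rw [hℓ', hℓ']; exact hSab a ha b hb
  have hkey : ∀ u v : Γ, ⁅u, v⁆ = c (σ u) (σ v) := by
    intro u v
    exact commutatorElement_congr_of_central σ hc u (ℓ (σ u)) v (ℓ (σ v)) (hℓ' _).symm (hℓ' _).symm
  have hmulr : ∀ a ∈ S, ∀ b ∈ S, ∀ b' ∈ S, c a (b * b') = c a b * c a b' := by
    intro a ha b hb b' hb'
    have h1 : c a (b * b') = ⁅ℓ a, ℓ b * ℓ b'⁆ := by
      apply commutatorElement_congr_of_central σ hc _ _ _ _ rfl
      rw [map_mul, hℓ', hℓ', hℓ']
    rw [h1]
    exact stem_commutatorElement_mul_right _ _ _ (hcen a ha b' hb')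
  have hconj : ∀ h : G, ∀ a ∈ S, ∀ b ∈ S, c (h * a * h⁻¹) (h * b * h⁻¹) = c a b := by
    intro h a ha b hb
    have h1 : c (h * a * h⁻¹) (h * b * h⁻¹) = ⁅ℓ h * ℓ a * (ℓ h)⁻¹, ℓ h * ℓ b * (ℓ h)⁻¹⁆ := by
      apply commutatorElement_congr_of_central σ hc
      · rw [map_mul, map_mul, map_inv, hℓ', hℓ', hℓ']
      · rw [map_mul, map_mul, map_inv, hℓ', hℓ', hℓ']
    rw [h1]
    exact commutatorElement_conj_of_central _ _ _ (hcen a ha b hb)
  have hself : ∀ a, c a a = 1 := fun a => commutatorElement_self _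
  have hone_r : ∀ a, c a 1 = 1 := by
    intro a
    have : c a 1 = ⁅ℓ a, (1 : Γ)⁆ := by
      apply commutatorElement_congr_of_central σ hc _ _ _ _ rfl
      rw [hℓ', map_one]
    rw [this, commutatorElement_one_right]
  have hone_l : ∀ a, c 1 a = 1 := by
    intro a
    have : c 1 a = ⁅(1 : Γ), ℓ a⁆ := by
      apply commutatorElement_congr_of_central σ hc _ _ _ _ _ rfl
      rw [hℓ', map_one]
    rw [this, commutatorElement_one_left]
  have hsq : ∀ a ∈ S, ∀ b ∈ S, c a b * c a b = 1 := by
    intro a ha b hb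
    rw [← hmulr a ha b hb b hb, hexp b hb, hone_r]
  have hswap : ∀ a b, c a b = (c b a)⁻¹ := by
    intro a b
    simp only [hcdef]
    rw [commutatorElement_inv]
  -- powers of g indexed by ZMod 7
  have hpm : ∀ n : ℕ, g ^ (n % 7) = g ^ n := by
    intro n
    conv_rhs => rw [← Nat.mod_add_div n 7, pow_add, pow_mul, hg7, one_pow, mul_one]
  set P : ZMod 7 → G := fun k => g ^ k.val with hPdef
  have hPadd : ∀ a b : ZMod 7, P (a + b) = P a * P b := by
    intro a b
    simp only [hPdef]
    rw [ZMod.val_add, hpm, pow_add]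
  have hP0 : P 0 = 1 := by simp [hPdef]
  have hP1 : P 1 = g := by
    simp only [hPdef]
    have : (1 : ZMod 7).val = 1 := by decide
    rw [this, pow_one]
  have hPS : ∀ k : ZMod 7, ∀ s ∈ S, P k * s * (P k)⁻¹ ∈ S := by
    intro k s hs
    simp only [hPdef]
    generalize k.val = n
    induction n with
    | zero => simpa using hs
    | succ n ih =>
      have := hg _ ih
      have e : g ^ (n + 1) * s * (g ^ (n + 1))⁻¹ = g * (g ^ n * s * (g ^ n)⁻¹) * g⁻¹ := by
        rw [pow_succ']; group
      rw [e]; exact this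
  have hPnsmul : ∀ (n : ℕ) (d : ZMod 7), P (n • d) = P d ^ n := by
    intro n d
    induction n with
    | zero => simp [hP0]
    | succ n ih => rw [succ_nsmul, hPadd, ih, pow_succ]
  -- main claim
  have hmain : ∀ x₀ ∈ S, x₀ ≠ 1 → ∀ s ∈ S, c x₀ s = 1 := by
    intro x₀ hx₀ hx₀1 
    set o : ZMod 7 → G := fun k => P k * x₀ * (P k)⁻¹ with hodef
    have hoS : ∀ k, o k ∈ S := fun k => hPS k x₀ hx₀
    have hoadd : ∀ a b, o (a + b) = P a * o b * (P a)⁻¹ := by
      intro a b
      simp only [hodef]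
      rw [hPadd]; group
    have ho0 : o 0 = x₀ := by simp [hodef, hP0]
    have ho1 : o 1 = g * x₀ * g⁻¹ := by simp [hodef, hP1]
    have hone : ∀ k, o k ≠ 1 := by
      intro k hk
      apply hx₀1
      simp only [hodef] at hk
      have : x₀ = (P k)⁻¹ * (P k * x₀ * (P k)⁻¹) * P k := by group
      rw [this, hk]; group
    have hfixd : ∀ d : ZMod 7, d ≠ 0 → P d * x₀ * (P d)⁻¹ ≠ x₀ := by
      intro d hd hfd
      have hcomm : Commute (P d) x₀ := by
        have : P d * x₀ = x₀ * P d := by
          calc P d * x₀ = (P d * x₀ * (P d)⁻¹) * P d := by group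
            _ = x₀ * P d := by rw [hfd]
        exact this
      obtain ⟨m, hm⟩ : ∃ m : ZMod 7, m * d = 1 := by
        have hall : ∀ d : ZMod 7, d ≠ 0 → ∃ m : ZMod 7, m * d = 1 := by decide
        exact hall d hd
      have hm' : m.val • d = 1 := by
        rw [nsmul_eq_mul, ZMod.natCast_val, ZMod.cast_id', id]; exact hm
      have hg' : g = P d ^ m.val := by rw [← hPnsmul, hm', hP1]
      have hcg : Commute g x₀ := by rw [hg']; exact hcomm.pow_left _
      apply hx₀1
      apply hfix x₀ hx₀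
      rw [hcg.eq]; group
    have hoinj : Function.Injective o := by
      intro a b hab
      by_contra hne
      have hd : a - b ≠ 0 := sub_ne_zero.mpr hne
      apply hfixd (a - b) hd
      have h1 : o a = P (a - b) * o b * (P (a - b))⁻¹ := by
        rw [← hoadd, sub_add_cancel]
      have h2 : o ((a - b) + 0) = P (a - b) * o 0 * (P (a - b))⁻¹ := hoadd _ _
      rw [ho0] at h2
      rw [← h2, add_zero]
      -- o (a - b) = x₀
      have h3 : o b = P b * x₀ * (P b)⁻¹ := rfl
      have h4 : o a = P b * o (a - b) * (P b)⁻¹ := by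
        rw [← hoadd, add_sub_cancel]
      rw [hab, h3] at h4
      have : o (a - b) = (P b)⁻¹ * (P b * o (a - b) * (P b)⁻¹) * P b := by group
      rw [this, ← h4]; group
    -- range o = S \ {1}
    have hSfin : (S : Set G).Finite := by
      apply Set.finite_of_ncard_ne_zero
      rw [← Nat.card_coe_set_eq]
      show Nat.card S ≠ 0
      rw [hcard]; norm_num
    have hSn : (S : Set G).ncard = 8 := by
      rw [← Nat.card_coe_set_eq]; exact hcard
    have hrange : Set.range o = (S : Set G) \ {1} := by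
      apply Set.eq_of_subset_of_ncard_le
      · rintro _ ⟨k, rfl⟩
        exact ⟨hoS k, by simpa using hone k⟩
      · rw [Set.ncard_sdiff_singleton_of_mem (S.one_mem) , hSn]
        have : (Set.range o).ncard = 7 := by
          rw [← Set.image_univ, Set.ncard_image_of_injective _ hoinj, Set.ncard_univ]
          simp
        rw [this]
      · exact hSfin.sdiff
    have hsurjo : ∀ s ∈ S, s ≠ 1 → ∃ k, o k = s := by
      intro s hs hs1
      have : s ∈ Set.range o := by
        rw [hrange]; exact ⟨hs, by simpa using hs1⟩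
      exact this
    -- the index j
    have hprodS : x₀ * o 1 ∈ S := S.mul_mem hx₀ (hoS 1)
    have hprod1 : x₀ * o 1 ≠ 1 := by
      intro h
      apply hx₀1
      apply hfix x₀ hx₀
      rw [← ho1]
      have : o 1 = x₀⁻¹ := eq_inv_of_mul_eq_one_right h
      rw [this, hinv x₀ hx₀]
    obtain ⟨j, hj⟩ := hsurjo _ hprodS hprod1
    have hj0 : j ≠ 0 := by
      rintro rfl
      rw [ho0] at hj
      have : o 1 = 1 := by
        have := hj.symm
        exact mul_eq_left.mp this
      exact hone 1 this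
    have hj1 : j ≠ 1 := by
      rintro rfl
      apply hx₀1
      exact mul_eq_right.mp hj.symm
    set f : ZMod 7 → Γ := fun k => c x₀ (o k) with hfdef
    have hf := hF f j
      (fun a b => by
        have := hcen x₀ hx₀ (o a) (hoS a)
        rw [Subgroup.mem_center_iff] at this
        exact (this (f b)).symm)
      (by simp only [hfdef]; rw [ho0]; exact hself _)
      (fun k => hsq x₀ hx₀ (o k) (hoS k))
      (fun k => by
        simp only [hfdef]
        have h1 : c (P k * x₀ * (P k)⁻¹) (P k * o (-k) * (P k)⁻¹) = c x₀ (o (-k)) :=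
          hconj (P k) x₀ hx₀ (o (-k)) (hoS _)
        rw [← hoadd, add_neg_cancel, ho0] at h1
        rw [← h1]
        show c (o k) x₀ = c x₀ (o k)
        rw [hswap]
        exact inv_eq_of_mul_eq_one_left (hsq x₀ hx₀ (o k) (hoS k)))
      hj0 hj1
      (fun i => by
        simp only [hfdef]
        have h1 : o (i + j) = o i * o (i + 1) := by
          rw [hoadd i j, hj, hoadd i 1]
          simp only [hodef]; group
        rw [h1]
        exact hmulr x₀ hx₀ (o i) (hoS i) (o (i + 1)) (hoS _))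
    intro s hs
    by_cases hs1 : s = 1
    · rw [hs1]; exact hone_r _
    · obtain ⟨k, rfl⟩ := hsurjo s hs hs1
      exact hf k
  have hfinal : c (σ x) (σ y) = 1 := by
    by_cases h1 : σ x = 1
    · rw [h1]; exact hone_l _
    · exact hmain (σ x) hx h1 (σ y) hy
  rw [← commutatorElement_eq_one_iff_mul_comm, hkey, hfinal]

end Cfsg.Agent.Lib.helper15.S2113
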