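import Mathlib
import Cfsg.Agent.Lib.helper26.S4409Defs
import Cfsg.Agent.Lib.helper54.S4409_SPEC

/-! S4409 split (architect helper26), piece CP32 core (helper15): the central product of two
quaternion subgroups with a common centre is extraspecial of order 32.  The facts of piece QZ
about the two quaternion subgroups are taken as hypotheses. -/

set_option autoImplicit false
open scoped commutatorElement

namespace Cfsg.Agent.Lib.helper26.S4409

variable {G : Type*} [Group G]

theorem helper15_zpowers_invol (z : G) (hz2 : z * z = 1) (x : G) (hx : x ∈ Subgroup.zpowers z) :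
    x = 1 ∨ x = z := by
  obtain ⟨k, rfl⟩ := Subgroup.mem_zpowers_iff.mp hx
  rcases Int.even_or_odd k with ⟨j, rfl⟩ | ⟨j, rfl⟩
  · left; rw [← two_mul, zpow_mul, zpow_two, hz2, one_zpow]
  · right; rw [zpow_add, zpow_mul, zpow_two, hz2, one_zpow, one_mul, zpow_one]

theorem helper15_special_aux {P : Type*} [Group P] (z : P) (hz : z ∈ Subgroup.center P)
    (hsq : ∀ x : P, x * x = 1 ∨ x * x = z) (hcen : ∀ x ∈ Subgroup.center P, x = 1 ∨ x = z)
    (hnc : ∃ a b : P, a * b ≠ b * a) :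
    _root_.commutator P = Subgroup.center P ∧ ∀ x : P, x * x ∈ Subgroup.center P := by
  have hsqc : ∀ x : P, x * x ∈ Subgroup.center P := by
    intro x
    rcases hsq x with h | h
    · rw [h]; exact Subgroup.one_mem _
    · rw [h]; exact hz
  refine ⟨?_, hsqc⟩
  have hcomm : ∀ a b : P, ⁅a, b⁆ ∈ Subgroup.center P := by
    intro a b
    have ha := Subgroup.mem_center_iff.mp (hsqc a) b
    have h1 : ⁅a, b⁆ = (a * b) * (a * b) * (a * a)⁻¹ * (b * b)⁻¹ := by
      rw [commutatorElement_def]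
      have h' : (a * a)⁻¹ * (b * b)⁻¹ = b⁻¹ * (a * a)⁻¹ * b⁻¹ := by
        have h'' : b⁻¹ * (a * a)⁻¹ = (a * a)⁻¹ * b⁻¹ := by
          rw [← mul_inv_rev, ← mul_inv_rev, ha]
        rw [h'']; group
      rw [mul_assoc ((a * b) * (a * b)), h']; group
    rw [h1]
    exact Subgroup.mul_mem _ (Subgroup.mul_mem _ (hsqc (a * b)) (Subgroup.inv_mem _ (hsqc a)))
      (Subgroup.inv_mem _ (hsqc b))
  apply le_antisymm
  · rw [_root_.commutator_def, Subgroup.commutator_le]
    intro a _ b _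
    exact hcomm a b
  · intro x hx
    rcases hcen x hx with h | h
    · rw [h]; exact Subgroup.one_mem _
    · rw [h]
      obtain ⟨a, b, hab⟩ := hnc
      have hc : ⁅a, b⁆ ∈ _root_.commutator P := by
        rw [_root_.commutator_def]
        exact Subgroup.commutator_mem_commutator (Subgroup.mem_top a) (Subgroup.mem_top b)
      rcases hcen _ (hcomm a b) with h1 | h1
      · exfalso; apply hab
        rw [commutatorElement_def] at h1
        calc a * b = (a * b * a⁻¹ * b⁻¹) * (b * a) := by group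
          _ = b * a := by rw [h1, one_mul]
      · rw [← h1]; exact hc

theorem helper15_q8_facts [Finite G] (M : Subgroup G) (z : G) (hz1 : z ≠ 1) (hz2 : z * z = 1)
    (huM : ∀ m ∈ M, m * m = 1 → m = 1 ∨ m = z)
    (hZM : M ⊓ Subgroup.centralizer (M : Set G) = Subgroup.zpowers z) (hcM : Nat.card ↥M = 8) :
    (∀ m ∈ M, m * m = 1 ∨ m * m = z) ∧ (∃ a ∈ M, ∃ b ∈ M, a * b ≠ b * a) := by
  have hoz : orderOf z = 2 := orderOf_eq_prime (by rw [pow_two]; exact hz2) hz1
  have hnc : ∃ a ∈ M, ∃ b ∈ M, a * b ≠ b * a := by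
    by_contra h
    push Not at h
    have hle : M ≤ Subgroup.centralizer (M : Set G) := by
      intro g hg
      rw [Subgroup.mem_centralizer_iff]
      intro h' hh'
      exact h h' hh' g hg
    have hM : M = Subgroup.zpowers z := by rw [← hZM]; exact (inf_eq_left.mpr hle).symm
    rw [hM, Nat.card_zpowers, hoz] at hcM
    omega
  refine ⟨?_, hnc⟩
  intro m hm
  have hdvd : orderOf m ∣ 2 ^ 3 := by
    have h1 : orderOf (⟨m, hm⟩ : ↥M) ∣ Nat.card ↥M := orderOf_dvd_natCard _
    rw [hcM] at h1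
    have h2 : orderOf (⟨m, hm⟩ : ↥M) = orderOf m := Subgroup.orderOf_mk m hm
    rw [h2] at h1
    exact h1
  obtain ⟨k, hk3, hk⟩ := (Nat.dvd_prime_pow Nat.prime_two).mp hdvd
  have hm4 : m ^ 4 = 1 := by
    have hk' : k ≤ 2 := by
      by_contra hk2
      have hk3' : k = 3 := by omega
      rw [hk3'] at hk
      have hzp : Subgroup.zpowers m = M := by
        apply Subgroup.eq_of_le_of_card_ge (Subgroup.zpowers_le.mpr hm)
        rw [Nat.card_zpowers, hk, hcM]; norm_num
      obtain ⟨a, haM, b, hbM, hab⟩ := hnc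
      apply hab
      rw [← hzp] at haM hbM
      obtain ⟨i, rfl⟩ := Subgroup.mem_zpowers_iff.mp haM
      obtain ⟨j, rfl⟩ := Subgroup.mem_zpowers_iff.mp hbM
      exact zpow_mul_comm m i j
    have : orderOf m ∣ 4 := by
      rw [hk]
      interval_cases k <;> norm_num
    exact orderOf_dvd_iff_pow_eq_one.mp this
  apply huM (m * m) (M.mul_mem hm hm)
  calc m * m * (m * m) = m ^ 4 := by rw [show (4 : ℕ) = 2 + 2 from rfl, pow_add, pow_two]
    _ = 1 := hm4

theorem helper15_cp32_core [Finite G] (M C : Subgroup G)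
    (hqM : ∃ z : G, z ∈ M ∧ z ≠ 1 ∧ z * z = 1 ∧ (∀ m ∈ M, m * m = 1 → m = 1 ∨ m = z) ∧
      M ⊓ Subgroup.centralizer (M : Set G) = Subgroup.zpowers z ∧ Nat.card ↥M = 8)
    (hqC : ∃ z : G, z ∈ C ∧ z ≠ 1 ∧ z * z = 1 ∧ (∀ m ∈ C, m * m = 1 → m = 1 ∨ m = z) ∧
      C ⊓ Subgroup.centralizer (C : Set G) = Subgroup.zpowers z ∧ Nat.card ↥C = 8)
    (hMC : C ≤ Subgroup.centralizer (M : Set G)) (hne : M ⊓ C ≠ ⊥) :
    Cfsg.IsExtraspecial 2 ↥(M ⊔ C : Subgroup G) ∧ Nat.card ↥(M ⊔ C : Subgroup G) = 32 := by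
  obtain ⟨z, hzM, hz1, hz2, huM, hZM, hcM⟩ := hqM
  obtain ⟨z', hz'C, hz'1, hz'2, huC, hZC, hcC⟩ := hqC
  have hcomm : ∀ m ∈ M, ∀ c ∈ C, m * c = c * m := fun m hm c hc =>
    (Subgroup.mem_centralizer_iff.mp (hMC hc)) m hm
  have hint : ∀ x, x ∈ M → x ∈ C → x = 1 ∨ x = z := by
    intro x hxM hxC
    apply helper15_zpowers_invol z hz2
    rw [← hZM]
    exact ⟨hxM, hMC hxC⟩
  have hzC : z ∈ C := by
    obtain ⟨⟨x, hx⟩, hx1⟩ := (Subgroup.ne_bot_iff_exists_ne_one).mp hne
    have hx1' : x ≠ 1 := fun h => hx1 (Subtype.ext h)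
    rcases hint x hx.1 hx.2 with h | h
    · exact absurd h hx1'
    · rw [← h]; exact hx.2
  have hzz' : z' = z := by
    rcases huC z hzC hz2 with h | h
    · exact absurd h hz1
    · exact h.symm
  rw [hzz'] at hZC huC
  obtain ⟨hsqM, a, haM, b, hbM, hab⟩ := helper15_q8_facts M z hz1 hz2 huM hZM hcM
  obtain ⟨hsqC, -⟩ := helper15_q8_facts C z hz1 hz2 huC hZC hcC
  have hzcM : ∀ m ∈ M, m * z = z * m := by
    have hzmem : z ∈ M ⊓ Subgroup.centralizer (M : Set G) := by
      rw [hZM]; exact Subgroup.mem_zpowers z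
    exact fun m hm => (Subgroup.mem_centralizer_iff.mp hzmem.2) m hm
  have hzcC : ∀ c ∈ C, c * z = z * c := by
    have hzmem : z ∈ C ⊓ Subgroup.centralizer (C : Set G) := by
      rw [hZC]; exact Subgroup.mem_zpowers z
    exact fun c hc => (Subgroup.mem_centralizer_iff.mp hzmem.2) c hc
  -- the product homomorphism
  let φ : ↥M × ↥C →* G := MonoidHom.noncommCoprod M.subtype C.subtype
    (fun m c => hcomm m.1 m.2 c.1 c.2)
  have hφ : ∀ (m : ↥M) (c : ↥C), φ (m, c) = (m : G) * (c : G) := fun m c => rfl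
  have hrange : φ.range = M ⊔ C := by
    have h := MonoidHom.noncommCoprod_range M.subtype C.subtype
      (fun m c => hcomm m.1 m.2 c.1 c.2)
    rw [Subgroup.range_subtype, Subgroup.range_subtype] at h
    exact h
  have hdec : ∀ x ∈ M ⊔ C, ∃ m ∈ M, ∃ c ∈ C, x = m * c := by
    intro x hx
    rw [← hrange] at hx
    obtain ⟨⟨m, c⟩, rfl⟩ := hx
    exact ⟨m, m.2, c, c.2, hφ m c⟩
  -- the kernel has order 2
  have hker : Nat.card ↥φ.ker = 2 := by
    rw [Nat.card_eq_two_iff]
    have h1 : ((⟨z, hzM⟩, ⟨z, hzC⟩) : ↥M × ↥C) ∈ φ.ker := by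
      rw [MonoidHom.mem_ker, hφ]; exact hz2
    refine ⟨1, ⟨_, h1⟩, ?_, ?_⟩
    · intro h
      have h2 := congrArg (fun k : ↥φ.ker => ((k : ↥M × ↥C).1 : G)) h
      simp only [Subgroup.coe_one, Prod.fst_one] at h2
      exact hz1 h2.symm
    · rw [Set.eq_univ_iff_forall]
      rintro ⟨⟨m, c⟩, hk⟩
      rw [MonoidHom.mem_ker, hφ] at hk
      have hmc : (m : G) = (c : G)⁻¹ := eq_inv_of_mul_eq_one_left hk
      have hmC : (m : G) ∈ C := by rw [hmc]; exact C.inv_mem c.2
      rcases hint (m : G) m.2 hmC with h | h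
      · left
        have hc1 : (c : G) = 1 := by rw [h] at hk; rwa [one_mul] at hk
        apply Subtype.ext
        apply Prod.ext
        · exact Subtype.ext h
        · exact Subtype.ext hc1
      · right
        have hc1 : (c : G) = z := by
          rw [h] at hk
          have : (c : G) = z⁻¹ := (inv_eq_of_mul_eq_one_right hk).symm
          rw [this]; exact inv_eq_of_mul_eq_one_left hz2
        rw [Set.mem_singleton_iff]
        apply Subtype.ext
        apply Prod.ext
        · exact Subtype.ext h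
        · exact Subtype.ext hc1
  have hcard : Nat.card ↥(M ⊔ C : Subgroup G) = 32 := by
    have h1 : φ.ker.index = Nat.card ↥φ.range := Subgroup.index_ker φ
    have h2 : φ.ker.index * Nat.card ↥φ.ker = Nat.card (↥M × ↥C) := Subgroup.index_mul_card φ.ker
    rw [Nat.card_prod, hcM, hcC, hker, h1, hrange] at h2
    omega
  refine ⟨?_, hcard⟩
  -- extraspecial
  have hzP : z ∈ M ⊔ C := Subgroup.mem_sup_left hzM
  have hcenz : (⟨z, hzP⟩ : ↥(M ⊔ C : Subgroup G)) ∈ Subgroup.center ↥(M ⊔ C : Subgroup G) := by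
    rw [Subgroup.mem_center_iff]
    rintro ⟨g, hg⟩
    obtain ⟨m, hm, c, hc, rfl⟩ := hdec g hg
    apply Subtype.ext
    show m * c * z = z * (m * c)
    rw [mul_assoc, hzcC c hc, ← mul_assoc, hzcM m hm, mul_assoc]
  have hsqP : ∀ x : ↥(M ⊔ C : Subgroup G), x * x = 1 ∨ x * x = ⟨z, hzP⟩ := by
    rintro ⟨g, hg⟩
    obtain ⟨m, hm, c, hc, rfl⟩ := hdec g hg
    have hsq : m * c * (m * c) = (m * m) * (c * c) := by
      rw [mul_assoc m c, ← mul_assoc c m, ← hcomm m hm c hc]; group
    rcases hsqM m hm with h1 | h1 <;> rcases hsqC c hc with h2 | h2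
    · left; apply Subtype.ext; show m * c * (m * c) = 1; rw [hsq, h1, h2, one_mul]
    · right; apply Subtype.ext; show m * c * (m * c) = z; rw [hsq, h1, h2, one_mul]
    · right; apply Subtype.ext; show m * c * (m * c) = z; rw [hsq, h1, h2, mul_one]
    · left; apply Subtype.ext; show m * c * (m * c) = 1; rw [hsq, h1, h2, hz2]
  have hcenP : ∀ x ∈ Subgroup.center ↥(M ⊔ C : Subgroup G), x = 1 ∨ x = ⟨z, hzP⟩ := by
    rintro ⟨g, hg⟩ hx
    rw [Subgroup.mem_center_iff] at hx
    obtain ⟨m, hm, c, hc, rfl⟩ := hdec g hg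
    have hmcen : m ∈ M ⊓ Subgroup.centralizer (M : Set G) := by
      refine Subgroup.mem_inf.mpr ⟨hm, ?_⟩
      rw [Subgroup.mem_centralizer_iff]
      intro m' hm'
      have h := congrArg Subtype.val (hx ⟨m', Subgroup.mem_sup_left hm'⟩)
      have h' : m' * (m * c) = m * c * m' := h
      rw [mul_assoc m c m', ← hcomm m' hm' c hc, ← mul_assoc, ← mul_assoc] at h'
      exact mul_right_cancel h'
    have hccen : c ∈ C ⊓ Subgroup.centralizer (C : Set G) := by
      refine Subgroup.mem_inf.mpr ⟨hc, ?_⟩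
      rw [Subgroup.mem_centralizer_iff]
      intro c' hc'
      have h := congrArg Subtype.val (hx ⟨c', Subgroup.mem_sup_right hc'⟩)
      have h' : c' * (m * c) = m * c * c' := h
      rw [← mul_assoc, ← hcomm m hm c' hc', mul_assoc, mul_assoc] at h'
      exact mul_left_cancel h'
    rw [hZM] at hmcen
    rw [hZC] at hccen
    rcases helper15_zpowers_invol z hz2 m hmcen with h1 | h1 <;>
      rcases helper15_zpowers_invol z hz2 c hccen with h2 | h2
    · left; apply Subtype.ext; show m * c = 1; rw [h1, h2, one_mul]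
    · right; apply Subtype.ext; show m * c = z; rw [h1, h2, one_mul]
    · right; apply Subtype.ext; show m * c = z; rw [h1, h2, mul_one]
    · left; apply Subtype.ext; show m * c = 1; rw [h1, h2, hz2]
  have hncP : ∃ a b : ↥(M ⊔ C : Subgroup G), a * b ≠ b * a := by
    refine ⟨⟨a, Subgroup.mem_sup_left haM⟩, ⟨b, Subgroup.mem_sup_left hbM⟩, ?_⟩
    intro h
    exact hab (congrArg Subtype.val h)
  obtain ⟨hA1, hA2⟩ := helper15_special_aux (⟨z, hzP⟩ : ↥(M ⊔ C : Subgroup G)) hcenz hsqP hcenP hncP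
  have hPG : IsPGroup 2 ↥(M ⊔ C : Subgroup G) := IsPGroup.of_card (n := 5) (by rw [hcard]; norm_num)
  refine ⟨spec hPG hA1 hA2, ?_⟩
  rw [Nat.card_eq_two_iff]
  refine ⟨1, ⟨_, hcenz⟩, ?_, ?_⟩
  · intro h
    have h2 := congrArg (fun k : ↥(Subgroup.center ↥(M ⊔ C : Subgroup G)) =>
      ((k : ↥(M ⊔ C : Subgroup G)) : G)) h
    simp only [Subgroup.coe_one] at h2
    exact hz1 h2.symm
  · rw [Set.eq_univ_iff_forall]
    rintro ⟨x, hx⟩
    rcases hcenP x hx with h | h
    · left; exact Subtype.ext h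
    · right; rw [Set.mem_singleton_iff]; exact Subtype.ext h

end Cfsg.Agent.Lib.helper26.S4409
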