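import Mathlib
import Cfsg.Agent.Lib.helper81.S4484Defs
import Cfsg.Agent.Lib.helper81.WBO
import Cfsg.Agent.Lib.helper81.Kernel
import Cfsg.Agent.Lib.helper76.KazCore
import Cfsg.Agent.Lib.helper84.BlockOrth

/-!
# S4484 piece MU2a (helper15): divisibility of eigenvalue-multiplicity differences

For an irreducible character `χ`, an element `x` of prime order `p` and the multiplicities `c` of
the eigenvalues of `x`, the number `χ(1) / gcd(χ(1), |x^G|)` divides `c lam - c mu`.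
See `tools/S4484_SPEC.md` (helper81).
-/

set_option autoImplicit false

namespace Cfsg.Agent.Lib.helper15.S4484

open Cfsg

universe u

/-- The complex number `z` is (the image of) an element of the ideal `M` of algebraic integers. -/
def InM (M : Ideal AlgInt) (z : ℂ) : Prop := ∃ a : AlgInt, a ∈ M ∧ (a : ℂ) = z

theorem inM_zero (M : Ideal AlgInt) : InM M 0 := ⟨0, M.zero_mem, by simp⟩

theorem inM_add {M : Ideal AlgInt} {x y : ℂ} (hx : InM M x) (hy : InM M y) : InM M (x + y) := by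
  obtain ⟨a, ha, rfl⟩ := hx
  obtain ⟨b, hb, rfl⟩ := hy
  exact ⟨a + b, M.add_mem ha hb, by simp⟩

theorem inM_sum {M : Ideal AlgInt} {ι : Type*} (s : Finset ι) (f : ι → ℂ)
    (h : ∀ i ∈ s, InM M (f i)) : InM M (∑ i ∈ s, f i) := by
  classical
  induction s using Finset.induction_on with
  | empty => simpa using inM_zero M
  | insert a s ha ih =>
    rw [Finset.sum_insert ha]
    exact inM_add (h a (Finset.mem_insert_self a s))
      (ih (fun i hi => h i (Finset.mem_insert_of_mem hi)))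

theorem inM_mul_int {M : Ideal AlgInt} {x y : ℂ} (hx : InM M x) (hy : IsIntegral ℤ y) :
    InM M (x * y) := by
  obtain ⟨a, ha, rfl⟩ := hx
  exact ⟨a * ⟨y, hy⟩, M.mul_mem_right _ ha, by simp⟩

theorem inM_root_sub_one {p : ℕ} {M : Ideal AlgInt} (hM : IsPModular p M) {a : ℂ}
    (ha : a ^ p = 1) : InM M (a - 1) := by
  have : Fact p.Prime := ⟨hM.1⟩
  have hint : IsIntegral ℤ a := by
    apply IsIntegral.of_pow hM.1.pos
    rw [ha]
    exact isIntegral_one
  have h := Cfsg.Agent.Lib.helper84.memLocalIdeal_root_sub_one hM ha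
  have h1 : (((⟨a, hint⟩ : AlgInt) - 1 : AlgInt) : ℂ) = a - 1 := by simp
  rw [← h1] at h
  exact ⟨(⟨a, hint⟩ : AlgInt) - 1,
    Cfsg.Agent.Lib.helper20.mem_of_memLocalIdeal_coe
      (Cfsg.Agent.Lib.helper20.isPrime_of_isPModular hM) h, h1⟩

theorem inM_root_sub {p : ℕ} {M : Ideal AlgInt} (hM : IsPModular p M) {a b : ℂ}
    (ha : a ^ p = 1) (hb : b ^ p = 1) : InM M (a - b) := by
  obtain ⟨A, hA, hA'⟩ := inM_root_sub_one hM ha
  obtain ⟨B, hB, hB'⟩ := inM_root_sub_one hM hb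
  exact ⟨A - B, M.sub_mem hA hB, by push_cast; rw [hA', hB']; ring⟩

theorem centralizer_pow_eq {G : Type u} [Group G] (x : G) (l : ℕ) (h : l.Coprime (orderOf x)) :
    Subgroup.centralizer ({x ^ l} : Set G) = Subgroup.centralizer ({x} : Set G) := by
  obtain ⟨m, hm⟩ := exists_pow_eq_self_of_coprime h
  ext g
  simp only [Subgroup.mem_centralizer_iff, Set.mem_singleton_iff, forall_eq]
  constructor
  · intro hg
    have h1 : Commute (x ^ l) g := hg
    have h2 : Commute ((x ^ l) ^ m) g := h1.pow_left m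
    rw [hm] at h2
    exact h2
  · intro hg
    have h1 : Commute x g := hg
    exact h1.pow_left l

theorem root_sum (p : ℕ) (hp : 0 < p) (ν lam : ℂ) (hν : ν ^ p = 1) (hl : lam ^ p = 1) :
    ∑ l ∈ Finset.range p, (lam⁻¹) ^ l * ν ^ l = if ν = lam then (p : ℂ) else 0 := by
  have hl0 : lam ≠ 0 := by
    rintro rfl
    rw [zero_pow hp.ne'] at hl
    exact zero_ne_one hl
  split_ifs with h
  · subst h
    have h1 : ∀ l ∈ Finset.range p, (ν⁻¹) ^ l * ν ^ l = 1 := by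
      intro l _
      rw [← mul_pow, inv_mul_cancel₀ hl0, one_pow]
    rw [Finset.sum_congr rfl h1]
    simp
  · have hω : (lam⁻¹ * ν) ≠ 1 := by
      intro h1
      apply h
      have h2 : lam * (lam⁻¹ * ν) = lam * 1 := by rw [h1]
      rw [← mul_assoc, mul_inv_cancel₀ hl0, one_mul, mul_one] at h2
      exact h2
    have hωp : (lam⁻¹ * ν) ^ p = 1 := by rw [mul_pow, inv_pow, hl, hν]; simp
    have h1 := mul_geom_sum (lam⁻¹ * ν) p
    rw [hωp, sub_self] at h1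
    have h2 := (mul_eq_zero.mp h1).resolve_left (sub_ne_zero.mpr hω)
    rw [← h2]
    refine Finset.sum_congr rfl (fun l _ => by rw [mul_pow])

theorem sum_char_eq (p : ℕ) (hp : 0 < p) (f : ℕ → ℂ) (c : ℂ → ℕ)
    (hc : ∀ l : ℕ, f l = ∑ lam ∈ Polynomial.nthRootsFinset p (1 : ℂ), (c lam : ℂ) * lam ^ l)
    (lam : ℂ) (hl : lam ^ p = 1) :
    ∑ l ∈ Finset.range p, (lam⁻¹) ^ l * f l = (p : ℂ) * (c lam : ℂ) := by
  classical
  have h1 : ∀ l ∈ Finset.range p, (lam⁻¹) ^ l * f l =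
      ∑ ν ∈ Polynomial.nthRootsFinset p (1 : ℂ), (c ν : ℂ) * ((lam⁻¹) ^ l * ν ^ l) := by
    intro l _
    rw [hc l, Finset.mul_sum]
    refine Finset.sum_congr rfl (fun ν _ => by ring)
  rw [Finset.sum_congr rfl h1, Finset.sum_comm]
  have h2 : ∀ ν ∈ Polynomial.nthRootsFinset p (1 : ℂ),
      ∑ l ∈ Finset.range p, (c ν : ℂ) * ((lam⁻¹) ^ l * ν ^ l) =
        if ν = lam then (p : ℂ) * (c lam : ℂ) else 0 := by
    intro ν hν
    rw [← Finset.mul_sum, root_sum p hp ν lam ((Polynomial.mem_nthRootsFinset hp 1).mp hν) hl]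
    split_ifs with h
    · subst h; ring
    · simp
  rw [Finset.sum_congr rfl h2, Finset.sum_ite_eq',
    if_pos ((Polynomial.mem_nthRootsFinset hp 1).mpr hl)]

/-- MU2a (divisibility of multiplicity differences) -/
theorem mult_sub_dvd {G : Type u} [Group G] [Finite G] (p : ℕ) (hp : p.Prime)
    (χ : IrrCharacter G) (x : G) (hx : orderOf x = p)
    (c : ℂ → ℕ)
    (hc : ∀ l : ℕ, (χ : G → ℂ) (x ^ l) =
      ∑ lam ∈ Polynomial.nthRootsFinset p (1 : ℂ), (c lam : ℂ) * lam ^ l)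
    (lam mu : ℂ) (hl : lam ^ p = 1) (hm : mu ^ p = 1) :
    ((charDegree (χ : G → ℂ) /
        Nat.gcd (charDegree (χ : G → ℂ)) (Subgroup.centralizer ({x} : Set G)).index : ℕ) : ℤ) ∣
      (c lam : ℤ) - (c mu : ℤ) := by
  have := Fintype.ofFinite G
  obtain ⟨M, hM⟩ := Cfsg.Agent.Lib.helper76.exists_isPModular p hp
  set d := charDegree (χ : G → ℂ) with hd
  set K := (Subgroup.centralizer ({x} : Set G)).index with hK
  set e := Nat.gcd d K with he
  have hd0 : 0 < d := Cfsg.Agent.Lib.helper81.irr_charDegree_pos χ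
  have he0 : 0 < e := Nat.gcd_pos_of_pos_left _ hd0
  have hχ1 : (χ : G → ℂ) 1 = (d : ℂ) := Cfsg.Agent.Lib.helper81.irr_one_eq_charDegree χ
  have hdC : (d : ℂ) ≠ 0 := by exact_mod_cast hd0.ne'
  have hint : ∀ n : ℤ, IsIntegral ℤ ((n : ℤ) : ℂ) := fun n => by
    simpa using (isIntegral_algebraMap : IsIntegral ℤ (algebraMap ℤ ℂ n))
  -- integrality of `e * χ(x^l) / d`
  have hβ : ∀ l : ℕ, ¬ p ∣ l → IsIntegral ℤ ((e : ℂ) / (d : ℂ) * (χ : G → ℂ) (x ^ l)) := by
    intro l hl'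
    have hcop : l.Coprime (orderOf x) := by
      rw [hx]
      exact (Nat.Coprime.symm ((Nat.Prime.coprime_iff_not_dvd hp).mpr hl'))
    have h1 := Cfsg.Agent.Lib.helper81.irr_centralChar_isIntegral χ (x ^ l)
    unfold centralChar at h1
    rw [centralizer_pow_eq x l hcop, hχ1] at h1
    have h2 := Cfsg.Agent.Lib.helper81.irr_isIntegral χ (x ^ l)
    have hbez := Nat.gcd_eq_gcd_ab d K
    have h4 : (e : ℂ) = (d : ℂ) * ((Nat.gcdA d K : ℤ) : ℂ) + (K : ℂ) * ((Nat.gcdB d K : ℤ) : ℂ) := by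
      have := congrArg (Int.cast : ℤ → ℂ) hbez
      push_cast at this
      exact this
    have h3 : (e : ℂ) / (d : ℂ) * (χ : G → ℂ) (x ^ l) =
        ((Nat.gcdA d K : ℤ) : ℂ) * (χ : G → ℂ) (x ^ l) +
          ((Nat.gcdB d K : ℤ) : ℂ) * ((K : ℂ) * (χ : G → ℂ) (x ^ l) / (d : ℂ)) := by
      rw [h4]
      field_simp
    rw [h3]
    exact ((hint _).mul h2).add ((hint _).mul h1)
  have hsum : InM M (∑ l ∈ Finset.range p, ((lam⁻¹) ^ l - (mu⁻¹) ^ l) *
      ((e : ℂ) / (d : ℂ) * (χ : G → ℂ) (x ^ l))) := by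
    apply inM_sum
    intro l hl'
    rcases Nat.eq_zero_or_pos l with rfl | hpos
    · simpa using inM_zero M
    · have hnd : ¬ p ∣ l := fun h => by
        have h1 := Nat.le_of_dvd hpos h
        have h2 := Finset.mem_range.mp hl'
        omega
      apply inM_mul_int _ (hβ l hnd)
      apply inM_root_sub hM
      · rw [← pow_mul, mul_comm, pow_mul, inv_pow, hl]; simp
      · rw [← pow_mul, mul_comm, pow_mul, inv_pow, hm]; simp
  have hval : ∑ l ∈ Finset.range p, ((lam⁻¹) ^ l - (mu⁻¹) ^ l) *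
      ((e : ℂ) / (d : ℂ) * (χ : G → ℂ) (x ^ l)) =
        (e : ℂ) / (d : ℂ) * ((p : ℂ) * ((c lam : ℂ) - (c mu : ℂ))) := by
    have h1 := sum_char_eq p hp.pos (fun l => (χ : G → ℂ) (x ^ l)) c hc lam hl
    have h2 := sum_char_eq p hp.pos (fun l => (χ : G → ℂ) (x ^ l)) c hc mu hm
    calc _ = (e : ℂ) / (d : ℂ) * (∑ l ∈ Finset.range p, (lam⁻¹) ^ l * (χ : G → ℂ) (x ^ l) -
          ∑ l ∈ Finset.range p, (mu⁻¹) ^ l * (χ : G → ℂ) (x ^ l)) := by
          rw [← Finset.sum_sub_distrib, Finset.mul_sum]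
          refine Finset.sum_congr rfl (fun l _ => by ring)
      _ = _ := by rw [h1, h2]; ring
  rw [hval] at hsum
  obtain ⟨a, haM, ha⟩ := hsum
  -- the rational algebraic integer `a`
  have h1 : (a : ℂ) = algebraMap ℚ ℂ ((e : ℚ) / (d : ℚ) *
      ((p : ℚ) * (((c lam : ℤ) - (c mu : ℤ) : ℤ) : ℚ))) := by
    rw [ha]
    simp
  have h2 : IsIntegral ℤ (algebraMap ℚ ℂ ((e : ℚ) / (d : ℚ) *
      ((p : ℚ) * (((c lam : ℤ) - (c mu : ℤ) : ℤ) : ℚ)))) := h1 ▸ a.2
  rw [isIntegral_algebraMap_iff (algebraMap ℚ ℂ).injective] at h2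
  obtain ⟨n, hn⟩ := IsIntegrallyClosed.isIntegral_iff.mp h2
  have han : a = ((n : ℤ) : AlgInt) := by
    apply Subtype.ext
    rw [h1, ← hn]
    simp
  have hpn : (p : ℤ) ∣ n := by
    by_contra hpn
    have h3 : ¬ p ∣ n.natAbs := fun h => hpn (Int.natCast_dvd.mpr h)
    have h4 := Cfsg.Agent.Lib.helper80.natCast_not_mem hM h3
    rw [han] at haM
    rcases Int.natAbs_eq n with h | h
    · rw [h] at haM
      apply h4
      simpa using haM
    · rw [h] at haM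
      apply h4
      simpa using haM
  obtain ⟨n', rfl⟩ := hpn
  have hn' : ((p : ℚ) * (n' : ℚ)) = (e : ℚ) / (d : ℚ) *
      ((p : ℚ) * (((c lam : ℤ) - (c mu : ℤ) : ℤ) : ℚ)) := by
    rw [← hn]
    simp
  have hp0 : (p : ℚ) ≠ 0 := by exact_mod_cast hp.ne_zero
  have hdQ : (d : ℚ) ≠ 0 := by exact_mod_cast hd0.ne'
  have h6 : (p : ℚ) * ((n' : ℚ) * (d : ℚ)) =
      (p : ℚ) * ((e : ℚ) * (((c lam : ℤ) - (c mu : ℤ) : ℤ) : ℚ)) := by
    calc (p : ℚ) * ((n' : ℚ) * (d : ℚ)) = ((p : ℚ) * (n' : ℚ)) * (d : ℚ) := by ring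
      _ = ((e : ℚ) / (d : ℚ) * ((p : ℚ) * (((c lam : ℤ) - (c mu : ℤ) : ℤ) : ℚ))) * (d : ℚ) := by
          rw [hn']
      _ = _ := by field_simp
  have h5 := mul_left_cancel₀ hp0 h6
  have h7 : n' * (d : ℤ) = (e : ℤ) * ((c lam : ℤ) - (c mu : ℤ)) := by exact_mod_cast h5
  have h8 : (d : ℤ) = ((d / e : ℕ) : ℤ) * (e : ℤ) := by
    exact_mod_cast (Nat.div_mul_cancel (Nat.gcd_dvd_left d K)).symm
  have he0' : (e : ℤ) ≠ 0 := by exact_mod_cast he0.ne'
  have h9 : (e : ℤ) * (((d / e : ℕ) : ℤ) * n') = (e : ℤ) * ((c lam : ℤ) - (c mu : ℤ)) := by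
    rw [← h7]
    conv_rhs => rw [h8]
    ring
  exact ⟨n', (mul_left_cancel₀ he0' h9).symm⟩

end Cfsg.Agent.Lib.helper15.S4484
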