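import Mathlib
import Cfsg.Agent.Lib.helper15.S4484MU2a

/-!
# S4484 piece MU2b (helper15): an element of order `p` in the centre of a Sylow `p`-subgroup has
few eigenvalues in a representation affording a character of the principal `p`-block

See `tools/S4484_SPEC.md` (helper81), step 3.
-/

set_option autoImplicit false

namespace Cfsg.Agent.Lib.helper15.S4484

open Cfsg

universe u

theorem inM_sub {M : Ideal AlgInt} {x y : ℂ} (hx : InM M x) (hy : InM M y) : InM M (x - y) := by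
  obtain ⟨a, ha, rfl⟩ := hx
  obtain ⟨b, hb, rfl⟩ := hy
  exact ⟨a - b, M.sub_mem ha hb, by simp⟩

/-- An integer lying in a `p`-modular maximal ideal is divisible by `p`. -/
theorem int_dvd_of_inM {p : ℕ} {M : Ideal AlgInt} (hM : IsPModular p M) (n : ℤ)
    (h : InM M ((n : ℤ) : ℂ)) : (p : ℤ) ∣ n := by
  obtain ⟨a, haM, ha⟩ := h
  have han : a = ((n : ℤ) : AlgInt) := by
    apply Subtype.ext
    rw [ha]
    simp
  by_contra hpn
  have h3 : ¬ p ∣ n.natAbs := fun h => hpn (Int.natCast_dvd.mpr h)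
  have h4 := Cfsg.Agent.Lib.helper80.natCast_not_mem hM h3
  rw [han] at haM
  rcases Int.natAbs_eq n with h | h
  · rw [h] at haM
    apply h4
    simpa using haM
  · rw [h] at haM
    apply h4
    simpa using haM

/-- The sum of all `p`-th roots of unity is `0`. -/
theorem sum_roots_eq_zero (p : ℕ) (hp : p.Prime) :
    ∑ lam ∈ Polynomial.nthRootsFinset p (1 : ℂ), lam = 0 := by
  have hζ := Complex.isPrimitiveRoot_exp p hp.ne_zero
  set ζ := Complex.exp (2 * Real.pi * Complex.I / p) with hζdef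
  have hζp : ζ ^ p = 1 := hζ.pow_eq_one
  have hζ1 : ζ ≠ 1 := hζ.ne_one hp.one_lt
  have hζ0 : ζ ≠ 0 := hζ.ne_zero hp.ne_zero
  have h : ∑ lam ∈ Polynomial.nthRootsFinset p (1 : ℂ), ζ * lam =
      ∑ lam ∈ Polynomial.nthRootsFinset p (1 : ℂ), lam := by
    apply Finset.sum_nbij' (fun lam => ζ * lam) (fun lam => ζ⁻¹ * lam)
    · intro a ha
      rw [Polynomial.mem_nthRootsFinset hp.pos] at ha ⊢
      rw [mul_pow, hζp, ha, one_mul]
    · intro a ha
      rw [Polynomial.mem_nthRootsFinset hp.pos] at ha ⊢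
      rw [mul_pow, inv_pow, hζp, ha]
      simp
    · intro a _
      field_simp
    · intro a _
      field_simp
    · intro a _
      rfl
  rw [← Finset.mul_sum] at h
  have h2 : (ζ - 1) * ∑ lam ∈ Polynomial.nthRootsFinset p (1 : ℂ), lam = 0 := by
    rw [sub_mul, h, one_mul, sub_self]
  exact (mul_eq_zero.mp h2).resolve_left (sub_ne_zero.mpr hζ1)

/-- MU2b (principal block congruence; uses MU2a) -/
theorem card_support_le {G : Type u} [Group G] [Finite G] (p : ℕ) (M : Ideal AlgInt)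
    (hM : IsPModular p M) (χ : IrrCharacter G) (hχ : χ ∈ principalBlock M G) (x : G)
    (hx : orderOf x = p) (hK : ¬ p ∣ (Subgroup.centralizer ({x} : Set G)).index)
    (c : ℂ → ℕ)
    (hc : ∀ l : ℕ, (χ : G → ℂ) (x ^ l) =
      ∑ lam ∈ Polynomial.nthRootsFinset p (1 : ℂ), (c lam : ℂ) * lam ^ l)
    (hpe : Nat.gcd (charDegree (χ : G → ℂ)) (Subgroup.centralizer ({x} : Set G)).index < p) :
    ((Polynomial.nthRootsFinset p (1 : ℂ)).filter (fun lam => c lam ≠ 0)).card ≤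
      Nat.gcd (charDegree (χ : G → ℂ)) (Subgroup.centralizer ({x} : Set G)).index := by
  classical
  have := Fintype.ofFinite G
  have hp : p.Prime := hM.1
  have hMp := Cfsg.Agent.Lib.helper20.isPrime_of_isPModular hM
  set d := charDegree (χ : G → ℂ) with hd
  set K := (Subgroup.centralizer ({x} : Set G)).index with hKdef
  set e := Nat.gcd d K with he
  set R := Polynomial.nthRootsFinset p (1 : ℂ) with hR
  have hd0 : 0 < d := Cfsg.Agent.Lib.helper81.irr_charDegree_pos χ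
  have he0 : 0 < e := Nat.gcd_pos_of_pos_left _ hd0
  have hχ1 : (χ : G → ℂ) 1 = (d : ℂ) := Cfsg.Agent.Lib.helper81.irr_one_eq_charDegree χ
  have hdN : d = d / e * e := (Nat.div_mul_cancel (Nat.gcd_dvd_left d K)).symm
  have hN0pos : 0 < d / e := Nat.div_pos (Nat.le_of_dvd hd0 (Nat.gcd_dvd_left d K)) he0
  have hRmem : ∀ lam, lam ∈ R ↔ lam ^ p = 1 := fun lam => Polynomial.mem_nthRootsFinset hp.pos 1
  have h1R : (1 : ℂ) ∈ R := (hRmem 1).mpr (one_pow p)
  have hRcard : R.card = p := (Complex.isPrimitiveRoot_exp p hp.ne_zero).card_nthRootsFinset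
  obtain ⟨μ0, hμ0R, hμ0⟩ := Finset.exists_min_image R c ⟨1, h1R⟩
  have hdiv : ∀ lam ∈ R, d / e ∣ c lam - c μ0 := by
    intro lam hlam
    have h := mult_sub_dvd p hp χ x hx c hc lam μ0 ((hRmem lam).mp hlam) ((hRmem μ0).mp hμ0R)
    have h2 : ((c lam - c μ0 : ℕ) : ℤ) = (c lam : ℤ) - (c μ0 : ℤ) := Nat.cast_sub (hμ0 lam hlam)
    rw [← h2] at h
    exact Int.natCast_dvd_natCast.mp h
  obtain ⟨c2, hcc⟩ : ∃ c2 : ℂ → ℕ, ∀ lam ∈ R, c lam = c μ0 + d / e * c2 lam := by
    refine ⟨fun lam => (c lam - c μ0) / (d / e), fun lam hlam => ?_⟩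
    have h1 := Nat.mul_div_cancel' (hdiv lam hlam)
    have h2 := hμ0 lam hlam
    rw [h1]
    omega
  -- (1): `p * c μ0 + N0 * Σ c2 = N0 * e`
  have hsum1 : p * c μ0 + d / e * ∑ lam ∈ R, c2 lam = d / e * e := by
    have h0 := hc 0
    rw [pow_zero, hχ1] at h0
    have h1 : (d : ℂ) = ((∑ lam ∈ R, c lam : ℕ) : ℂ) := by
      rw [h0]
      push_cast
      refine Finset.sum_congr rfl (fun lam _ => by simp)
    have h2 : d = ∑ lam ∈ R, c lam := by exact_mod_cast h1
    rw [← hdN]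
    conv_rhs => rw [h2]
    rw [Finset.sum_congr rfl hcc, Finset.sum_add_distrib, Finset.sum_const, hRcard, smul_eq_mul,
      Finset.mul_sum]
  -- `χ x = N0 * β`
  have hsumroots : ∑ lam ∈ R, lam = 0 := sum_roots_eq_zero p hp
  have hχx : (χ : G → ℂ) x = ((d / e : ℕ) : ℂ) * ∑ lam ∈ R, (c2 lam : ℂ) * lam := by
    have h1 := hc 1
    rw [pow_one] at h1
    rw [h1]
    have h2 : ∀ lam ∈ R, (c lam : ℂ) * lam ^ 1 =
        (c μ0 : ℂ) * lam + ((d / e : ℕ) : ℂ) * ((c2 lam : ℂ) * lam) := by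
      intro lam hlam
      rw [hcc lam hlam]
      push_cast
      ring
    rw [Finset.sum_congr rfl h2, Finset.sum_add_distrib, ← Finset.mul_sum, hsumroots, mul_zero,
      zero_add, Finset.mul_sum]
  have hrootint : ∀ lam ∈ R, IsIntegral ℤ lam := by
    intro lam hlam
    apply IsIntegral.of_pow hp.pos
    rw [(hRmem lam).mp hlam]
    exact isIntegral_one
  have hnatint : ∀ n : ℕ, IsIntegral ℤ ((n : ℕ) : ℂ) := fun n => by
    simpa using (isIntegral_algebraMap : IsIntegral ℤ (algebraMap ℤ ℂ (n : ℤ)))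
  have hβint : IsIntegral ℤ (∑ lam ∈ R, (c2 lam : ℂ) * lam) :=
    IsIntegral.sum _ (fun lam hlam => (hnatint _).mul (hrootint lam hlam))
  -- block congruence
  have hblock := (Cfsg.Agent.Lib.helper81.mem_principalBlock_iff.mp hχ) x
  unfold centralChar at hblock
  rw [hχ1, hχx] at hblock
  have hKe : K = K / e * e := (Nat.div_mul_cancel (Nat.gcd_dvd_right d K)).symm
  have hKe' : ¬ p ∣ K / e := fun h => hK (by rw [hKe]; exact Dvd.dvd.mul_right h e)
  have heC : (e : ℂ) ≠ 0 := by exact_mod_cast he0.ne'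
  have hN0C : ((d / e : ℕ) : ℂ) ≠ 0 := by exact_mod_cast hN0pos.ne'
  have h3 : (K : ℂ) - (K : ℂ) * (((d / e : ℕ) : ℂ) * ∑ lam ∈ R, (c2 lam : ℂ) * lam) / (d : ℂ) =
      ((K / e : ℕ) : ℂ) * ((e : ℂ) - ∑ lam ∈ R, (c2 lam : ℂ) * lam) := by
    have hdC : (d : ℂ) = ((d / e : ℕ) : ℂ) * (e : ℂ) := by
      exact_mod_cast congrArg (Nat.cast : ℕ → ℂ) hdN
    have hKC : (K : ℂ) = ((K / e : ℕ) : ℂ) * (e : ℂ) := by
      exact_mod_cast congrArg (Nat.cast : ℕ → ℂ) hKe
    rw [hdC, hKC]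
    field_simp
  rw [h3] at hblock
  have h4 : MemLocalIdeal M ((e : ℂ) - ∑ lam ∈ R, (c2 lam : ℂ) * lam) := by
    by_contra hcon
    refine Cfsg.Agent.Lib.helper20.not_memLocalIdeal_mul hMp
      (Cfsg.Agent.Lib.helper20.memLocalRing_natCast hMp _) ?_
      (Cfsg.Agent.Lib.helper80.not_memLocalIdeal_natCast hM hKe') hcon hblock
    exact Cfsg.Agent.Lib.helper20.memLocalRing_sub hMp
      (Cfsg.Agent.Lib.helper20.memLocalRing_natCast hMp _)
      (Cfsg.Agent.Lib.helper20.memLocalRing_of_algInt hMp ⟨_, hβint⟩)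
  have h5 : InM M ((e : ℂ) - ∑ lam ∈ R, (c2 lam : ℂ) * lam) := by
    have h6 : ((((e : ℕ) : AlgInt) - ⟨_, hβint⟩ : AlgInt) : ℂ) =
        (e : ℂ) - ∑ lam ∈ R, (c2 lam : ℂ) * lam := by simp
    rw [← h6] at h4
    exact ⟨_, Cfsg.Agent.Lib.helper20.mem_of_memLocalIdeal_coe hMp h4, h6⟩
  have h7 : InM M ((∑ lam ∈ R, (c2 lam : ℂ) * lam) - ((∑ lam ∈ R, c2 lam : ℕ) : ℂ)) := by
    have h8 : (∑ lam ∈ R, (c2 lam : ℂ) * lam) - ((∑ lam ∈ R, c2 lam : ℕ) : ℂ) =
        ∑ lam ∈ R, (lam - 1) * (c2 lam : ℂ) := by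
      push_cast
      rw [← Finset.sum_sub_distrib]
      refine Finset.sum_congr rfl (fun lam _ => by ring)
    rw [h8]
    apply inM_sum
    intro lam hlam
    exact inM_mul_int (inM_root_sub_one hM ((hRmem lam).mp hlam)) (hnatint _)
  have h9 : InM M ((((e : ℤ) - ((∑ lam ∈ R, c2 lam : ℕ) : ℤ) : ℤ)) : ℂ) := by
    have h10 := inM_add h5 h7
    have h11 : ((e : ℂ) - ∑ lam ∈ R, (c2 lam : ℂ) * lam) +
        ((∑ lam ∈ R, (c2 lam : ℂ) * lam) - ((∑ lam ∈ R, c2 lam : ℕ) : ℂ)) =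
        ((((e : ℤ) - ((∑ lam ∈ R, c2 lam : ℕ) : ℤ) : ℤ)) : ℂ) := by
      push_cast
      ring
    rw [h11] at h10
    exact h10
  have h12 := int_dvd_of_inM hM _ h9
  -- arithmetic
  have hSle : ∑ lam ∈ R, c2 lam ≤ e := by
    have h13 : d / e * ∑ lam ∈ R, c2 lam ≤ d / e * e := by
      rw [← hsum1]
      exact Nat.le_add_left _ _
    exact Nat.le_of_mul_le_mul_left h13 hN0pos
  have hSeq : ∑ lam ∈ R, c2 lam = e := by
    have h14 : ((e - ∑ lam ∈ R, c2 lam : ℕ) : ℤ) = (e : ℤ) - ((∑ lam ∈ R, c2 lam : ℕ) : ℤ) :=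
      Nat.cast_sub hSle
    rw [← h14] at h12
    have h15 : p ∣ e - ∑ lam ∈ R, c2 lam := Int.natCast_dvd_natCast.mp h12
    have h16 : e - ∑ lam ∈ R, c2 lam = 0 :=
      Nat.eq_zero_of_dvd_of_lt h15 (lt_of_le_of_lt (Nat.sub_le _ _) hpe)
    omega
  have hcmin : c μ0 = 0 := by
    rw [hSeq] at hsum1
    have h17 : p * c μ0 = 0 := by omega
    rcases Nat.mul_eq_zero.mp h17 with h | h
    · exact absurd h hp.ne_zero
    · exact h
  -- the support
  calc (R.filter (fun lam => c lam ≠ 0)).card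
      = ∑ lam ∈ R.filter (fun lam => c lam ≠ 0), 1 := Finset.card_eq_sum_ones _
    _ ≤ ∑ lam ∈ R.filter (fun lam => c lam ≠ 0), c2 lam := by
        apply Finset.sum_le_sum
        intro lam hlam
        rw [Finset.mem_filter] at hlam
        have h18 := hcc lam hlam.1
        rw [hcmin, zero_add] at h18
        rcases Nat.eq_zero_or_pos (c2 lam) with h | h
        · rw [h, mul_zero] at h18
          exact absurd h18 hlam.2
        · exact h
    _ ≤ ∑ lam ∈ R, c2 lam := Finset.sum_le_sum_of_subset (Finset.filter_subset _ _)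
    _ = e := hSeq

end Cfsg.Agent.Lib.helper15.S4484
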