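import Mathlib
import Cfsg.Agent.Lib.helper89.S60Defs

set_option autoImplicit false

namespace Cfsg.Agent.Lib.helper89.S60

theorem helper15_s60_NN {A : Type*} [Ring A] (a b : A) (ha : a * a = 1) (hb : b * b = 1)
    (hab : a * b = b * a) :
    (1 - a - b - a * b) * (1 - a - b - a * b) = 1 + 1 + 1 + 1 := by
  have ha' : ∀ x : A, a * (a * x) = x := fun x => by rw [← mul_assoc, ha, one_mul]
  have hb' : ∀ x : A, b * (b * x) = x := fun x => by rw [← mul_assoc, hb, one_mul]
  have hba : b * a = a * b := hab.symm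
  have hba' : ∀ x : A, b * (a * x) = a * (b * x) := fun x => by rw [← mul_assoc, hba, mul_assoc]
  simp only [mul_add, add_mul, mul_sub, sub_mul, mul_one, one_mul, mul_assoc, ha, hb, ha', hb',
    hba, hba']
  abel

theorem helper15_s60_conj {A : Type*} [Ring A] (a b s : A) (ha : a * a = 1) (hb : b * b = 1)
    (hab : a * b = b * a)
    (has : a * s = s * a ∨ a * s = -(s * a)) (hbs : b * s = s * b ∨ b * s = -(s * b)) :
    ∃ X : A, (X = s ∨ X = -(s * a) ∨ X = -(s * b) ∨ X = -(s * (a * b))) ∧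
      (1 - a - b - a * b) * s * (1 - a - b - a * b) = X + X + X + X := by
  have ha' : ∀ x : A, a * (a * x) = x := fun x => by rw [← mul_assoc, ha, one_mul]
  have hb' : ∀ x : A, b * (b * x) = x := fun x => by rw [← mul_assoc, hb, one_mul]
  have hba : b * a = a * b := hab.symm
  have hba' : ∀ x : A, b * (a * x) = a * (b * x) := fun x => by rw [← mul_assoc, hba, mul_assoc]
  rcases has with has | has <;> rcases hbs with hbs | hbs
  · refine ⟨s, Or.inl rfl, ?_⟩
    have has' : ∀ x : A, a * (s * x) = s * (a * x) := fun x => by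
      rw [← mul_assoc, has, mul_assoc]
    have hbs' : ∀ x : A, b * (s * x) = s * (b * x) := fun x => by
      rw [← mul_assoc, hbs, mul_assoc]
    simp only [mul_add, add_mul, mul_sub, sub_mul, mul_neg, neg_mul, neg_neg, mul_one, one_mul,
      mul_assoc, ha, hb, ha', hb', hba, hba', has, has', hbs, hbs']
    abel
  · refine ⟨-(s * a), Or.inr (Or.inl rfl), ?_⟩
    have has' : ∀ x : A, a * (s * x) = s * (a * x) := fun x => by
      rw [← mul_assoc, has, mul_assoc]
    have hbs' : ∀ x : A, b * (s * x) = -(s * (b * x)) := fun x => by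
      rw [← mul_assoc, hbs, neg_mul, mul_assoc]
    simp only [mul_add, add_mul, mul_sub, sub_mul, mul_neg, neg_mul, neg_neg, mul_one, one_mul,
      mul_assoc, ha, hb, ha', hb', hba, hba', has, has', hbs, hbs']
    abel
  · refine ⟨-(s * b), Or.inr (Or.inr (Or.inl rfl)), ?_⟩
    have has' : ∀ x : A, a * (s * x) = -(s * (a * x)) := fun x => by
      rw [← mul_assoc, has, neg_mul, mul_assoc]
    have hbs' : ∀ x : A, b * (s * x) = s * (b * x) := fun x => by
      rw [← mul_assoc, hbs, mul_assoc]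
    simp only [mul_add, add_mul, mul_sub, sub_mul, mul_neg, neg_mul, neg_neg, mul_one, one_mul,
      mul_assoc, ha, hb, ha', hb', hba, hba', has, has', hbs, hbs']
    abel
  · refine ⟨-(s * (a * b)), Or.inr (Or.inr (Or.inr rfl)), ?_⟩
    have has' : ∀ x : A, a * (s * x) = -(s * (a * x)) := fun x => by
      rw [← mul_assoc, has, neg_mul, mul_assoc]
    have hbs' : ∀ x : A, b * (s * x) = -(s * (b * x)) := fun x => by
      rw [← mul_assoc, hbs, neg_mul, mul_assoc]
    simp only [mul_add, add_mul, mul_sub, sub_mul, mul_neg, neg_mul, neg_neg, mul_one, one_mul,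
      mul_assoc, ha, hb, ha', hb', hba, hba', has, has', hbs, hbs']
    abel

theorem helper15_s60_trace_anti {F : Type*} [Field F] (h2 : (2 : F) ≠ 0)
    (x y : Matrix (Fin 4) (Fin 4) F) (hxy : x * y = -(y * x)) (hy : y * y = 1) :
    Matrix.trace x = 0 := by
  have h1 : x = -(y * x * y) := by
    calc x = x * (y * y) := by rw [hy, mul_one]
      _ = x * y * y := by rw [mul_assoc]
      _ = -(y * x * y) := by rw [hxy, neg_mul]
  have h3 : Matrix.trace (y * x * y) = Matrix.trace x := by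
    rw [Matrix.trace_mul_comm, ← mul_assoc, hy, one_mul]
  have h4 : Matrix.trace x = -Matrix.trace x := by
    conv_lhs => rw [h1]
    rw [Matrix.trace_neg, h3]
  have h5 : (2 : F) * Matrix.trace x = 0 := by linear_combination h4
  rcases mul_eq_zero.mp h5 with h | h
  · exact absurd h h2
  · exact h


open Matrix Cfsg Cfsg.Geo

/-- REFL (M). -/
theorem s60_refl {F : Type*} [Field F] [Fintype F] (h2 : (2 : F) ≠ 0) (R : Subgroup (GL (Fin 4) F)) (w : F) (hG : Good R w) :
    ∃ ρ : GL (Fin 4) F, ρ ∈ subgroupNormalizer R ∧ (ρ : Matrix (Fin 4) (Fin 4) F) * (ρ : Matrix (Fin 4) (Fin 4) F) = 1 ∧ Matrix.trace (ρ : Matrix (Fin 4) (Fin 4) F) = 2 := by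
  obtain ⟨t, htR, htsq, htanti, -⟩ := hG.frame
  obtain ⟨z, hzR, hz⟩ := hG.wmem
  have hww := hG.wsq
  -- the matrices
  set T0 : Matrix (Fin 4) (Fin 4) F := (t 0 : Matrix (Fin 4) (Fin 4) F) with hT0
  set T1 : Matrix (Fin 4) (Fin 4) F := (t 1 : Matrix (Fin 4) (Fin 4) F) with hT1
  set T2 : Matrix (Fin 4) (Fin 4) F := (t 2 : Matrix (Fin 4) (Fin 4) F) with hT2
  set T3 : Matrix (Fin 4) (Fin 4) F := (t 3 : Matrix (Fin 4) (Fin 4) F) with hT3
  have s0 : T0 * T0 = 1 := htsq 0
  have s1 : T1 * T1 = 1 := htsq 1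
  have s2 : T2 * T2 = 1 := htsq 2
  have h10 : T1 * T0 = -(T0 * T1) := htanti 1 0 (by decide)
  have h20 : T2 * T0 = -(T0 * T2) := htanti 2 0 (by decide)
  have h21 : T2 * T1 = -(T1 * T2) := htanti 2 1 (by decide)
  have h30 : T3 * T0 = -(T0 * T3) := htanti 3 0 (by decide)
  have h31 : T3 * T1 = -(T1 * T3) := htanti 3 1 (by decide)
  have h32 : T3 * T2 = -(T2 * T3) := htanti 3 2 (by decide)
  have s0' : ∀ x : Matrix (Fin 4) (Fin 4) F, T0 * (T0 * x) = x := fun x => by
    rw [← mul_assoc, s0, one_mul]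
  have s1' : ∀ x : Matrix (Fin 4) (Fin 4) F, T1 * (T1 * x) = x := fun x => by
    rw [← mul_assoc, s1, one_mul]
  have s2' : ∀ x : Matrix (Fin 4) (Fin 4) F, T2 * (T2 * x) = x := fun x => by
    rw [← mul_assoc, s2, one_mul]
  have h10' : ∀ x : Matrix (Fin 4) (Fin 4) F, T1 * (T0 * x) = -(T0 * (T1 * x)) := fun x => by
    rw [← mul_assoc, h10, neg_mul, mul_assoc]
  have h20' : ∀ x : Matrix (Fin 4) (Fin 4) F, T2 * (T0 * x) = -(T0 * (T2 * x)) := fun x => by
    rw [← mul_assoc, h20, neg_mul, mul_assoc]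
  have h21' : ∀ x : Matrix (Fin 4) (Fin 4) F, T2 * (T1 * x) = -(T1 * (T2 * x)) := fun x => by
    rw [← mul_assoc, h21, neg_mul, mul_assoc]
  have h30' : ∀ x : Matrix (Fin 4) (Fin 4) F, T3 * (T0 * x) = -(T0 * (T3 * x)) := fun x => by
    rw [← mul_assoc, h30, neg_mul, mul_assoc]
  have h31' : ∀ x : Matrix (Fin 4) (Fin 4) F, T3 * (T1 * x) = -(T1 * (T3 * x)) := fun x => by
    rw [← mul_assoc, h31, neg_mul, mul_assoc]
  have h32' : ∀ x : Matrix (Fin 4) (Fin 4) F, T3 * (T2 * x) = -(T2 * (T3 * x)) := fun x => by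
    rw [← mul_assoc, h32, neg_mul, mul_assoc]
  -- a, b
  set b : Matrix (Fin 4) (Fin 4) F := w • (T1 * T2) with hb_def
  have haa : T0 * T0 = 1 := s0
  have hbb : b * b = 1 := by
    rw [hb_def]
    simp only [smul_mul_assoc, mul_smul_comm, smul_smul, mul_assoc, mul_neg, neg_mul, neg_neg,
      smul_neg, h21', s1', s2, hww]
    simp
  have hab : T0 * b = b * T0 := by
    rw [hb_def]
    simp only [smul_mul_assoc, mul_smul_comm, mul_assoc, mul_neg, neg_mul, neg_neg, smul_neg,
      h10, h20, h10', h20']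
  -- group elements
  have hzz : ((z * z : GL (Fin 4) F) : Matrix (Fin 4) (Fin 4) F) = -1 := by
    rw [Units.val_mul, hz]
    simp only [smul_mul_assoc, mul_smul_comm, smul_smul, mul_one, hww]
    simp
  have hzz' : (z : Matrix (Fin 4) (Fin 4) F) * (z : Matrix (Fin 4) (Fin 4) F) = -1 := by
    rw [← Units.val_mul]; exact hzz
  set bG : GL (Fin 4) F := z * t 1 * t 2 with hbG_def
  have hbG : (bG : Matrix (Fin 4) (Fin 4) F) = b := by
    rw [hbG_def, Units.val_mul, Units.val_mul, hz, hb_def]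
    simp only [smul_mul_assoc, one_mul]
    rfl
  have hbGR : bG ∈ R := R.mul_mem (R.mul_mem hzR (htR 1)) (htR 2)
  have hnegR : z * z ∈ R := R.mul_mem hzR hzR
  -- ρ
  set N : Matrix (Fin 4) (Fin 4) F := 1 - T0 - b - T0 * b with hN
  have hNN : N * N = 1 + 1 + 1 + 1 := helper15_s60_NN T0 b haa hbb hab
  have h4 : (2⁻¹ : F) * 2⁻¹ * 4 = 1 := by
    have h22 : (2 : F) * 2 = 4 := by norm_num
    rw [← h22]
    field_simp
  have hquarter : ∀ X : Matrix (Fin 4) (Fin 4) F, ((2⁻¹ : F) * 2⁻¹) • (X + X + X + X) = X := by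
    intro X
    have : ((2⁻¹ : F) * 2⁻¹) • (X + X + X + X) = ((2⁻¹ : F) * 2⁻¹ * 4) • X := by module
    rw [this, h4, one_smul]
  have hρρ : ((2⁻¹ : F) • N) * ((2⁻¹ : F) • N) = 1 := by
    rw [smul_mul_assoc, mul_smul_comm, smul_smul, hNN]
    exact hquarter 1
  set ρ : GL (Fin 4) F := ⟨(2⁻¹ : F) • N, (2⁻¹ : F) • N, hρρ, hρρ⟩ with hρ_def
  have hρval : (ρ : Matrix (Fin 4) (Fin 4) F) = (2⁻¹ : F) • N := rfl
  have hρinv : ((ρ⁻¹ : GL (Fin 4) F) : Matrix (Fin 4) (Fin 4) F) = (2⁻¹ : F) • N := rfl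
  -- conjugation
  have hconj : ∀ s : GL (Fin 4) F, s ∈ R → ρ * s * ρ⁻¹ ∈ R := by
    intro s hs
    have hcomm_a : T0 * (s : Matrix (Fin 4) (Fin 4) F) = (s : Matrix (Fin 4) (Fin 4) F) * T0 ∨
        T0 * (s : Matrix (Fin 4) (Fin 4) F) = -((s : Matrix (Fin 4) (Fin 4) F) * T0) :=
      hG.comm (t 0) (htR 0) s hs
    have hcomm_b : b * (s : Matrix (Fin 4) (Fin 4) F) = (s : Matrix (Fin 4) (Fin 4) F) * b ∨
        b * (s : Matrix (Fin 4) (Fin 4) F) = -((s : Matrix (Fin 4) (Fin 4) F) * b) := by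
      have := hG.comm bG hbGR s hs
      rwa [hbG] at this
    obtain ⟨X, hX, hNsN⟩ := helper15_s60_conj T0 b (s : Matrix (Fin 4) (Fin 4) F) haa hbb hab
      hcomm_a hcomm_b
    have hval : ((ρ * s * ρ⁻¹ : GL (Fin 4) F) : Matrix (Fin 4) (Fin 4) F) = X := by
      rw [Units.val_mul, Units.val_mul, hρval, hρinv, smul_mul_assoc, smul_mul_assoc,
        mul_smul_comm, smul_smul, hNsN]
      exact hquarter X
    rcases hX with hX | hX | hX | hX
    · have : ρ * s * ρ⁻¹ = s := Units.ext (by rw [hval, hX])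
      rw [this]; exact hs
    · have : ρ * s * ρ⁻¹ = z * z * s * t 0 := Units.ext (by
        rw [hval, hX]
        simp only [Units.val_mul, hzz', neg_mul, one_mul, ← hT0])
      rw [this]; exact R.mul_mem (R.mul_mem hnegR hs) (htR 0)
    · have : ρ * s * ρ⁻¹ = z * z * s * bG := Units.ext (by
        rw [hval, hX]
        simp only [Units.val_mul, hzz', neg_mul, one_mul, hbG])
      rw [this]; exact R.mul_mem (R.mul_mem hnegR hs) hbGR
    · have : ρ * s * ρ⁻¹ = z * z * s * (t 0 * bG) := Units.ext (by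
        rw [hval, hX]
        simp only [Units.val_mul, hzz', neg_mul, one_mul, hbG, ← hT0])
      rw [this]; exact R.mul_mem (R.mul_mem hnegR hs) (R.mul_mem (htR 0) hbGR)
  have hρsq : ρ * ρ = 1 := Units.ext (by rw [Units.val_mul, hρval]; exact hρρ)
  have hρinv' : ρ⁻¹ = ρ := inv_eq_of_mul_eq_one_right hρsq
  refine ⟨ρ, ?_, ?_, ?_⟩
  · rw [subgroupNormalizer, Subgroup.mem_normalizer_iff]
    intro h
    constructor
    · intro hh
      exact hconj h hh
    · intro hh
      have := hconj _ hh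
      have e : ρ * (ρ * h * ρ⁻¹) * ρ⁻¹ = h := by
        rw [hρinv']
        calc ρ * (ρ * h * ρ) * ρ = (ρ * ρ) * h * (ρ * ρ) := by group
          _ = h := by rw [hρsq, one_mul, mul_one]
      rwa [e] at this
  · rw [hρval]; exact hρρ
  · rw [hρval, Matrix.trace_smul, hN, Matrix.trace_sub, Matrix.trace_sub, Matrix.trace_sub]
    have ta : Matrix.trace T0 = 0 := by
      refine helper15_s60_trace_anti h2 T0 T1 ?_ s1
      rw [h10, neg_neg]
    have tb : Matrix.trace b = 0 := by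
      refine helper15_s60_trace_anti h2 b T1 ?_ s1
      rw [hb_def]
      simp only [smul_mul_assoc, mul_smul_comm, mul_assoc, mul_neg, neg_mul, neg_neg, smul_neg,
        h21, s1, s1', mul_one]
    have tab : Matrix.trace (T0 * b) = 0 := by
      refine helper15_s60_trace_anti h2 (T0 * b) T3 ?_ (htsq 3)
      rw [hb_def]
      simp only [smul_mul_assoc, mul_smul_comm, mul_assoc, mul_neg, neg_mul, neg_neg, smul_neg,
        h30, h31, h32, h30', h31', h32']
    rw [ta, tb, tab, Matrix.trace_one]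
    simp only [Fintype.card_fin, sub_zero, smul_eq_mul]
    have : ((4 : ℕ) : F) = 2 * 2 := by norm_num
    rw [this]
    field_simp

end Cfsg.Agent.Lib.helper89.S60
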