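import Mathlib
import Cfsg.Agent.Lib.helper89.S60Defs
import Cfsg.Agent.Lib.helper15.S60REFL

set_option autoImplicit false

namespace Cfsg.Agent.Lib.helper89.S60

open Matrix Cfsg Cfsg.Geo

theorem helper15_s60_Dk_trace {F : Type*} [Field F] (k : ℕ) (hk : k ≤ 4) :
    Matrix.trace (Dk F k) = 4 - 2 * (k : F) := by
  interval_cases k <;> simp [Dk, Matrix.trace, Fin.sum_univ_four] <;> norm_num

theorem helper15_s60_Dk_det {F : Type*} [Field F] (k : ℕ) (hk : k ≤ 4) :
    (Dk F k).det = (-1) ^ k := by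
  interval_cases k <;> simp [Dk, Matrix.det_diagonal, Fin.prod_univ_four] <;> norm_num

theorem helper15_s60_Dk_zero {F : Type*} [Field F] :
    Dk F 0 = (1 : F) • (1 : Matrix (Fin 4) (Fin 4) F) := by
  ext i j; fin_cases i <;> fin_cases j <;> simp [Dk]

theorem helper15_s60_Dk_four {F : Type*} [Field F] :
    Dk F 4 = (-1 : F) • (1 : Matrix (Fin 4) (Fin 4) F) := by
  ext i j; fin_cases i <;> fin_cases j <;> simp [Dk]

theorem helper15_s60_conj_trace {F : Type*} [Field F] (g y : GL (Fin 4) F) :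
    Matrix.trace ((g⁻¹ * y * g : GL (Fin 4) F) : Matrix (Fin 4) (Fin 4) F) =
      Matrix.trace (y : Matrix (Fin 4) (Fin 4) F) := by
  rw [Units.val_mul, Units.val_mul, Matrix.trace_mul_comm, ← mul_assoc, ← Units.val_mul,
    mul_inv_cancel, Units.val_one, one_mul]

theorem helper15_s60_conj_det {F : Type*} [Field F] (g y : GL (Fin 4) F) :
    ((g⁻¹ * y * g : GL (Fin 4) F) : Matrix (Fin 4) (Fin 4) F).det =
      (y : Matrix (Fin 4) (Fin 4) F).det := by
  rw [Units.val_mul, Units.val_mul, Matrix.det_mul, Matrix.det_mul, mul_right_comm,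
    ← Matrix.det_mul, ← Units.val_mul, inv_mul_cancel, Units.val_one, Matrix.det_one, one_mul]

theorem helper15_s60_conj_scalar {F : Type*} [Field F] (g y : GL (Fin 4) F) (c : F)
    (h : ((g⁻¹ * y * g : GL (Fin 4) F) : Matrix (Fin 4) (Fin 4) F) = c • 1) :
    (y : Matrix (Fin 4) (Fin 4) F) = c • 1 := by
  have e : y = g * (g⁻¹ * y * g) * g⁻¹ := by group
  rw [e, Units.val_mul, Units.val_mul, h, mul_smul_comm, mul_one, smul_mul_assoc,
    ← Units.val_mul, mul_inv_cancel, Units.val_one]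

/-- Two involutions of `GL_4` with the same trace are `SL_4`-conjugate (from CLS2). -/
theorem helper15_s60_conj_of_trace {F : Type*} [Field F] {p : ℕ} [Fact p.Prime] [CharP F p]
    (hp5 : 5 ≤ p) (h2 : (2 : F) ≠ 0)
    (hcls : ∀ x : GL (Fin 4) F,
      (x : Matrix (Fin 4) (Fin 4) F) * (x : Matrix (Fin 4) (Fin 4) F) = 1 →
      ∃ g ∈ specialLinear (Fin 4) F, ∃ k : ℕ, k ≤ 4 ∧
        ((g⁻¹ * x * g : GL (Fin 4) F) : Matrix (Fin 4) (Fin 4) F) = Dk F k)
    (y n : GL (Fin 4) F)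
    (hy : (y : Matrix (Fin 4) (Fin 4) F) * (y : Matrix (Fin 4) (Fin 4) F) = 1)
    (hn : (n : Matrix (Fin 4) (Fin 4) F) * (n : Matrix (Fin 4) (Fin 4) F) = 1)
    (htr : Matrix.trace (y : Matrix (Fin 4) (Fin 4) F) =
      Matrix.trace (n : Matrix (Fin 4) (Fin 4) F)) :
    ∃ g ∈ specialLinear (Fin 4) F, g⁻¹ * y * g = n := by
  obtain ⟨g1, hg1, k1, hk1, e1⟩ := hcls y hy
  obtain ⟨g2, hg2, k2, hk2, e2⟩ := hcls n hn
  have t1 : Matrix.trace (y : Matrix (Fin 4) (Fin 4) F) = 4 - 2 * (k1 : F) := by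
    rw [← helper15_s60_Dk_trace k1 hk1, ← e1, helper15_s60_conj_trace]
  have t2 : Matrix.trace (n : Matrix (Fin 4) (Fin 4) F) = 4 - 2 * (k2 : F) := by
    rw [← helper15_s60_Dk_trace k2 hk2, ← e2, helper15_s60_conj_trace]
  have hkF : (k1 : F) = (k2 : F) := by
    have h3 : (2 : F) * ((k1 : F) - (k2 : F)) = 0 := by
      rw [t1, t2] at htr
      linear_combination -htr
    rcases mul_eq_zero.mp h3 with h | h
    · exact absurd h h2
    · exact sub_eq_zero.mp h
  have hk : k1 = k2 :=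
    CharP.natCast_injOn_Iio F p (Set.mem_Iio.mpr (by omega)) (Set.mem_Iio.mpr (by omega)) hkF
  have e : g1⁻¹ * y * g1 = g2⁻¹ * n * g2 := Units.ext (by rw [e1, e2, hk])
  refine ⟨g1 * g2⁻¹, (specialLinear (Fin 4) F).mul_mem hg1
    ((specialLinear (Fin 4) F).inv_mem hg2), ?_⟩
  calc (g1 * g2⁻¹)⁻¹ * y * (g1 * g2⁻¹) = g2 * (g1⁻¹ * y * g1) * g2⁻¹ := by group
    _ = n := by rw [e]; group

/-- S2 core: CLS2 and NOSQ enter as hypotheses. -/
theorem helper15_s60_suff_two_core {F : Type*} [Field F] [Fintype F] {p : ℕ} [Fact p.Prime] [CharP F p] (hp4 : p % 4 = 1)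
    (h2 : (2 : F) ≠ 0) (R : Subgroup (GL (Fin 4) F)) (w : F) (hG : Good R w)
    (hcls : ∀ x : GL (Fin 4) F,
      (x : Matrix (Fin 4) (Fin 4) F) * (x : Matrix (Fin 4) (Fin 4) F) = 1 →
      ∃ g ∈ specialLinear (Fin 4) F, ∃ k : ℕ, k ≤ 4 ∧
        ((g⁻¹ * x * g : GL (Fin 4) F) : Matrix (Fin 4) (Fin 4) F) = Dk F k)
    (hnosq : ∀ (x : Matrix (Fin 4) (Fin 4) F) (z : F), (∀ c : F, c * c ≠ z) →
      x * x = z • (1 : Matrix (Fin 4) (Fin 4) F) → x.det = z ^ 2)
    (x : GL (Fin 4) F) (hx : x ∈ specialLinear (Fin 4) F) (z : F)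
    (hz : (x : Matrix (Fin 4) (Fin 4) F) ^ 2 = z • (1 : Matrix (Fin 4) (Fin 4) F)) (hns : ∀ z : F, (x : Matrix (Fin 4) (Fin 4) F) ≠ z • (1 : Matrix (Fin 4) (Fin 4) F)) :
    ∃ g ∈ specialLinear (Fin 4) F, g⁻¹ * x * g ∈ subgroupNormalizer R := by
  have hp5 : 5 ≤ p := by
    have := (Fact.out : p.Prime).two_le
    omega
  have hdet : (x : Matrix (Fin 4) (Fin 4) F).det = 1 := by
    have h := hx
    rw [specialLinear, MonoidHom.mem_ker] at h
    have h' := congrArg Units.val h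
    rwa [Matrix.GeneralLinearGroup.val_det_apply, Units.val_one] at h'
  have hxx : (x : Matrix (Fin 4) (Fin 4) F) * (x : Matrix (Fin 4) (Fin 4) F) = z • 1 := by
    rw [← pow_two]; exact hz
  have hz4 : z ^ 4 = 1 := by
    have h := congrArg Matrix.det hxx
    rw [Matrix.det_mul, hdet, Matrix.det_smul, Matrix.det_one] at h
    simpa using h.symm
  have hm11 : (-1 : F) ≠ 1 := by
    intro h
    exact h2 (by linear_combination -h)
  have hnormR : ∀ y : GL (Fin 4) F, y ∈ R → y ∈ subgroupNormalizer R := fun y hy => by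
    unfold subgroupNormalizer
    exact Subgroup.le_normalizer hy
  have hscalcomm : ∀ (c : GL (Fin 4) F) (a : F), (c : Matrix (Fin 4) (Fin 4) F) = a • 1 →
      ∀ g : GL (Fin 4) F, c * g = g * c := by
    intro c a hc g
    refine Units.ext ?_
    rw [Units.val_mul, Units.val_mul, hc, smul_mul_assoc, one_mul, mul_smul_comm, mul_one]
  have hscal : ∀ (c : GL (Fin 4) F) (a : F), (c : Matrix (Fin 4) (Fin 4) F) = a • 1 →
      c ∈ subgroupNormalizer R := by
    intro c a hc
    rw [subgroupNormalizer, Subgroup.mem_normalizer_iff]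
    intro h
    have : c * h * c⁻¹ = h := by rw [hscalcomm c a hc h, mul_inv_cancel_right]
    rw [this]
  obtain ⟨t, htR, htsq, htanti, -⟩ := hG.frame
  obtain ⟨zw, hzwR, hzw⟩ := hG.wmem
  have hww := hG.wsq
  have tt0 : Matrix.trace (t 0 : Matrix (Fin 4) (Fin 4) F) = 0 :=
    helper15_s60_trace_anti h2 _ (t 1 : Matrix (Fin 4) (Fin 4) F)
      (by rw [htanti 1 0 (by decide), neg_neg]) (htsq 1)
  -- involutions of determinant one
  have hinv : ∀ x' : GL (Fin 4) F,
      (x' : Matrix (Fin 4) (Fin 4) F) * (x' : Matrix (Fin 4) (Fin 4) F) = 1 →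
      (x' : Matrix (Fin 4) (Fin 4) F).det = 1 →
      (∀ c : F, (x' : Matrix (Fin 4) (Fin 4) F) ≠ c • 1) →
      ∃ g ∈ specialLinear (Fin 4) F, g⁻¹ * x' * g = t 0 := by
    intro x' hx'sq hx'det hx'ns
    apply helper15_s60_conj_of_trace hp5 h2 hcls x' (t 0) hx'sq (htsq 0)
    rw [tt0]
    obtain ⟨g, hg, k, hk, e⟩ := hcls x' hx'sq
    have hdk : (Dk F k).det = 1 := by rw [← e, helper15_s60_conj_det, hx'det]
    have htk : Matrix.trace (x' : Matrix (Fin 4) (Fin 4) F) = 4 - 2 * (k : F) := by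
      rw [← helper15_s60_Dk_trace k hk, ← e, helper15_s60_conj_trace]
    rw [helper15_s60_Dk_det k hk] at hdk
    interval_cases k
    · exact absurd (helper15_s60_conj_scalar g x' 1 (by rw [e, helper15_s60_Dk_zero])) (hx'ns 1)
    · exact absurd (by simpa using hdk) hm11
    · rw [htk]; norm_num
    · exact absurd (by simpa [pow_succ] using hdk) hm11
    · exact absurd (helper15_s60_conj_scalar g x' (-1) (by rw [e, helper15_s60_Dk_four]))
        (hx'ns (-1))
  have hzcases : z = 1 ∨ z = -1 ∨ z * z = -1 := by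
    have h : (z - 1) * ((z + 1) * (z * z + 1)) = 0 := by linear_combination hz4
    rcases mul_eq_zero.mp h with h | h
    · exact Or.inl (sub_eq_zero.mp h)
    · rcases mul_eq_zero.mp h with h | h
      · exact Or.inr (Or.inl (eq_neg_of_add_eq_zero_left h))
      · exact Or.inr (Or.inr (eq_neg_of_add_eq_zero_left h))
  rcases hzcases with rfl | rfl | hzz
  · -- z = 1
    obtain ⟨g, hg, hgx⟩ := hinv x (by rw [hxx, one_smul]) hdet hns
    exact ⟨g, hg, hgx ▸ hnormR _ (htR 0)⟩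
  · -- z = -1
    have hw0 : w ≠ 0 := by
      rintro rfl
      rw [mul_zero] at hww
      exact neg_ne_zero.mpr one_ne_zero hww.symm
    have hx'val : ((zw * x : GL (Fin 4) F) : Matrix (Fin 4) (Fin 4) F) =
        w • (x : Matrix (Fin 4) (Fin 4) F) := by
      rw [Units.val_mul, hzw, smul_mul_assoc, one_mul]
    have hx'sq : ((zw * x : GL (Fin 4) F) : Matrix (Fin 4) (Fin 4) F) *
        ((zw * x : GL (Fin 4) F) : Matrix (Fin 4) (Fin 4) F) = 1 := by
      rw [hx'val, smul_mul_assoc, mul_smul_comm, smul_smul, hxx, smul_smul, hww]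
      simp
    have hx'det : ((zw * x : GL (Fin 4) F) : Matrix (Fin 4) (Fin 4) F).det = 1 := by
      rw [hx'val, Matrix.det_smul, hdet]
      have : w ^ 4 = 1 := by
        have : w ^ 4 = (w * w) * (w * w) := by ring
        rw [this, hww]; norm_num
      simpa using this
    have hx'ns : ∀ c : F, ((zw * x : GL (Fin 4) F) : Matrix (Fin 4) (Fin 4) F) ≠ c • 1 := by
      intro c hc
      rw [hx'val] at hc
      apply hns (w⁻¹ * c)
      have := congrArg (fun M => w⁻¹ • M) hc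
      simp only [smul_smul, inv_mul_cancel₀ hw0, one_smul] at this
      exact this
    obtain ⟨g, hg, hgx⟩ := hinv (zw * x) hx'sq hx'det hx'ns
    refine ⟨g, hg, ?_⟩
    have h1 : g⁻¹ * (zw * x) * g = zw * (g⁻¹ * x * g) := by
      calc g⁻¹ * (zw * x) * g = (g⁻¹ * zw) * x * g := by group
        _ = (zw * g⁻¹) * x * g := by rw [hscalcomm zw w hzw g⁻¹]
        _ = zw * (g⁻¹ * x * g) := by group
    have h3 : g⁻¹ * x * g = zw⁻¹ * t 0 := by
      rw [← hgx, h1]; group
    rw [h3]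
    exact hnormR _ (R.mul_mem (R.inv_mem hzwR) (htR 0))
  · -- z * z = -1
    by_cases hsq : ∃ c : F, c * c = z
    · obtain ⟨c, hc⟩ := hsq
      have hc0 : c ≠ 0 := by
        rintro rfl
        rw [mul_zero] at hc
        rw [← hc, mul_zero] at hzz
        exact neg_ne_zero.mpr one_ne_zero hzz.symm
      have hcc1 : (c • (1 : Matrix (Fin 4) (Fin 4) F)) * (c⁻¹ • (1 : Matrix (Fin 4) (Fin 4) F)) = 1 := by
        rw [smul_mul_assoc, mul_smul_comm, smul_smul, mul_one, mul_inv_cancel₀ hc0, one_smul]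
      have hcc2 : (c⁻¹ • (1 : Matrix (Fin 4) (Fin 4) F)) * (c • (1 : Matrix (Fin 4) (Fin 4) F)) = 1 := by
        rw [smul_mul_assoc, mul_smul_comm, smul_smul, mul_one, inv_mul_cancel₀ hc0, one_smul]
      set cG : GL (Fin 4) F := ⟨c • 1, c⁻¹ • 1, hcc1, hcc2⟩ with hcG
      have hcGval : (cG : Matrix (Fin 4) (Fin 4) F) = c • 1 := rfl
      have hcGinv : ((cG⁻¹ : GL (Fin 4) F) : Matrix (Fin 4) (Fin 4) F) = c⁻¹ • 1 := rfl
      have hx'val : ((cG⁻¹ * x : GL (Fin 4) F) : Matrix (Fin 4) (Fin 4) F) =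
          c⁻¹ • (x : Matrix (Fin 4) (Fin 4) F) := by
        rw [Units.val_mul, hcGinv, smul_mul_assoc, one_mul]
      have hx'sq : ((cG⁻¹ * x : GL (Fin 4) F) : Matrix (Fin 4) (Fin 4) F) *
          ((cG⁻¹ * x : GL (Fin 4) F) : Matrix (Fin 4) (Fin 4) F) = 1 := by
        rw [hx'val, smul_mul_assoc, mul_smul_comm, smul_smul, hxx, smul_smul, ← hc]
        have : c⁻¹ * c⁻¹ * (c * c) = 1 := by field_simp
        rw [this, one_smul]
      have hx'det : ((cG⁻¹ * x : GL (Fin 4) F) : Matrix (Fin 4) (Fin 4) F).det = -1 := by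
        rw [hx'val, Matrix.det_smul, hdet]
        have h4 : c⁻¹ ^ 4 = -1 := by
          have e1 : c ^ 4 = -1 := by
            have : c ^ 4 = (c * c) * (c * c) := by ring
            rw [this, hc, hzz]
          rw [inv_pow, e1]; norm_num
        simpa using h4
      obtain ⟨ρ, hρN, hρsq, hρtr⟩ := s60_refl h2 R w hG
      obtain ⟨g, hg, k, hk, e⟩ := hcls (cG⁻¹ * x) hx'sq
      have hdk : (Dk F k).det = -1 := by rw [← e, helper15_s60_conj_det, hx'det]
      have htk : Matrix.trace ((cG⁻¹ * x : GL (Fin 4) F) : Matrix (Fin 4) (Fin 4) F) =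
          4 - 2 * (k : F) := by
        rw [← helper15_s60_Dk_trace k hk, ← e, helper15_s60_conj_trace]
      rw [helper15_s60_Dk_det k hk] at hdk
      have hfin : ∀ n : GL (Fin 4) F, n ∈ subgroupNormalizer R →
          (∃ g' ∈ specialLinear (Fin 4) F, g'⁻¹ * (cG⁻¹ * x) * g' = n) →
          ∃ g ∈ specialLinear (Fin 4) F, g⁻¹ * x * g ∈ subgroupNormalizer R := by
        rintro n hnN ⟨g', hg', hg'x⟩
        refine ⟨g', hg', ?_⟩
        have h1 : g'⁻¹ * x * g' = cG * (g'⁻¹ * (cG⁻¹ * x) * g') := by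
          calc g'⁻¹ * x * g' = (g'⁻¹ * cG) * (cG⁻¹ * x) * g' := by group
            _ = (cG * g'⁻¹) * (cG⁻¹ * x) * g' := by rw [hscalcomm cG c hcGval g'⁻¹]
            _ = cG * (g'⁻¹ * (cG⁻¹ * x) * g') := by group
        rw [h1, hg'x]
        exact (subgroupNormalizer R).mul_mem (hscal cG c hcGval) hnN
      have hzwzw : ((zw * zw : GL (Fin 4) F) : Matrix (Fin 4) (Fin 4) F) = -1 := by
        rw [Units.val_mul, hzw, smul_mul_assoc, mul_smul_comm, smul_smul, mul_one, hww]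
        simp
      interval_cases k
      · exact absurd (by simpa using hdk.symm) hm11
      · -- k = 1 : trace 2, conjugate to ρ
        apply hfin ρ hρN
        apply helper15_s60_conj_of_trace hp5 h2 hcls _ ρ hx'sq hρsq
        rw [htk, hρtr]; norm_num
      · exact absurd (by simpa using hdk.symm) hm11
      · -- k = 3 : trace -2, conjugate to -ρ
        have hnval : ((zw * zw * ρ : GL (Fin 4) F) : Matrix (Fin 4) (Fin 4) F) =
            -(ρ : Matrix (Fin 4) (Fin 4) F) := by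
          rw [Units.val_mul, hzwzw, neg_mul, one_mul]
        apply hfin (zw * zw * ρ)
          ((subgroupNormalizer R).mul_mem (hnormR _ (R.mul_mem hzwR hzwR)) hρN)
        apply helper15_s60_conj_of_trace hp5 h2 hcls _ (zw * zw * ρ) hx'sq
        · rw [hnval, neg_mul_neg, hρsq]
        · rw [htk, hnval, Matrix.trace_neg, hρtr]; norm_num
      · exact absurd (by rw [show ((-1 : F)) ^ 4 = 1 by norm_num] at hdk; exact hdk.symm) hm11
    · exfalso
      have hsq' : ∀ c : F, c * c ≠ z := fun c hc => hsq ⟨c, hc⟩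
      have h := hnosq (x : Matrix (Fin 4) (Fin 4) F) z hsq' hxx
      rw [hdet, pow_two, hzz] at h
      exact hm11 h.symm

end Cfsg.Agent.Lib.helper89.S60
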