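import Mathlib
import Cfsg.Agent.Lib.helper89.S60Defs
import Cfsg.Agent.Lib.helper58.S60CLS2
import Cfsg.Agent.Lib.helper98.S60NOSQ
import Cfsg.Agent.Lib.helper15.S60REFL
import Cfsg.Agent.Lib.helper15.S60S2core

set_option autoImplicit false

namespace Cfsg.Agent.Lib.helper89.S60

open Matrix Cfsg Cfsg.Geo

/-- S2 (L; uses CLS2 NOSQ REFL). -/
theorem s60_suff_two {F : Type*} [Field F] [Fintype F] {p : ℕ} [Fact p.Prime] [CharP F p] (hp4 : p % 4 = 1)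
    (h2 : (2 : F) ≠ 0) (R : Subgroup (GL (Fin 4) F)) (w : F) (hG : Good R w)
    (x : GL (Fin 4) F) (hx : x ∈ specialLinear (Fin 4) F) (z : F)
    (hz : (x : Matrix (Fin 4) (Fin 4) F) ^ 2 = z • (1 : Matrix (Fin 4) (Fin 4) F)) (hns : ∀ z : F, (x : Matrix (Fin 4) (Fin 4) F) ≠ z • (1 : Matrix (Fin 4) (Fin 4) F)) :
    ∃ g ∈ specialLinear (Fin 4) F, g⁻¹ * x * g ∈ subgroupNormalizer R :=
  helper15_s60_suff_two_core hp4 h2 R w hG (fun y hy => s60_invol_class h2 y hy)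
    (fun y c hc hy => s60_nosq y c hc hy) x hx z hz hns

end Cfsg.Agent.Lib.helper89.S60
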