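/-
S4073 piece CONV (`sn_of_psl2`), core: the assembly with the two pieces DICKSON and CT-A as
hypotheses (CT-B, CT-DATA, DIH, A4, TRANSPORT are imported).
-/
import Mathlib
import Cfsg.Agent.Lib.helper69.SNDefs
import Cfsg.Agent.Lib.helper31.SNG_CTB
import Cfsg.Agent.Lib.helper32.SNG_CT_DATA
import Cfsg.Agent.Lib.helper26.SNG_DIH
import Cfsg.Agent.Lib.helper61.SNG_A4
import Cfsg.Agent.Lib.helper48.SNG_TRANSPORT

set_option autoImplicit false

namespace Cfsg.Agent.Lib.helper15.SNG

open Cfsg.Agent.Lib.helper69.SNG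

universe u

/-- The order of a Sylow 2-subgroup of a group of order `2ⁿ(2ⁿ-1)(2ⁿ+1)`. -/
theorem helper15_sylow2_card {G : Type u} [Group G] [Finite G] {n : ℕ} (hn : 1 ≤ n)
    (hcard : Nat.card G = 2 ^ n * (2 ^ n - 1) * (2 ^ n + 1)) (P : Sylow 2 G) :
    Nat.card P = 2 ^ n := by
  haveI : Fact (Nat.Prime 2) := ⟨Nat.prime_two⟩
  have h1 : Nat.card P = 2 ^ (Nat.card G).factorization 2 := Sylow.card_eq_multiplicity P
  rw [h1]
  congr 1
  rw [hcard]
  obtain ⟨m, rfl⟩ : ∃ m, n = m + 1 := ⟨n - 1, by omega⟩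
  have ht : 1 ≤ 2 ^ m := Nat.one_le_two_pow
  have hs : 2 ^ (m + 1) = 2 * 2 ^ m := by rw [pow_succ, mul_comm]
  have hodd1 : ¬ 2 ∣ 2 ^ (m + 1) - 1 := by
    rw [hs]
    omega
  have hodd2 : ¬ 2 ∣ 2 ^ (m + 1) + 1 := by
    rw [hs]
    omega
  have hne1 : 2 ^ (m + 1) - 1 ≠ 0 := by
    rw [hs]
    omega
  have hne2 : 2 ^ (m + 1) + 1 ≠ 0 := by omega
  have hne0 : (2 : ℕ) ^ (m + 1) ≠ 0 := by positivity
  rw [Nat.factorization_mul (mul_ne_zero hne0 hne1) hne2, Nat.factorization_mul hne0 hne1,
    Finsupp.add_apply, Finsupp.add_apply, Nat.factorization_eq_zero_of_not_dvd hodd1,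
    Nat.factorization_eq_zero_of_not_dvd hodd2, Nat.Prime.factorization_pow Nat.prime_two,
    Finsupp.single_eq_same]

/-- A group of order at most three is abelian. -/
theorem helper15_comm_of_card_le_three {X : Type u} [Group X] [Finite X] (h : Nat.card X ≤ 3) :
    IsMulCommutative X := by
  have hpos : 0 < Nat.card X := Nat.card_pos
  have h123 : Nat.card X = 1 ∨ Nat.card X = 2 ∨ Nat.card X = 3 := by omega
  rcases h123 with h1 | h2 | h3
  · have hsub : Subsingleton X := (Nat.card_eq_one_iff_unique.1 h1).1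
    exact ⟨⟨fun a b => Subsingleton.elim _ _⟩⟩
  · haveI : Fact (Nat.Prime 2) := ⟨Nat.prime_two⟩
    haveI := isCyclic_of_prime_card (α := X) h2
    exact IsCyclic.isMulCommutative
  · haveI : Fact (Nat.Prime 3) := ⟨Nat.prime_three⟩
    haveI := isCyclic_of_prime_card (α := X) h3
    exact IsCyclic.isMulCommutative

theorem helper15_sn_of_psl2_core {G : Type u} [Group G] [Finite G] [IsSimpleGroup G]
    (hna : ¬ IsMulCommutative G) {n : ℕ} (hn : 2 ≤ n) (hp : (2 ^ n - 1).Prime)
    (e : G ≃* Matrix.ProjectiveSpecialLinearGroup (Fin 2) (GaloisField 2 n))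
    (hDick : ∀ (K : Subgroup G), ¬ IsMulCommutative K →
      (∃ k : ℕ, Odd k ∧ Nonempty (K ≃* DihedralGroup k)) ∨
      (∃ (P : Sylow 2 G) (K' : Subgroup G),
          K' ≤ Subgroup.normalizer ((P : Subgroup G) : Set G) ∧ Nonempty (K ≃* K')) ∨
      Nonempty (K ≃* alternatingGroup (Fin 4)) ∨ Nonempty (K ≃* Equiv.Perm (Fin 4)) ∨
      Nonempty (K ≃* alternatingGroup (Fin 5)) ∨ Nat.card K = 6 ∨ K = ⊤)
    (hCTA : (∀ a b c : G, b ≠ 1 → Commute a b → Commute b c → Commute a c) →
      Nat.card G = 2 ^ n * (2 ^ n - 1) * (2 ^ n + 1) → ∀ P : Sylow 2 G,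
      Nat.card (Subgroup.normalizer ((P : Subgroup G) : Set G)) = 2 ^ n * (2 ^ n - 1) ∧
      IsMulCommutative P ∧
      ∀ u ∈ P, u ≠ 1 → ∀ g : G, Commute g u → g ∈ P) : SN G := by
  intro H hH
  by_contra hne
  have hHK : H ≤ Subgroup.normalizer (H : Set G) := Subgroup.le_normalizer
  have hKna : ¬ IsMulCommutative (Subgroup.normalizer (H : Set G)) := by
    intro hc
    apply hH
    rw [comm_iff] at hc ⊢
    intro a ha b hb
    exact hc a (hHK ha) b (hHK hb)
  obtain ⟨hCT, hcard⟩ := Cfsg.Agent.Lib.helper32.SNG.psl2_ct_card hn e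
  have hborel : ∀ P : Sylow 2 G,
      (∀ K : Subgroup G, K ≤ Subgroup.normalizer ((P : Subgroup G) : Set G) →
        ¬ IsMulCommutative K → K = Subgroup.normalizer ((P : Subgroup G) : Set G)) ∧
      (∀ x : G, x ^ 4 = 1 → x ^ 2 = 1) := by
    intro P
    obtain ⟨hNcard, hPc, hcent⟩ := hCTA hCT hcard P
    have hPcard : Nat.card P = 2 ^ n := helper15_sylow2_card (by omega) hcard P
    exact Cfsg.Agent.Lib.helper31.SNG.ct_sylow2_borel hn hp P hPcard hNcard hPc hcent
  have hbot : ∀ {D : Type} [Group D] (M : Subgroup D), M = ⊥ → IsMulCommutative M := by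
    intro D _ M hM
    rw [comm_iff]
    intro a ha b hb
    rw [hM, Subgroup.mem_bot] at ha hb
    rw [ha, hb]
  have key : H = Subgroup.normalizer (H : Set G) := by
    rcases hDick _ hKna with ⟨k, hk, ⟨ek⟩⟩ | ⟨P, K', hK'le, ⟨eK⟩⟩ | ⟨e4⟩ | ⟨eS4⟩ | ⟨e5⟩ | h6 | htop
    · exact Cfsg.Agent.Lib.helper48.SNG.normal_sub_transport _ H hHK le_rfl hH ek
        (fun M hM hMna => by
          haveI := hM
          exact Cfsg.Agent.Lib.helper26.SNG.dihedral_odd_normal k hk M hMna)
    · obtain ⟨hB1, -⟩ := hborel P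
      refine Cfsg.Agent.Lib.helper48.SNG.normal_sub_transport _ H hHK le_rfl hH eK ?_
      intro M _ hMna
      have h1 : ¬ IsMulCommutative (M.map K'.subtype) := by
        intro hc
        apply hMna
        rw [comm_iff] at hc ⊢
        intro a ha b hb
        have := hc (a : G) (Subgroup.mem_map_of_mem K'.subtype ha) (b : G)
          (Subgroup.mem_map_of_mem K'.subtype hb)
        exact Subtype.ext this
      have hle : M.map K'.subtype ≤ Subgroup.normalizer ((P : Subgroup G) : Set G) := by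
        rintro _ ⟨y, _, rfl⟩
        exact hK'le y.2
      have h2 := hB1 _ hle h1
      rw [eq_top_iff]
      intro x _
      have hx : (x : G) ∈ M.map K'.subtype := by
        rw [h2]
        exact hK'le x.2
      obtain ⟨y, hy, hyx⟩ := hx
      have hyx' : y = x := Subtype.ext hyx
      rw [← hyx']
      exact hy
    · obtain ⟨e4⟩ := e4
      exact Cfsg.Agent.Lib.helper48.SNG.normal_sub_transport _ H hHK le_rfl hH e4
        (fun M hM hMna => by
          haveI := hM
          exact Cfsg.Agent.Lib.helper61.SNG.a4_normal M hMna)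
    · exfalso
      obtain ⟨eS4⟩ := eS4
      haveI : Fact (Nat.Prime 2) := ⟨Nat.prime_two⟩
      obtain ⟨-, hB2⟩ := hborel (default : Sylow 2 G)
      have hc4 : (finRotate 4 : Equiv.Perm (Fin 4)) ^ 4 = 1 := by decide
      have hc2 : (finRotate 4 : Equiv.Perm (Fin 4)) ^ 2 ≠ 1 := by decide
      have hx4 : ((eS4.symm (finRotate 4) : Subgroup.normalizer (H : Set G)) : G) ^ 4 = 1 := by
        rw [← Subgroup.coe_pow, ← map_pow, hc4, map_one]
        rfl
      have hx2 := hB2 _ hx4
      apply hc2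
      have h1 : (eS4.symm (finRotate 4)) ^ 2 = 1 := by
        apply Subtype.ext
        rw [Subgroup.coe_pow]
        exact hx2
      rw [← map_pow] at h1
      have h2 := congrArg eS4 h1
      rw [MulEquiv.apply_symm_apply, map_one] at h2
      exact h2
    · obtain ⟨e5⟩ := e5
      refine Cfsg.Agent.Lib.helper48.SNG.normal_sub_transport _ H hHK le_rfl hH e5 ?_
      intro M hM hMna
      rcases hM.eq_bot_or_eq_top with h | h
      · exact absurd (hbot M h) hMna
      · exact h
    · exfalso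
      apply hH
      have hd : Nat.card H ∣ Nat.card (Subgroup.normalizer (H : Set G)) :=
        Subgroup.card_dvd_of_le hHK
      have hlt : Nat.card H ≠ Nat.card (Subgroup.normalizer (H : Set G)) := by
        intro h
        exact hne (Subgroup.eq_of_le_of_card_ge hHK h.ge).symm
      rw [h6] at hd hlt
      have hle : Nat.card H ≤ 6 := Nat.le_of_dvd (by norm_num) hd
      have h3 : Nat.card H ≤ 3 := by
        by_contra hgt
        have h456 : Nat.card H = 4 ∨ Nat.card H = 5 := by omega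
        rcases h456 with h4 | h5
        · rw [h4] at hd
          omega
        · rw [h5] at hd
          omega
      exact helper15_comm_of_card_le_three h3
    · have hHn : H.Normal := Subgroup.normalizer_eq_top_iff.1 htop
      rcases hHn.eq_bot_or_eq_top with h | h
      · exfalso
        apply hH
        rw [comm_iff]
        intro a ha b hb
        rw [h, Subgroup.mem_bot] at ha hb
        rw [ha, hb]
      · rw [htop, h]
  exact hne key.symm

end Cfsg.Agent.Lib.helper15.SNG
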