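/-
S4073 piece CONV (`sn_of_psl2`): assembly of DICKSON, CT-DATA, CT-A, CT-B, DIH, A4, TRANSPORT.
-/
import Mathlib
import Cfsg.Agent.Lib.helper69.SNDefs
import Cfsg.Agent.Lib.helper15.SNG_CONVcore
import Cfsg.Agent.Lib.helper30.SNG_CTA
import Cfsg.Agent.Lib.helper90.SNG_DICKSON

set_option autoImplicit false

namespace Cfsg.Agent.Lib.helper15.SNG

open Cfsg.Agent.Lib.helper69.SNG

universe u v

/-- **[CONV]** (assembly: DICKSON, CT-DATA, CT-A, CT-B, DIH, A4, TRANSPORT) -/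
theorem sn_of_psl2 {G : Type u} [Group G] [Finite G] [IsSimpleGroup G]
    (hna : ¬ IsMulCommutative G) {n : ℕ} (hn : 2 ≤ n) (hp : (2 ^ n - 1).Prime)
    (e : G ≃* Matrix.ProjectiveSpecialLinearGroup (Fin 2) (GaloisField 2 n)) : SN G := by
  exact helper15_sn_of_psl2_core hna hn hp e
    (fun K hK => Cfsg.Agent.Lib.helper90.SNG.psl2_subgroup_types hn hp e K hK)
    (fun hCT hcard P => Cfsg.Agent.Lib.helper30.SNG.ct_sylow2_normalizer hna hCT hn hp hcard P)

end Cfsg.Agent.Lib.helper15.SNG
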