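/-
S4073 piece P2N-SOLV (insurance copy, prefixed name): a solvable `SN`-group with a non-abelian
Sylow 2-subgroup `S` has a normal subgroup `O` of odd order with `O ⊔ S = ⊤`.
-/
import Mathlib
import Cfsg.Agent.Lib.helper69.SNDefs
import Cfsg.Agent.Lib.helper69.SNStruct

set_option autoImplicit false

namespace Cfsg.Agent.Lib.helper15.SNG

open Cfsg.Agent.Lib.helper69.SNG

universe u

theorem helper15_sn_solvable_two_nilpotent {K : Type u} [Group K] [Finite K] (h : SN K)
    (hs : Group.IsSolvable K) (S : Sylow 2 K) (hS : ¬ IsMulCommutative S) :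
    ∃ O : Subgroup K, O.Normal ∧ Odd (Nat.card O) ∧ O ⊔ (S : Subgroup K) = ⊤ := by
  have hS' : ¬ IsMulCommutative ((S : Subgroup K)) := hS
  have hna : ¬ IsMulCommutative K := by
    intro hc
    apply hS'
    rw [comm_iff_top] at hc
    rw [comm_iff]
    intro a _ b _
    exact hc a b
  obtain ⟨A, hAn, hAc, hAi⟩ := sn_solvable_index h hs hna
  have hAc' := (comm_iff A).1 hAc
  -- the index is 2
  have hA2 : A.index = 2 := by
    by_contra hne
    apply hS'
    rw [comm_iff]
    have hle : ∀ s ∈ (S : Subgroup K), s ∈ A := by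
      intro s hs'
      obtain ⟨k, hk⟩ := S.isPGroup' ⟨s, hs'⟩
      have hk' : s ^ 2 ^ k = 1 := by
        have := congrArg Subtype.val hk
        simpa using this
      have h1 : ((QuotientGroup.mk' A) s) ^ 2 ^ k = 1 := by
        rw [← map_pow, hk', map_one]
      have h2 : ((QuotientGroup.mk' A) s) ^ A.index = 1 := by
        have hcard : Nat.card (K ⧸ A) = A.index := rfl
        rw [← hcard]
        exact pow_card_eq_one'
      have hd1 : orderOf ((QuotientGroup.mk' A) s) ∣ 2 ^ k := orderOf_dvd_of_pow_eq_one h1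
      have hd2 : orderOf ((QuotientGroup.mk' A) s) ∣ A.index := orderOf_dvd_of_pow_eq_one h2
      have hcop : Nat.Coprime (2 ^ k) A.index := by
        apply Nat.Coprime.pow_left
        rw [Nat.coprime_primes Nat.prime_two hAi]
        exact fun h => hne h.symm
      have h3 : orderOf ((QuotientGroup.mk' A) s) = 1 :=
        Nat.eq_one_of_dvd_coprimes hcop hd1 hd2
      exact (QuotientGroup.eq_one_iff s).1 (orderOf_eq_one_iff.1 h3)
    intro a ha b hb
    exact hAc' a (hle a ha) b (hle b hb)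
  -- the odd part of `A`
  obtain ⟨e, m, hm, hcard⟩ := Nat.exists_eq_two_pow_mul_odd (n := Nat.card A) Nat.card_pos.ne'
  let O : Subgroup K :=
    { carrier := {a | a ∈ A ∧ a ^ m = 1}
      mul_mem' := by
        rintro a b ⟨ha, ha'⟩ ⟨hb, hb'⟩
        refine ⟨A.mul_mem ha hb, ?_⟩
        have hc : Commute a b := hAc' a ha b hb
        rw [hc.mul_pow, ha', hb', one_mul]
      one_mem' := ⟨A.one_mem, one_pow m⟩
      inv_mem' := by
        rintro a ⟨ha, ha'⟩
        exact ⟨A.inv_mem ha, by rw [inv_pow, ha', inv_one]⟩ }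
  have hOA : O ≤ A := fun a ha => ha.1
  have hOn : O.Normal := by
    constructor
    intro n hn g
    refine ⟨hAn.conj_mem n hn.1 g, ?_⟩
    rw [conj_pow, hn.2, mul_one, mul_inv_cancel]
  have hOodd : Odd (Nat.card O) := by
    by_contra hodd
    rw [Nat.not_odd_iff_even] at hodd
    have h2 : 2 ∣ Nat.card O := hodd.two_dvd
    haveI : Fact (Nat.Prime 2) := ⟨Nat.prime_two⟩
    obtain ⟨x, hx⟩ := exists_prime_orderOf_dvd_card' (G := O) 2 h2
    have hx1 : orderOf (x : K) = 2 := by
      rw [Subgroup.orderOf_coe]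
      exact hx
    have hx2 : orderOf (x : K) ∣ m := orderOf_dvd_of_pow_eq_one x.2.2
    rw [hx1] at hx2
    exact (Nat.not_even_iff_odd.2 hm) (even_iff_two_dvd.2 hx2)
  refine ⟨O, hOn, hOodd, ?_⟩
  -- the index of `O` is a power of two
  have hrel : ∃ j : ℕ, O.relIndex A = 2 ^ j := by
    haveI : Fact (Nat.Prime 2) := ⟨Nat.prime_two⟩
    haveI : (O.subgroupOf A).Normal := Subgroup.normal_subgroupOf
    have hpg : IsPGroup 2 (A ⧸ O.subgroupOf A) := by
      intro q
      obtain ⟨a, rfl⟩ := QuotientGroup.mk'_surjective (O.subgroupOf A) q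
      refine ⟨e, ?_⟩
      rw [← map_pow]
      apply (QuotientGroup.eq_one_iff _).2
      rw [Subgroup.mem_subgroupOf]
      refine ⟨(a ^ 2 ^ e).2, ?_⟩
      have h1 : (a ^ 2 ^ e) ^ m = 1 := by
        rw [← pow_mul, ← hcard]
        exact pow_card_eq_one'
      have h2 := congrArg Subtype.val h1
      simpa using h2
    obtain ⟨j, hj⟩ := IsPGroup.iff_card.1 hpg
    exact ⟨j, hj⟩
  obtain ⟨j, hj⟩ := hrel
  have hOidx : O.index = 2 ^ (j + 1) := by
    rw [← Subgroup.relIndex_mul_index hOA, hj, hA2, pow_succ]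
  have hJ1 : (O ⊔ (S : Subgroup K)).index ∣ 2 ^ (j + 1) := by
    rw [← hOidx]
    exact Subgroup.index_dvd_of_le le_sup_left
  have hJ2 : (O ⊔ (S : Subgroup K)).index ∣ (S : Subgroup K).index :=
    Subgroup.index_dvd_of_le le_sup_right
  haveI : Fact (Nat.Prime 2) := ⟨Nat.prime_two⟩
  have hSodd : ¬ 2 ∣ (S : Subgroup K).index := S.not_dvd_index
  obtain ⟨i, _, hi⟩ := (Nat.dvd_prime_pow Nat.prime_two).1 hJ1
  have hi0 : i = 0 := by
    by_contra hne
    apply hSodd
    have : 2 ∣ (O ⊔ (S : Subgroup K)).index := by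
      rw [hi]
      exact dvd_pow_self 2 hne
    exact this.trans hJ2
  rw [hi0, pow_zero] at hi
  exact Subgroup.index_eq_one.1 hi

end Cfsg.Agent.Lib.helper15.SNG
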