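/-
S4073 piece P2N (`sn_proper_two_nilpotent`), core: the assembly with the two pieces P2N-SOLV and
P2N-NONSOLV as hypotheses.
-/
import Mathlib
import Cfsg.Agent.Lib.helper69.SNDefs

set_option autoImplicit false

namespace Cfsg.Agent.Lib.helper15.SNG

open Cfsg.Agent.Lib.helper69.SNG

universe u

theorem helper15_p2n_core {G : Type u} [Group G] [Finite G] (h : SN G) (K : Subgroup G)
    (T : Sylow 2 G) (hTK : (T : Subgroup G) ≤ K) (hT : ¬ IsMulCommutative T)
    (hind : ∀ (N : Subgroup K) [N.Normal], IsSimpleGroup (K ⧸ N) → ¬ IsMulCommutative (K ⧸ N) →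
      ∀ Q : Sylow 2 (K ⧸ N), IsMulCommutative Q)
    (hsolv : ∀ {K : Type u} [Group K] [Finite K] (_ : SN K)
      (_ : Group.IsSolvable K) (S : Sylow 2 K) (_ : ¬ IsMulCommutative S),
      ∃ O : Subgroup K, O.Normal ∧ Odd (Nat.card O) ∧ O ⊔ (S : Subgroup K) = ⊤)
    (hnonsolv : ∀ {K : Type u} [Group K] [Finite K] (_ : SN K)
      (_ : ¬ Group.IsSolvable K) (S : Sylow 2 K) (_ : ¬ IsMulCommutative S)
      (_ : ∀ (N : Subgroup K) [N.Normal], IsSimpleGroup (K ⧸ N) → ¬ IsMulCommutative (K ⧸ N) →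
        ∀ Q : Sylow 2 (K ⧸ N), IsMulCommutative Q), False) :
    ∃ O : Subgroup G, O ≤ K ∧ K ≤ Subgroup.normalizer (O : Set G) ∧ Odd (Nat.card O) ∧
      O ⊔ (T : Subgroup G) = K := by
  have hK : SN K := h.subgroup K
  have hScoe : ((T.subtype hTK : Sylow 2 K) : Subgroup K) = (T : Subgroup G).subgroupOf K :=
    Sylow.coe_subtype ..
  have hS : ¬ IsMulCommutative (T.subtype hTK : Sylow 2 K) := by
    intro hc
    apply hT
    have hc' : IsMulCommutative ((T.subtype hTK : Sylow 2 K) : Subgroup K) := hc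
    rw [comm_iff] at hc'
    have hgoal : IsMulCommutative (T : Subgroup G) := by
      rw [comm_iff]
      intro a ha b hb
      have ha' : (⟨a, hTK ha⟩ : K) ∈ ((T.subtype hTK : Sylow 2 K) : Subgroup K) := by
        rw [hScoe]
        exact Subgroup.mem_subgroupOf.2 ha
      have hb' : (⟨b, hTK hb⟩ : K) ∈ ((T.subtype hTK : Sylow 2 K) : Subgroup K) := by
        rw [hScoe]
        exact Subgroup.mem_subgroupOf.2 hb
      have := hc' _ ha' _ hb'
      exact congrArg Subtype.val this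
    exact hgoal
  by_cases hs : Group.IsSolvable K
  · obtain ⟨O', hO'n, hO'odd, hO'sup⟩ := hsolv hK hs (T.subtype hTK) hS
    refine ⟨O'.map K.subtype, ?_, ?_, ?_, ?_⟩
    · rintro _ ⟨y, _, rfl⟩
      exact y.2
    · intro k hk
      rw [Subgroup.mem_normalizer_iff]
      intro g
      constructor
      · rintro ⟨y, hy, rfl⟩
        exact ⟨⟨k, hk⟩ * y * ⟨k, hk⟩⁻¹, hO'n.conj_mem y hy ⟨k, hk⟩, rfl⟩
      · rintro ⟨y, hy, hyg⟩
        have hyg' : (y : G) = k * g * k⁻¹ := hyg
        have hg : g = k⁻¹ * (y : G) * k := by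
          rw [hyg']
          group
        refine ⟨⟨k, hk⟩⁻¹ * y * ⟨k, hk⟩, ?_, ?_⟩
        · have := hO'n.conj_mem y hy (⟨k, hk⟩⁻¹)
          rwa [inv_inv] at this
        · rw [hg]
          rfl
    · have : Nat.card (O'.map K.subtype) = Nat.card O' :=
        Nat.card_congr (O'.equivMapOfInjective K.subtype K.subtype_injective).symm.toEquiv
      rw [this]
      exact hO'odd
    · have h1 : (O' ⊔ ((T.subtype hTK : Sylow 2 K) : Subgroup K)).map K.subtype = K := by
        rw [hO'sup, ← MonoidHom.range_eq_map, Subgroup.range_subtype]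
      rw [Subgroup.map_sup, hScoe, Subgroup.map_subgroupOf_eq_of_le hTK] at h1
      exact h1
  · exact (hnonsolv hK hs (T.subtype hTK) hS hind).elim

end Cfsg.Agent.Lib.helper15.SNG
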