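/-
S4073 piece P2N (`sn_proper_two_nilpotent`): assembly of P2N-SOLV and P2N-NONSOLV applied to
the group `↥K`.
-/
import Mathlib
import Cfsg.Agent.Lib.helper69.SNDefs
import Cfsg.Agent.Lib.helper15.SNG_P2Ncore
import Cfsg.Agent.Lib.helper15.SNG_P2N_SOLV
import Cfsg.Agent.Lib.helper90.SNG_P2N_NONSOLV

set_option autoImplicit false

namespace Cfsg.Agent.Lib.helper15.SNG

open Cfsg.Agent.Lib.helper69.SNG

universe u v

/-- **[P2N]** (assembly of P2N-SOLV, P2N-NONSOLV applied to the group `↥K`) -/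
theorem sn_proper_two_nilpotent {G : Type u} [Group G] [Finite G] (h : SN G) (K : Subgroup G)
    (T : Sylow 2 G) (hTK : (T : Subgroup G) ≤ K) (hT : ¬ IsMulCommutative T)
    (hind : ∀ (N : Subgroup K) [N.Normal], IsSimpleGroup (K ⧸ N) → ¬ IsMulCommutative (K ⧸ N) →
      ∀ Q : Sylow 2 (K ⧸ N), IsMulCommutative Q) :
    ∃ O : Subgroup G, O ≤ K ∧ K ≤ Subgroup.normalizer (O : Set G) ∧ Odd (Nat.card O) ∧
      O ⊔ (T : Subgroup G) = K := by
  exact helper15_p2n_core h K T hTK hT hind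
    (fun h hs S hS => helper15_sn_solvable_two_nilpotent h hs S hS)
    (fun h hs S hS hind => Cfsg.Agent.Lib.helper90.SNG.sn_nonsolvable_sylow h hs S hS hind)

end Cfsg.Agent.Lib.helper15.SNG
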