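import Mathlib
import Cfsg.Prelude.Def_Classical
import Cfsg.Prelude.Def_GeometricClasses
import Cfsg.Agent.Lib.helper37.FeEVEN

/-! S5977/S5978 block [A] (architect helper59), piece EVENCARD (`sfk_even_card`): from the landed
`fe_even` with `W = ⊤`. -/

set_option autoImplicit false

namespace Cfsg.Agent.Lib.helper59.Sfk

open Matrix Cfsg.Geo

/-- EVENCARD (S; from the landed `fe_even` of block B with `W = ⊤`). -/
theorem sfk_even_card {F : Type*} [Field F] {ι : Type} [Fintype ι] [DecidableEq ι]
    (K : Subalgebra F (Matrix ι ι F)) (hK : IsFieldSubalgebra 2 K) : Even (Fintype.card ι) := by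
  have h := Cfsg.Agent.Lib.helper96.FE.fe_even K hK ⊤ (fun _ _ _ _ => Submodule.mem_top)
  rwa [finrank_top, Module.finrank_fintype_fun_eq_card] at h

end Cfsg.Agent.Lib.helper59.Sfk
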