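import Mathlib
import Cfsg.Prelude.Def_Solvable
import Cfsg.Agent.Lib.helper84.Frobenius
import Cfsg.Agent.Lib.helper15.RegNormal
import Cfsg.Agent.Lib.helper15.Jordan

set_option autoImplicit false

/-!
Burnside's theorem on minimal normal subgroups of doubly transitive groups, for faithful actions.
-/

namespace Cfsg.Agent.Lib.helper15.Socle2T

open MulAction
open scoped Pointwise

universe u v

variable {G : Type u} [Group G] {X : Type v} [MulAction G X]

/-- The regular case: a regular normal subgroup of a doubly transitive group is elementary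
abelian. -/
theorem regular_case [Finite X] [FaithfulSMul G X] (h2 : IsMultiplyPretransitive G X 2)
    (N : Subgroup G) [N.Normal] (hN : N ≠ ⊥) (hreg : ∀ a : X, stabilizer N a = ⊥) :
    IsMulCommutative N ∧ ∃ p : ℕ, p.Prime ∧ ∀ n ∈ N, n ^ p = 1 := by
  classical
  have hfinG : Finite G := Finite.of_injective _ (MulAction.toPerm_injective (α := G) (β := X))
  have h2e : ∀ (a b c d : X), a ≠ b → c ≠ d → ∃ g : G, g • a = c ∧ g • b = d :=
    fun a b c d h h' => is_two_pretransitive_iff.mp h2 h h'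
  obtain ⟨n₀, hn₀N, hn₀⟩ : ∃ n₀ ∈ N, n₀ ≠ 1 := by
    by_contra hno
    push Not at hno
    exact hN ((Subgroup.eq_bot_iff_forall N).mpr hno)
  obtain ⟨a, -⟩ : ∃ a : X, n₀ • a ≠ a := by
    by_contra hno
    push Not at hno
    exact hn₀ (FaithfulSMul.eq_of_smul_eq_smul (α := X) (fun x => by rw [hno x, one_smul]))
  have hinj := RegNormal.inj_of_reg N hreg a
  have hmove : ∀ n ∈ N, n ≠ 1 → n • a ≠ a := fun n hn h1 h =>
    h1 (hinj n 1 hn N.one_mem (by rw [h, one_smul]))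
  have hconj : ∀ n ∈ N, n ≠ 1 → ∀ n' ∈ N, n' ≠ 1 → ∃ g : G, g * n * g⁻¹ = n' := by
    intro n hn h1 n' hn' h1'
    obtain ⟨g, hga, hgb⟩ := h2e a (n • a) a (n' • a)
      (hmove n hn h1).symm (hmove n' hn' h1').symm
    refine ⟨g, hinj _ _ (Subgroup.Normal.conj_mem inferInstance n hn g) hn' ?_⟩
    have hga' : g⁻¹ • a = a := by rw [inv_smul_eq_iff, hga]
    rw [mul_smul, mul_smul, hga', hgb]
  have hord : orderOf n₀ ≠ 1 := by rwa [Ne, orderOf_eq_one_iff]
  obtain ⟨p, hp, hpd⟩ := Nat.exists_prime_and_dvd hord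
  have hpos : 0 < orderOf n₀ := orderOf_pos n₀
  have hn₁ord : orderOf (n₀ ^ (orderOf n₀ / p)) = p := orderOf_pow_orderOf_div hpos.ne' hpd
  have hn₁N : n₀ ^ (orderOf n₀ / p) ∈ N := N.pow_mem hn₀N _
  have hn₁1 : n₀ ^ (orderOf n₀ / p) ≠ 1 := by
    intro h
    rw [h, orderOf_one] at hn₁ord
    exact hp.one_lt.ne hn₁ord
  have hexp : ∀ n ∈ N, n ^ p = 1 := by
    intro n hn
    by_cases h1 : n = 1
    · rw [h1, one_pow]
    · obtain ⟨g, hg⟩ := hconj _ hn₁N hn₁1 n hn h1
      rw [← hg, conj_pow]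
      nth_rewrite 2 [← hn₁ord]
      rw [pow_orderOf_eq_one, mul_one, mul_inv_cancel]
  refine ⟨?_, p, hp, hexp⟩
  have hpf : Fact p.Prime := ⟨hp⟩
  have hpg : IsPGroup p N := fun n => ⟨1, by
    rw [pow_one]
    exact Subtype.ext (hexp n n.2)⟩
  have hnt : Nontrivial N := ⟨⟨⟨n₀, hn₀N⟩, 1, fun h => hn₀ (congrArg Subtype.val h)⟩⟩
  have hcnt : Nontrivial (Subgroup.center N) := hpg.center_nontrivial
  obtain ⟨z, hz⟩ := exists_ne (1 : Subgroup.center N)
  have hzc : ∀ m : N, m * (z : N) = (z : N) * m := fun m => (Subgroup.mem_center_iff.mp z.2 m)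
  have hz1 : ((z : N) : G) ≠ 1 := by
    intro h
    apply hz
    apply Subtype.ext
    apply Subtype.ext
    exact h
  rw [isMulCommutative_iff]
  intro x y
  by_cases hx : x = 1
  · rw [hx, one_mul, mul_one]
  · have hx1 : (x : G) ≠ 1 := fun h => hx (Subtype.ext h)
    obtain ⟨g, hg⟩ := hconj _ (z : N).2 hz1 x x.2 hx1
    have hy' : g⁻¹ * (y : G) * g ∈ N := by
      have := Subgroup.Normal.conj_mem (inferInstance : N.Normal) y y.2 g⁻¹
      rwa [inv_inv] at this
    have hc := congrArg Subtype.val (hzc ⟨g⁻¹ * (y : G) * g, hy'⟩)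
    have hc' : g⁻¹ * (y : G) * g * ((z : N) : G) = ((z : N) : G) * (g⁻¹ * (y : G) * g) := hc
    apply Subtype.ext
    change (x : G) * (y : G) = (y : G) * (x : G)
    rw [← hg]
    calc g * ((z : N) : G) * g⁻¹ * (y : G)
        = g * (((z : N) : G) * (g⁻¹ * (y : G) * g)) * g⁻¹ := by group
      _ = g * (g⁻¹ * (y : G) * g * ((z : N) : G)) * g⁻¹ := by rw [hc']
      _ = (y : G) * (g * ((z : N) : G) * g⁻¹) := by group

/-- The dilatation lemma: in a linear space whose lines are blocks of `N`, an element of `N`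
fixing two points fixes every point. -/
theorem dilatation (N : Subgroup G) (Lines : Set (Set X))
    (hblock : ∀ L ∈ Lines, ∀ n ∈ N, ∀ x ∈ L, n • x ∈ L → ∀ y ∈ L, n • y ∈ L)
    (hsub : ∀ L ∈ Lines, ∀ L' ∈ Lines, L ≠ L' → (L ∩ L').Subsingleton)
    (hex : ∀ x y : X, x ≠ y → ∃ L ∈ Lines, x ∈ L ∧ y ∈ L)
    (hne : ∀ L ∈ Lines, ∃ y, y ∉ L)
    (h : G) (hh : h ∈ N) (a x : X) (hax : a ≠ x) (ha : h • a = a) (hx : h • x = x) (z : X) :
    h • z = z := by
  have step1 : ∀ (a x : X), a ≠ x → h • a = a → h • x = x → ∀ L ∈ Lines, a ∈ L → x ∈ L →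
      ∀ y, y ∉ L → h • y = y := by
    intro a x hax ha hx L hL haL hxL y hy
    have hya : a ≠ y := fun h' => hy (h' ▸ haL)
    have hyx : x ≠ y := fun h' => hy (h' ▸ hxL)
    obtain ⟨L₁, hL₁, haL₁, hyL₁⟩ := hex a y hya
    obtain ⟨L₂, hL₂, hxL₂, hyL₂⟩ := hex x y hyx
    have hL₁L : L₁ ≠ L := fun h' => hy (h' ▸ hyL₁)
    have h12 : L₁ ≠ L₂ := by
      intro h'
      exact hax (hsub L₁ hL₁ L hL hL₁L ⟨haL₁, haL⟩ ⟨h' ▸ hxL₂, hxL⟩)
    have hy1 : h • y ∈ L₁ := hblock L₁ hL₁ h hh a haL₁ (by rw [ha]; exact haL₁) y hyL₁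
    have hy2 : h • y ∈ L₂ := hblock L₂ hL₂ h hh x hxL₂ (by rw [hx]; exact hxL₂) y hyL₂
    exact hsub L₁ hL₁ L₂ hL₂ h12 ⟨hy1, hy2⟩ ⟨hyL₁, hyL₂⟩
  obtain ⟨L₀, hL₀, haL₀, hxL₀⟩ := hex a x hax
  obtain ⟨y₀, hy₀⟩ := hne L₀ hL₀
  have hy₀fix : h • y₀ = y₀ := step1 a x hax ha hx L₀ hL₀ haL₀ hxL₀ y₀ hy₀
  by_cases hz : z ∈ L₀
  · by_cases hza : z = a
    · rw [hza, ha]
    · have hay₀ : a ≠ y₀ := fun h' => hy₀ (h' ▸ haL₀)
      obtain ⟨L₁, hL₁, haL₁, hyL₁⟩ := hex a y₀ hay₀
      have hL₁L : L₁ ≠ L₀ := fun h' => hy₀ (h' ▸ hyL₁)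
      have hzL₁ : z ∉ L₁ := by
        intro h'
        exact hza (hsub L₁ hL₁ L₀ hL₀ hL₁L ⟨h', hz⟩ ⟨haL₁, haL₀⟩)
      exact step1 a y₀ hay₀ ha hy₀fix L₁ hL₁ haL₁ hyL₁ z hzL₁
  · exact step1 a x hax ha hx L₀ hL₀ haL₀ hxL₀ z hz

/-- The non-regular case, first half: a non-regular minimal normal subgroup of a doubly
transitive group is primitive.  (Otherwise its two-point stabilisers are trivial by the
dilatation lemma and the Frobenius kernel is a smaller normal subgroup.) -/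
theorem primitive_case [Finite X] [FaithfulSMul G X] (h2 : IsMultiplyPretransitive G X 2)
    (N : Subgroup G) [N.Normal] (hN : N ≠ ⊥)
    (hmin : ∀ M : Subgroup G, M.Normal → M ≤ N → M = ⊥ ∨ M = N)
    (a : X) (t : G) (htN : t ∈ N) (ht1 : t ≠ 1) (hta : t • a = a) :
    IsPreprimitive N X := by
  classical
  have hfinG : Finite G := Finite.of_injective _ (MulAction.toPerm_injective (α := G) (β := X))
  have h2e : ∀ (a b c d : X), a ≠ b → c ≠ d → ∃ g : G, g • a = c ∧ g • b = d :=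
    fun a b c d h h' => is_two_pretransitive_iff.mp h2 h h'
  have hprimG : IsPreprimitive G X := isPreprimitive_of_is_two_pretransitive h2
  have hNtr : IsPretransitive N X := Jordan.trans_of_normal (X := X) N hN
  by_contra hnp
  let Blk : Set X → Prop := fun B => ∀ n ∈ N, ∀ x ∈ B, n • x ∈ B → ∀ y ∈ B, n • y ∈ B
  have hBlk_of : ∀ B : Set X, IsBlock N B → Blk B := by
    intro B hB n hn x hx hnx y hy
    rcases (isBlock_iff_smul_eq_or_disjoint.mp hB) ⟨n, hn⟩ with h | h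
    · rw [← h]
      exact Set.smul_mem_smul_set (a := (⟨n, hn⟩ : N)) hy
    · exfalso
      exact Set.disjoint_left.mp h (Set.smul_mem_smul_set (a := (⟨n, hn⟩ : N)) hx) hnx
  obtain ⟨B₀, hB₀, hB₀s, hB₀u⟩ : ∃ B : Set X, Blk B ∧ ¬ B.Subsingleton ∧ B ≠ Set.univ := by
    by_contra hno
    push Not at hno
    apply hnp
    exact
      { toIsPretransitive := hNtr
        isTrivialBlock_of_isBlock := fun {B} hB => by
          by_cases hs : B.Subsingleton
          · exact Or.inl hs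
          · exact Or.inr (hno B (hBlk_of B hB) (Set.not_subsingleton_iff.mp hs)) }
  obtain ⟨𝔅, ⟨h𝔅, h𝔅s, h𝔅u⟩, h𝔅min⟩ :=
    Set.exists_min_image {B : Set X | Blk B ∧ ¬ B.Subsingleton ∧ B ≠ Set.univ} Set.ncard
      (Set.toFinite _) ⟨B₀, hB₀, hB₀s, hB₀u⟩
  let Lines : Set (Set X) := {L | ∃ g : G, L = g • 𝔅}
  have hLblk : ∀ L ∈ Lines, Blk L := by
    rintro _ ⟨g, rfl⟩ n hn x hx hnx y hy
    rw [Set.mem_smul_set_iff_inv_smul_mem] at hx hnx hy ⊢
    have hn' : g⁻¹ * n * g ∈ N := by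
      have := Subgroup.Normal.conj_mem (inferInstance : N.Normal) n hn g⁻¹
      rwa [inv_inv] at this
    have key := h𝔅 (g⁻¹ * n * g) hn' (g⁻¹ • x) hx (by
      rw [mul_smul, mul_smul, smul_inv_smul]
      exact hnx) (g⁻¹ • y) hy
    rw [mul_smul, mul_smul, smul_inv_smul] at key
    exact key
  have hLncard : ∀ L ∈ Lines, L.ncard = 𝔅.ncard := by
    rintro _ ⟨g, rfl⟩
    exact Set.ncard_image_of_injective _ (MulAction.injective g)
  have hLu : ∀ L ∈ Lines, L ≠ Set.univ := by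
    rintro _ ⟨g, rfl⟩ h
    apply h𝔅u
    ext x
    simp only [Set.mem_univ, iff_true]
    have hx : g • x ∈ g • 𝔅 := by
      rw [h]
      trivial
    exact (Set.smul_mem_smul_set_iff).mp hx
  have hLsub : ∀ L ∈ Lines, ∀ L' ∈ Lines, L ≠ L' → (L ∩ L').Subsingleton := by
    intro L hL L' hL' hne
    by_contra hns
    have hblk : Blk (L ∩ L') := by
      intro n hn x hx hnx y hy
      exact ⟨hLblk L hL n hn x hx.1 hnx.1 y hy.1, hLblk L' hL' n hn x hx.2 hnx.2 y hy.2⟩
    have hu : L ∩ L' ≠ Set.univ := by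
      intro h
      apply hLu L hL
      rw [Set.eq_univ_iff_forall] at h ⊢
      exact fun x => (h x).1
    have hmin' := h𝔅min (L ∩ L') ⟨hblk, hns, hu⟩
    have e1 : L ∩ L' = L := Set.eq_of_subset_of_ncard_le Set.inter_subset_left (by
      rw [hLncard L hL]
      exact hmin') (Set.toFinite _)
    have e2 : L ∩ L' = L' := Set.eq_of_subset_of_ncard_le Set.inter_subset_right (by
      rw [hLncard L' hL']
      exact hmin') (Set.toFinite _)
    exact hne (e1.symm.trans e2)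
  have hLex : ∀ x y : X, x ≠ y → ∃ L ∈ Lines, x ∈ L ∧ y ∈ L := by
    intro x y hxy
    obtain ⟨u, hu, v, hv, huv⟩ : ∃ u ∈ 𝔅, ∃ v ∈ 𝔅, u ≠ v := by
      rw [Set.not_subsingleton_iff] at h𝔅s
      exact h𝔅s
    obtain ⟨g, hg1, hg2⟩ := h2e u v x y huv hxy
    exact ⟨g • 𝔅, ⟨g, rfl⟩, hg1 ▸ Set.smul_mem_smul_set hu, hg2 ▸ Set.smul_mem_smul_set hv⟩
  have hLne : ∀ L ∈ Lines, ∃ y, y ∉ L := fun L hL =>
    (Set.ne_univ_iff_exists_notMem L).mp (hLu L hL)
  have h2pt : ∀ h ∈ N, ∀ a x : X, a ≠ x → h • a = a → h • x = x → h = 1 := by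
    intro h hh a x hax ha hx
    apply FaithfulSMul.eq_of_smul_eq_smul (α := X)
    intro z
    rw [one_smul]
    exact dilatation N Lines hLblk hLsub hLex hLne h hh a x hax ha hx z
  have hTI : ∀ g : N, g ∉ stabilizer N a →
      stabilizer N a ⊓ (MulAut.conj g • stabilizer N a) = ⊥ := by
    intro g hg
    rw [Subgroup.eq_bot_iff_forall]
    intro x hx
    obtain ⟨hx1, hx2⟩ := Subgroup.mem_inf.mp hx
    rw [Cfsg.Agent.Lib.helper84.mem_conj_smul_iff] at hx2
    have e1 : (x : G) • a = a := hx1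
    have e2 : (x : G) • (g : G) • a = (g : G) • a := by
      have h' : ((g : G)⁻¹ * (x : G) * (g : G)) • a = a := hx2
      rw [mul_smul, mul_smul, inv_smul_eq_iff] at h'
      exact h'
    have hga : a ≠ (g : G) • a := fun h => hg h.symm
    exact Subtype.ext (h2pt x x.2 a _ hga e1 e2)
  obtain ⟨K, hKset, hKn, hKc⟩ :=
    Cfsg.Agent.Lib.helper84.frobenius_kernel_of_TI (stabilizer N a) hTI
  have hKmem : ∀ k : N, k ∈ K ↔ (k = 1 ∨ ∀ g : N, k ∉ MulAut.conj g • stabilizer N a) := by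
    intro k
    rw [← SetLike.mem_coe, hKset]
    rfl
  have hfpf : ∀ k : N, (∀ g : N, k ∉ MulAut.conj g • stabilizer N a) ↔
      ∀ x : X, (k : G) • x ≠ x := by
    intro k
    constructor
    · intro hk x hx
      obtain ⟨g, hg⟩ := exists_smul_eq N a x
      apply hk g
      rw [Cfsg.Agent.Lib.helper84.mem_conj_smul_iff]
      change ((g : G)⁻¹ * (k : G) * (g : G)) • a = a
      have hg' : (g : G) • a = x := hg
      rw [mul_smul, mul_smul, hg', hx, ← hg', inv_smul_smul]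
    · intro hk g hkg
      rw [Cfsg.Agent.Lib.helper84.mem_conj_smul_iff] at hkg
      have h' : ((g : G)⁻¹ * (k : G) * (g : G)) • a = a := hkg
      rw [mul_smul, mul_smul, inv_smul_eq_iff] at h'
      exact hk _ h'
  have hMn : (K.map N.subtype).Normal := by
    constructor
    intro n hn g
    obtain ⟨k, hk, rfl⟩ := hn
    have hkN : g * (k : G) * g⁻¹ ∈ N := Subgroup.Normal.conj_mem inferInstance _ k.2 g
    refine ⟨⟨g * (k : G) * g⁻¹, hkN⟩, ?_, rfl⟩
    have hk' : k ∈ K := hk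
    change (⟨g * (k : G) * g⁻¹, hkN⟩ : N) ∈ K
    rw [hKmem] at hk' ⊢
    rcases hk' with rfl | hk'
    · left
      apply Subtype.ext
      simp
    · right
      rw [hfpf] at hk' ⊢
      intro x hx
      apply hk' (g⁻¹ • x)
      have h' : (g * (k : G) * g⁻¹) • x = x := hx
      rw [mul_smul, mul_smul, ← eq_inv_smul_iff] at h'
      exact h'
  rcases hmin (K.map N.subtype) hMn (Subgroup.map_subtype_le K) with hbot | htop
  · have hK : K = ⊥ := (Subgroup.map_eq_bot_iff_of_injective K N.subtype_injective).mp hbot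
    rw [hK] at hKc
    have hH : stabilizer N a = ⊤ := Subgroup.isComplement'_bot_left.mp hKc
    obtain ⟨x, hx⟩ : ∃ x : X, t • x ≠ x := by
      by_contra hno
      push Not at hno
      exact ht1 (FaithfulSMul.eq_of_smul_eq_smul (α := X) (fun x => by rw [hno x, one_smul]))
    obtain ⟨n, hn⟩ := exists_smul_eq N a x
    have hn' : n ∈ stabilizer N a := by
      rw [hH]
      trivial
    have hna : n • a = a := hn'
    rw [hna] at hn
    rw [← hn] at hx
    exact hx hta
  · have hK : K = ⊤ := by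
      rw [eq_top_iff]
      intro n _
      have hn : (n : G) ∈ K.map N.subtype := by
        rw [htop]
        exact n.2
      obtain ⟨k, hk, hkn⟩ := hn
      have : k = n := Subtype.ext hkn
      rw [← this]
      exact hk
    rw [hK] at hKc
    have hH : stabilizer N a = ⊥ := Subgroup.isComplement'_top_left.mp hKc
    have ht : (⟨t, htN⟩ : N) ∈ stabilizer N a := hta
    rw [hH, Subgroup.mem_bot] at ht
    exact ht1 (congrArg Subtype.val ht)

/-- Elements of two commuting semiregular subgroups with the same effect on a point have the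
same order. -/
theorem orderOf_eq_of_commute (A B : Subgroup G)
    (hcomm : ∀ x ∈ A, ∀ y ∈ B, x * y = y * x)
    (hA : ∀ x ∈ A, ∀ b : X, x • b = b → x = 1) (hB : ∀ y ∈ B, ∀ b : X, y • b = b → y = 1)
    (x y : G) (hx : x ∈ A) (hy : y ∈ B) (a : X) (hxy : x • a = y • a) :
    orderOf x = orderOf y := by
  have hpow : ∀ j : ℕ, x ^ j • a = y ^ j • a := by
    intro j
    induction j with
    | zero => simp
    | succ j ih =>
      rw [pow_succ, mul_smul, hxy, ← mul_smul, hcomm _ (A.pow_mem hx j) y hy, mul_smul, ih,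
        ← mul_smul, ← pow_succ']
  rw [orderOf_eq_orderOf_iff]
  intro n
  constructor
  · intro h
    apply hB _ (B.pow_mem hy n) a
    rw [← hpow, h, one_smul]
  · intro h
    apply hA _ (A.pow_mem hx n) a
    rw [hpow, h, one_smul]

/-- A non-trivial finite subgroup all of whose non-identity elements have the same order has a
non-trivial central element. -/
theorem exists_central [Finite G] (K : Subgroup G) (hK1 : K ≠ ⊥)
    (hord : ∀ k₁ ∈ K, k₁ ≠ 1 → ∀ k₂ ∈ K, k₂ ≠ 1 → orderOf k₁ = orderOf k₂) :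
    ∃ z ∈ K, z ≠ 1 ∧ ∀ k ∈ K, k * z = z * k := by
  obtain ⟨n₀, hn₀K, hn₀⟩ : ∃ n₀ ∈ K, n₀ ≠ 1 := by
    by_contra hno
    push Not at hno
    exact hK1 ((Subgroup.eq_bot_iff_forall K).mpr hno)
  have hord1 : orderOf n₀ ≠ 1 := by rwa [Ne, orderOf_eq_one_iff]
  obtain ⟨p, hp, hpd⟩ := Nat.exists_prime_and_dvd hord1
  have hpos : 0 < orderOf n₀ := orderOf_pos n₀
  have hn₁ord : orderOf (n₀ ^ (orderOf n₀ / p)) = p := orderOf_pow_orderOf_div hpos.ne' hpd
  have hn₁K : n₀ ^ (orderOf n₀ / p) ∈ K := K.pow_mem hn₀K _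
  have hn₁1 : n₀ ^ (orderOf n₀ / p) ≠ 1 := by
    intro h
    rw [h, orderOf_one] at hn₁ord
    exact hp.one_lt.ne hn₁ord
  have hexp : ∀ n ∈ K, n ^ p = 1 := by
    intro n hn
    by_cases h1 : n = 1
    · rw [h1, one_pow]
    · rw [← hn₁ord, hord _ hn₁K hn₁1 n hn h1, pow_orderOf_eq_one]
  have hpf : Fact p.Prime := ⟨hp⟩
  have hpg : IsPGroup p K := fun n => ⟨1, by
    rw [pow_one]
    exact Subtype.ext (hexp n n.2)⟩
  have hnt : Nontrivial K := ⟨⟨⟨n₀, hn₀K⟩, 1, fun h => hn₀ (congrArg Subtype.val h)⟩⟩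
  have hcnt : Nontrivial (Subgroup.center K) := hpg.center_nontrivial
  obtain ⟨z, hz⟩ := exists_ne (1 : Subgroup.center K)
  refine ⟨((z : K) : G), (z : K).2, ?_, ?_⟩
  · intro h
    apply hz
    apply Subtype.ext
    apply Subtype.ext
    exact h
  · intro k hk
    exact congrArg Subtype.val (Subgroup.mem_center_iff.mp z.2 ⟨k, hk⟩)

/-- The non-regular case, second half: a primitive minimal normal subgroup of a doubly
transitive group is simple. -/
theorem simple_case [Finite X] [FaithfulSMul G X] (h2 : IsMultiplyPretransitive G X 2)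
    (N : Subgroup G) [N.Normal] (hN : N ≠ ⊥)
    (hmin : ∀ M : Subgroup G, M.Normal → M ≤ N → M = ⊥ ∨ M = N)
    (hprim : IsPreprimitive N X) : IsSimpleGroup N := by
  classical
  have hfinG : Finite G := Finite.of_injective _ (MulAction.toPerm_injective (α := G) (β := X))
  have h2e : ∀ (a b c d : X), a ≠ b → c ≠ d → ∃ g : G, g • a = c ∧ g • b = d :=
    fun a b c d h h' => is_two_pretransitive_iff.mp h2 h h'
  let 𝒮 : Set (Subgroup G) := {K | K ≤ N ∧ (∀ n ∈ N, ∀ k ∈ K, n * k * n⁻¹ ∈ K) ∧ K ≠ ⊥}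
  have hN𝒮 : N ∈ 𝒮 :=
    ⟨le_rfl, fun n hn k hk => N.mul_mem (N.mul_mem hn hk) (N.inv_mem hn), hN⟩
  obtain ⟨K, ⟨hKN, hKnorm, hK1⟩, hKmin⟩ :=
    Set.exists_min_image 𝒮 (fun K => Nat.card K) (Set.toFinite _) ⟨N, hN𝒮⟩
  have hnt : Nontrivial N := (Subgroup.nontrivial_iff_ne_bot N).mpr hN
  by_cases hKeq : K = N
  · refine { toNontrivial := hnt, eq_bot_or_eq_top_of_normal := fun K₀ hK₀ => ?_ }
    by_cases hK₀1 : K₀ = ⊥
    · exact Or.inl hK₀1
    right
    have hmem : K₀.map N.subtype ∈ 𝒮 := by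
      refine ⟨Subgroup.map_subtype_le K₀, ?_, ?_⟩
      · rintro n hn _ ⟨k₀, hk₀, rfl⟩
        exact ⟨⟨n, hn⟩ * k₀ * ⟨n, hn⟩⁻¹, hK₀.conj_mem k₀ hk₀ ⟨n, hn⟩, rfl⟩
      · intro h
        exact hK₀1 ((Subgroup.map_eq_bot_iff_of_injective K₀ N.subtype_injective).mp h)
    have h1 : Nat.card K ≤ Nat.card (K₀.map N.subtype) := hKmin _ hmem
    rw [hKeq, Subgroup.card_map_of_injective N.subtype_injective] at h1
    exact (Subgroup.card_eq_iff_eq_top K₀).mp (le_antisymm (Subgroup.card_le_card_group K₀) h1)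
  · exfalso
    have htrans : ∀ K' ∈ 𝒮, ∀ x y : X, ∃ k ∈ K', k • x = y := by
      rintro K' ⟨hK'N, hK'norm, hK'1⟩ x y
      have hn : (K'.subgroupOf N).Normal := by
        constructor
        intro n hn g
        rw [Subgroup.mem_subgroupOf] at hn ⊢
        exact hK'norm g g.2 n hn
      have h1 : K'.subgroupOf N ≠ ⊥ := by
        intro h
        apply hK'1
        rw [Subgroup.eq_bot_iff_forall]
        intro k hk
        have hk' : (⟨k, hK'N hk⟩ : N) ∈ K'.subgroupOf N := Subgroup.mem_subgroupOf.mpr hk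
        rw [h, Subgroup.mem_bot] at hk'
        exact congrArg Subtype.val hk'
      have htr : IsPretransitive (K'.subgroupOf N) X :=
        Jordan.trans_of_normal (G := N) (X := X) _ h1
      obtain ⟨m, hm⟩ := exists_smul_eq (K'.subgroupOf N) x y
      exact ⟨((m : N) : G), Subgroup.mem_subgroupOf.mp m.2, hm⟩
    have hmemc : ∀ (g x : G), x ∈ MulAut.conj g • K ↔ g⁻¹ * x * g ∈ K := fun g x =>
      Cfsg.Agent.Lib.helper84.mem_conj_smul_iff K g x
    have hconjmem : ∀ (g k : G), k ∈ K → g * k * g⁻¹ ∈ MulAut.conj g • K := by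
      intro g k hk
      rw [hmemc]
      have e : g⁻¹ * (g * k * g⁻¹) * g = k := by group
      rw [e]
      exact hk
    have hconj𝒮 : ∀ g : G, MulAut.conj g • K ∈ 𝒮 := by
      intro g
      refine ⟨?_, ?_, ?_⟩
      · intro x hx
        rw [hmemc] at hx
        have h1 := Subgroup.Normal.conj_mem (inferInstance : N.Normal) _ (hKN hx) g
        have e : g * (g⁻¹ * x * g) * g⁻¹ = x := by group
        rwa [e] at h1
      · intro n hn x hx
        rw [hmemc] at hx ⊢
        have hn' : g⁻¹ * n * g ∈ N := by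
          have h1 := Subgroup.Normal.conj_mem (inferInstance : N.Normal) n hn g⁻¹
          rwa [inv_inv] at h1
        have h1 := hKnorm _ hn' _ hx
        have e : g⁻¹ * n * g * (g⁻¹ * x * g) * (g⁻¹ * n * g)⁻¹ = g⁻¹ * (n * x * n⁻¹) * g := by
          group
        rwa [e] at h1
      · intro h
        apply hK1
        rw [Subgroup.eq_bot_iff_forall] at h ⊢
        intro k hk
        have h1 := h (g * k * g⁻¹) (hconjmem g k hk)
        have e : k = g⁻¹ * (g * k * g⁻¹) * g := by group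
        rw [e, h1]
        group
    have hle_eq : ∀ g : G, K ≤ MulAut.conj g • K → MulAut.conj g • K = K := by
      intro g hle
      have h1 : MulAut.conj g⁻¹ • K ≤ K := by
        intro x hx
        rw [hmemc] at hx
        have h3 := hle hx
        rw [hmemc] at h3
        have e : g⁻¹ * (g⁻¹⁻¹ * x * g⁻¹) * g = x := by group
        rwa [e] at h3
      have h2' : MulAut.conj g⁻¹ • K = K :=
        Subgroup.eq_of_le_of_card_ge h1 (hKmin _ (hconj𝒮 g⁻¹))
      apply le_antisymm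
      · intro x hx
        rw [hmemc] at hx
        rw [← h2', hmemc] at hx
        have e : g⁻¹⁻¹ * (g⁻¹ * x * g) * g⁻¹ = x := by group
        rwa [e] at hx
      · exact hle
    obtain ⟨g₀, hg₀⟩ : ∃ g₀ : G, MulAut.conj g₀ • K ≠ K := by
      by_contra hno
      push Not at hno
      have hKnormal : K.Normal := by
        constructor
        intro k hk g
        have h1 := hconjmem g k hk
        rwa [hno g] at h1
      rcases hmin K hKnormal hKN with h | h
      · exact hK1 h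
      · exact hKeq h
    have hdisj : ∀ g : G, MulAut.conj g • K ≠ K → K ⊓ MulAut.conj g • K = ⊥ := by
      intro g hg
      by_contra hne
      have hmem : K ⊓ MulAut.conj g • K ∈ 𝒮 := by
        obtain ⟨h1, h2', h3⟩ := hconj𝒮 g
        exact ⟨inf_le_left.trans hKN,
          fun n hn k hk => ⟨hKnorm n hn k hk.1, h2' n hn k hk.2⟩, hne⟩
      have h1 : K ⊓ MulAut.conj g • K = K :=
        Subgroup.eq_of_le_of_card_ge inf_le_left (hKmin _ hmem)
      have hle : K ≤ MulAut.conj g • K := by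
        intro x hx
        have hx' : x ∈ K ⊓ MulAut.conj g • K := by
          rw [h1]
          exact hx
        exact hx'.2
      exact hg (hle_eq g hle)
    have hcomm : ∀ g : G, MulAut.conj g • K ≠ K → ∀ k ∈ K, ∀ k' ∈ MulAut.conj g • K,
        k * k' = k' * k := by
      intro g hg k hk k' hk'
      obtain ⟨h1, h2', h3⟩ := hconj𝒮 g
      have hmem : k * k' * k⁻¹ * k'⁻¹ ∈ K ⊓ MulAut.conj g • K := by
        constructor
        · have h4 : k' * k⁻¹ * k'⁻¹ ∈ K := hKnorm k' (h1 hk') k⁻¹ (K.inv_mem hk)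
          have h5 := K.mul_mem hk h4
          have e : k * (k' * k⁻¹ * k'⁻¹) = k * k' * k⁻¹ * k'⁻¹ := by group
          rwa [e] at h5
        · have h4 : k * k' * k⁻¹ ∈ MulAut.conj g • K := h2' k (hKN hk) k' hk'
          exact Subgroup.mul_mem _ h4 (Subgroup.inv_mem _ hk')
      rw [hdisj g hg, Subgroup.mem_bot] at hmem
      have h4 := mul_inv_eq_one.mp hmem
      exact mul_inv_eq_iff_eq_mul.mp h4
    have hsemi : ∀ k ∈ K, ∀ b : X, k • b = b → k = 1 := by
      intro k hk b hb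
      apply FaithfulSMul.eq_of_smul_eq_smul (α := X)
      intro x
      rw [one_smul]
      obtain ⟨k', hk', hk'x⟩ := htrans _ (hconj𝒮 g₀) b x
      rw [← hk'x, ← mul_smul, hcomm g₀ hg₀ k hk k' hk', mul_smul, hb]
    have hsemi' : ∀ g : G, ∀ k' ∈ MulAut.conj g • K, ∀ b : X, k' • b = b → k' = 1 := by
      intro g k' hk' b hb
      rw [hmemc] at hk'
      have h1 := hsemi _ hk' (g⁻¹ • b) (by rw [mul_smul, mul_smul, smul_inv_smul, hb])
      have e : k' = g * (g⁻¹ * k' * g) * g⁻¹ := by group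
      rw [e, h1]
      group
    obtain ⟨a⟩ : Nonempty X := by
      by_contra hemp
      rw [not_nonempty_iff] at hemp
      apply hN
      rw [Subgroup.eq_bot_iff_forall]
      intro n _
      exact FaithfulSMul.eq_of_smul_eq_smul (α := X) (fun x => isEmptyElim x)
    have hord : ∀ k₁ ∈ K, k₁ ≠ 1 → ∀ k₂ ∈ K, k₂ ≠ 1 → orderOf k₁ = orderOf k₂ := by
      intro k₁ hk₁ h1 k₂ hk₂ h2'
      have hb₁ : a ≠ k₁ • a := fun h => h1 (hsemi k₁ hk₁ a h.symm)
      have hb₂ : a ≠ k₂ • a := fun h => h2' (hsemi k₂ hk₂ a h.symm)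
      obtain ⟨g, hga, hgb⟩ := h2e a (k₁ • a) a (k₂ • a) hb₁ hb₂
      have hga' : g⁻¹ • a = a := by rw [inv_smul_eq_iff, hga]
      have hk₃ : g * k₁ * g⁻¹ ∈ MulAut.conj g • K := hconjmem g k₁ hk₁
      have hk₃a : (g * k₁ * g⁻¹) • a = k₂ • a := by rw [mul_smul, mul_smul, hga', hgb]
      have hord₃ : orderOf (g * k₁ * g⁻¹) = orderOf k₁ := MulEquiv.orderOf_eq (MulAut.conj g) k₁
      by_cases hg : MulAut.conj g • K = K
      · rw [hg] at hk₃
        have h3 := hsemi (k₂⁻¹ * (g * k₁ * g⁻¹)) (K.mul_mem (K.inv_mem hk₂) hk₃) a (by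
          rw [mul_smul, hk₃a, inv_smul_smul])
        have h4 : g * k₁ * g⁻¹ = k₂ := (inv_mul_eq_one.mp h3).symm
        rw [← hord₃, h4]
      · rw [← hord₃]
        exact (orderOf_eq_of_commute K (MulAut.conj g • K) (hcomm g hg) hsemi (hsemi' g) k₂
          (g * k₁ * g⁻¹) hk₂ hk₃ a hk₃a.symm).symm
    obtain ⟨z, hzK, hz1, hzc⟩ := exists_central K hK1 hord
    obtain ⟨z', hz', hz'a⟩ := htrans _ (hconj𝒮 g₀) a (z • a)
    have hw : z'⁻¹ * z = 1 := by
      apply FaithfulSMul.eq_of_smul_eq_smul (α := X)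
      intro x
      rw [one_smul]
      obtain ⟨k, hk, hkx⟩ := htrans K ⟨hKN, hKnorm, hK1⟩ a x
      have hc1 : z * k = k * z := (hzc k hk).symm
      have hc2 : z'⁻¹ * k = k * z'⁻¹ := by
        have h3 := hcomm g₀ hg₀ k hk z' hz'
        calc z'⁻¹ * k = z'⁻¹ * (k * z') * z'⁻¹ := by group
          _ = z'⁻¹ * (z' * k) * z'⁻¹ := by rw [h3]
          _ = k * z'⁻¹ := by group
      rw [← hkx, ← mul_smul, mul_assoc, hc1, ← mul_assoc, hc2, mul_assoc, mul_smul, mul_smul,
        ← hz'a, inv_smul_smul]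
    have hzz' : z' = z := inv_mul_eq_one.mp hw
    have hzmem : z ∈ K ⊓ MulAut.conj g₀ • K := ⟨hzK, hzz' ▸ hz'⟩
    rw [hdisj g₀ hg₀, Subgroup.mem_bot] at hzmem
    exact hz1 hzmem

/-- Burnside's theorem on doubly transitive groups, for faithful actions: a minimal normal
subgroup is elementary abelian and regular, or simple and primitive. -/
theorem burnside_socle [Finite X] [FaithfulSMul G X] (h2 : IsMultiplyPretransitive G X 2)
    (N : Subgroup G) [N.Normal] (hN : N ≠ ⊥)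
    (hmin : ∀ M : Subgroup G, M.Normal → M ≤ N → M = ⊥ ∨ M = N) :
    (IsMulCommutative N ∧ (∃ p : ℕ, p.Prime ∧ ∀ n ∈ N, n ^ p = 1) ∧
      ∀ a : X, stabilizer N a = ⊥) ∨ (IsSimpleGroup N ∧ IsPreprimitive N X) := by
  by_cases hreg : ∀ a : X, stabilizer N a = ⊥
  · left
    obtain ⟨h1, h3⟩ := regular_case h2 N hN hreg
    exact ⟨h1, h3, hreg⟩
  · right
    push Not at hreg
    obtain ⟨a, ha⟩ := hreg
    obtain ⟨t, htN, ht1, hta⟩ := Jordan.exists_of_stab_ne_bot N a ha
    have hprim := primitive_case h2 N hN hmin a t htN ht1 hta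
    exact ⟨simple_case h2 N hN hmin hprim, hprim⟩

end Cfsg.Agent.Lib.helper15.Socle2T
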