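import Cfsg.Agent.Lib.helper38.TN2

/-!
helper15: Thompson's N-groups lemma (S4415), PIECE C: an abelian `GN`-subgroup of odd order
is trivial.
-/

set_option autoImplicit false

namespace Cfsg.Agent.Lib.helper15

open Cfsg.Agent.Lib.helper38.TN

section TNCgen

variable {G : Type*} [Group G] {V : Type*} [AddCommGroup V] [Module (ZMod 3) V]
variable {ρ : Representation (ZMod 3) G V}

/-- a power of an element fixing a vector fixes it -/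
theorem tnc_fix_pow {g : G} {v : V} (h : ρ g v = v) (n : ℕ) : ρ (g ^ n) v = v := by
  induction n with
  | zero => rw [pow_zero, rho_one]
  | succ k ih => rw [pow_succ, rho_mul, h, ih]

theorem tnc_eig_pow {g : G} {v : V} {ε : ZMod 3} (h : ρ g v = ε • v) (n : ℕ) :
    ρ (g ^ n) v = ε ^ n • v := by
  induction n with
  | zero => rw [pow_zero, rho_one, pow_zero, one_smul]
  | succ k ih => rw [pow_succ, rho_mul, h, map_smul, ih, smul_smul, pow_succ, mul_comm]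

/-- a vector on which `a + a⁻¹` acts as a scalar is fixed by `a ^ 12`. -/
theorem tnc_quad {a : G} {u : V} {l : ZMod 3} (h : ρ a u + ρ a⁻¹ u = l • u) :
    ρ (a ^ 12) u = u := by
  have h2 : ρ a (ρ a u) + u = l • ρ a u := by
    have := congrArg (ρ a) h
    rwa [map_add, map_smul, rho_self_inv] at this
  rcases zmod3_cases l with rfl | rfl | rfl
  · have e2 : ρ a (ρ a u) = -u := by
      rw [zero_smul] at h2
      exact eq_neg_of_add_eq_zero_left h2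
    have e4 : ρ (a ^ 4) u = u := by
      have : a ^ 4 = a * a * (a * a) := by
        simp only [pow_succ, pow_zero, one_mul, mul_assoc]
      rw [this]
      simp only [rho_mul, e2, map_neg, neg_neg]
    have : a ^ 12 = (a ^ 4) ^ 3 := by rw [← pow_mul]
    rw [this]
    exact tnc_fix_pow e4 3
  · have e2 : ρ a (ρ a u) = ρ a u - u := by
      rw [one_smul] at h2
      exact eq_sub_of_add_eq h2
    have e3 : ρ a (ρ a (ρ a u)) = -u := by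
      rw [e2, map_sub, e2]
      abel
    have e6 : ρ (a ^ 6) u = u := by
      have : a ^ 6 = a * a * a * (a * a * a) := by
        simp only [pow_succ, pow_zero, one_mul, mul_assoc]
      rw [this]
      simp only [rho_mul, e3, map_neg, neg_neg]
    have : a ^ 12 = (a ^ 6) ^ 2 := by rw [← pow_mul]
    rw [this]
    exact tnc_fix_pow e6 2
  · have e2 : ρ a (ρ a u) = -ρ a u - u := by
      rw [neg_one_smul] at h2
      exact eq_sub_of_add_eq h2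
    have e3 : ρ a (ρ a (ρ a u)) = u := by
      rw [e2, map_sub, map_neg, e2]
      abel
    have e3' : ρ (a ^ 3) u = u := by
      have : a ^ 3 = a * a * a := by
        simp only [pow_succ, pow_zero, one_mul]
      rw [this]
      simp only [rho_mul, e3]
    have : a ^ 12 = (a ^ 3) ^ 4 := by rw [← pow_mul]
    rw [this]
    exact tnc_fix_pow e3' 4

variable {b q₁ q₂ q₃ : G} {u₁ u₂ u₃ : V}

/-- commutation facts for an element centralized by `q₁` and inverted by `q₂`. -/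
theorem tnc_comm_facts {a : G} (h1 : a * q₁ = q₁ * a) (h2 : q₂ * a * q₂⁻¹ = a⁻¹) :
    (∀ v, ρ q₁ (ρ a v) = ρ a (ρ q₁ v)) ∧ (∀ v, ρ q₁ (ρ a⁻¹ v) = ρ a⁻¹ (ρ q₁ v)) ∧
    (∀ v, ρ q₂ (ρ a v) = ρ a⁻¹ (ρ q₂ v)) ∧ (∀ v, ρ q₂ (ρ a⁻¹ v) = ρ a (ρ q₂ v)) := by
  have h1' : a⁻¹ * q₁ = q₁ * a⁻¹ := by
    calc a⁻¹ * q₁ = a⁻¹ * (q₁ * a) * a⁻¹ := by group
      _ = a⁻¹ * (a * q₁) * a⁻¹ := by rw [h1]
      _ = q₁ * a⁻¹ := by group
  have h2a : q₂ * a = a⁻¹ * q₂ := by rw [← h2]; group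
  have h2' : q₂ * a⁻¹ * q₂⁻¹ = a := by
    have e : q₂ * a⁻¹ * q₂⁻¹ = (q₂ * a * q₂⁻¹)⁻¹ := by group
    rw [e, h2, inv_inv]
  have h2b : q₂ * a⁻¹ = a * q₂ := by
    calc q₂ * a⁻¹ = (q₂ * a⁻¹ * q₂⁻¹) * q₂ := by group
      _ = a * q₂ := by rw [h2']
  refine ⟨fun v => ?_, fun v => ?_, fun v => ?_, fun v => ?_⟩
  · rw [← rho_mul, ← h1, rho_mul]
  · rw [← rho_mul, ← h1', rho_mul]
  · rw [← rho_mul, h2a, rho_mul]
  · rw [← rho_mul, h2b, rho_mul]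

/-- on the common fixed space of the four-group. -/
theorem tnc_cfix (F : Frame ρ b q₁ q₂ q₃ u₁ u₂ u₃) {a : G}
    (h1 : a * q₁ = q₁ * a) (h2 : q₂ * a * q₂⁻¹ = a⁻¹) (hu : ρ a u₁ = u₁) {c : V}
    (hc1 : ρ q₁ c = c) (hc2 : ρ q₂ c = c) : ρ (a ^ 6) c = c := by
  obtain ⟨k1, k1', k2, k2'⟩ := tnc_comm_facts (ρ := ρ) h1 h2
  have d1 : ρ q₁ (ρ a c - ρ a⁻¹ c) = ρ a c - ρ a⁻¹ c := by
    rw [map_sub, k1, k1', hc1]
  have d2 : ρ q₂ (ρ a c - ρ a⁻¹ c) = -(ρ a c - ρ a⁻¹ c) := by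
    rw [map_sub, k2, k2', hc2]
    abel
  obtain ⟨γ, hγ⟩ := F.line _ d1 d2
  have e2 : ρ a (ρ a c) = c + γ • u₁ := by
    have := congrArg (ρ a) hγ
    rw [map_sub, rho_self_inv, map_smul, hu] at this
    exact eq_add_of_sub_eq' this
  have e2' : ρ (a ^ 2) c = c + γ • u₁ := by rw [pow_two, rho_mul, e2]
  have hu2 : ρ (a ^ 2) u₁ = u₁ := tnc_fix_pow hu 2
  have h6 : a ^ 6 = (a ^ 2) * (a ^ 2) * (a ^ 2) := by group
  have h3 := three_smul_eq_zero (γ • u₁)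
  rw [h6]
  simp only [rho_mul, e2', map_add, map_smul, hu2]
  linear_combination (norm := module) h3

/-- KEY: an element centralized by `q₁` and inverted by `q₂` has its 72nd power acting trivially. -/
theorem tnc_key (F : Frame ρ b q₁ q₂ q₃ u₁ u₂ u₃) {a : G}
    (h1 : a * q₁ = q₁ * a) (h2 : q₂ * a * q₂⁻¹ = a⁻¹) (v : V) : ρ (a ^ 72) v = v := by
  obtain ⟨k1, k1', k2, k2'⟩ := tnc_comm_facts (ρ := ρ) h1 h2
  have T := F.tri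
  have k3 : ∀ v, ρ q₃ (ρ a v) = ρ a⁻¹ (ρ q₃ v) := fun v => by
    rw [← T.a12 ρ, k2, k1', T.a12 ρ]
  have k3' : ∀ v, ρ q₃ (ρ a⁻¹ v) = ρ a (ρ q₃ v) := fun v => by
    rw [← T.a12 ρ, k2', k1, T.a12 ρ]
  have w1 : ∃ l : ZMod 3, ρ a u₁ + ρ a⁻¹ u₁ = l • u₁ := by
    apply F.line
    · rw [map_add, k1, k1', F.q1u1]
    · rw [map_add, k2, k2', F.q2u1, map_neg, map_neg]
      abel
  have w2 : ∃ l : ZMod 3, ρ a u₂ + ρ a⁻¹ u₂ = l • u₂ := by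
    apply F.rot.line
    · rw [map_add, k2, k2', F.q2u2]
      abel
    · rw [map_add, k3, k3', F.q3u2, map_neg, map_neg]
      abel
  have w3 : ∃ l : ZMod 3, ρ a u₃ + ρ a⁻¹ u₃ = l • u₃ := by
    apply F.rot.rot.line
    · rw [map_add, k3, k3', F.q3u3]
      abel
    · rw [map_add, k1, k1', F.q1u3, map_neg, map_neg]
      abel
  obtain ⟨l1, hl1⟩ := w1
  obtain ⟨l2, hl2⟩ := w2
  obtain ⟨l3, hl3⟩ := w3
  have e1 : ρ (a ^ 12) u₁ = u₁ := tnc_quad hl1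
  have e2 : ρ (a ^ 12) u₂ = u₂ := tnc_quad hl2
  have e3 : ρ (a ^ 12) u₃ = u₃ := tnc_quad hl3
  have h1p : a ^ 12 * q₁ = q₁ * a ^ 12 :=
    (Commute.pow_left (show Commute a q₁ from h1) 12).eq
  have h2p : q₂ * a ^ 12 * q₂⁻¹ = (a ^ 12)⁻¹ := by
    rw [← conj_pow, h2, inv_pow]
  obtain ⟨a₁, a₂, a₃, c, hc, rfl⟩ := F.decomp v
  have ec : ρ ((a ^ 12) ^ 6) c = c := tnc_cfix F h1p h2p e1 hc.1 hc.2
  have h72 : a ^ 72 = (a ^ 12) ^ 6 := by rw [← pow_mul]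
  rw [h72, map_add, map_add, map_add, map_smul, map_smul, map_smul, tnc_fix_pow e1 6,
    tnc_fix_pow e2 6, tnc_fix_pow e3 6, ec]

theorem tnc_key_one {R : Subgroup G} (F : Frame ρ b q₁ q₂ q₃ u₁ u₂ u₃)
    (hfaith : ∀ r ∈ R, (∀ v, ρ r v = v) → r = 1) {a : G} (haR : a ∈ R)
    (hord : (orderOf a).Coprime 72) (h1 : a * q₁ = q₁ * a) (h2 : q₂ * a * q₂⁻¹ = a⁻¹) :
    a = 1 := by
  have h72 : a ^ 72 = 1 := hfaith _ (pow_mem haR 72) (tnc_key F h1 h2)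
  have hd : orderOf a ∣ 72 := orderOf_dvd_of_pow_eq_one h72
  exact orderOf_eq_one_iff.mp (Nat.Coprime.eq_one_of_dvd hord hd)

theorem tnc_cent_step {R : Subgroup G} (F : Frame ρ b q₁ q₂ q₃ u₁ u₂ u₃)
    (hfaith : ∀ r ∈ R, (∀ v, ρ r v = v) → r = 1) {A : Subgroup G} (hAR : A ≤ R)
    (hord : ∀ x ∈ A, (orderOf x).Coprime 72) (hq2A : ∀ x ∈ A, q₂ * x * q₂⁻¹ ∈ A) :
    ∀ a ∈ A, q₁ * a * q₁⁻¹ = a → q₂ * a * q₂⁻¹ = a := by
  intro a ha hq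
  have T := F.tri
  have hxA : a⁻¹ * (q₂ * a * q₂⁻¹) ∈ A := mul_mem (inv_mem ha) (hq2A a ha)
  have e12 : q₁ * q₂ = q₂ * q₁ := by rw [T.m12, T.m21]
  have x1 : q₁ * (a⁻¹ * (q₂ * a * q₂⁻¹)) * q₁⁻¹ = a⁻¹ * (q₂ * a * q₂⁻¹) := by
    calc q₁ * (a⁻¹ * (q₂ * a * q₂⁻¹)) * q₁⁻¹
        = (q₁ * a * q₁⁻¹)⁻¹ * ((q₁ * q₂) * a * (q₁ * q₂)⁻¹) := by group
      _ = a⁻¹ * ((q₂ * q₁) * a * (q₂ * q₁)⁻¹) := by rw [hq, e12]
      _ = a⁻¹ * (q₂ * (q₁ * a * q₁⁻¹) * q₂⁻¹) := by group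
      _ = a⁻¹ * (q₂ * a * q₂⁻¹) := by rw [hq]
  have x1' : (a⁻¹ * (q₂ * a * q₂⁻¹)) * q₁ = q₁ * (a⁻¹ * (q₂ * a * q₂⁻¹)) := by
    calc (a⁻¹ * (q₂ * a * q₂⁻¹)) * q₁
        = (q₁ * (a⁻¹ * (q₂ * a * q₂⁻¹)) * q₁⁻¹) * q₁ := by rw [x1]
      _ = q₁ * (a⁻¹ * (q₂ * a * q₂⁻¹)) := by group
  have x2 : q₂ * (a⁻¹ * (q₂ * a * q₂⁻¹)) * q₂⁻¹ = (a⁻¹ * (q₂ * a * q₂⁻¹))⁻¹ := by
    calc q₂ * (a⁻¹ * (q₂ * a * q₂⁻¹)) * q₂⁻¹
        = (q₂ * a * q₂⁻¹)⁻¹ * ((q₂ * q₂) * a * (q₂ * q₂)⁻¹) := by group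
      _ = (q₂ * a * q₂⁻¹)⁻¹ * a := by rw [T.sq2, one_mul, inv_one, mul_one]
      _ = (a⁻¹ * (q₂ * a * q₂⁻¹))⁻¹ := by group
  have hx := tnc_key_one F hfaith (hAR hxA) (hord _ hxA) x1' x2
  calc q₂ * a * q₂⁻¹ = a * (a⁻¹ * (q₂ * a * q₂⁻¹)) := by group
    _ = a := by rw [hx, mul_one]

end TNCgen

variable {G : Type*} [Group G] [Finite G] {V : Type*} [AddCommGroup V] [Module (ZMod 3) V] [Finite V]
variable {ρ : Representation (ZMod 3) G V} {R : Subgroup G} {b q₁ q₂ q₃ : G} {u₁ u₂ u₃ : V}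

/-- PIECE C of S4415: an abelian `GN`-subgroup of odd order is trivial. -/
theorem odd_GN_trivial (h : Ctx ρ R b q₁ q₂ q₃ u₁ u₂ u₃) (A : Subgroup G) (hA : GN R b A)
    (hcomm : ∀ x ∈ A, ∀ y ∈ A, x * y = y * x) (hodd : ¬ 2 ∣ Nat.card ↥A) : A = ⊥ := by
  have F := h.frame
  have T := F.tri
  obtain ⟨hAR, hAn, hAb⟩ := hA
  have hq1R : q₁ ∈ R := h.q1R
  have hq2R : q₂ ∈ R := by rw [← T.c1]; exact h.bR q₁ hq1R
  have hq3R : q₃ ∈ R := by rw [← T.c2]; exact h.bR q₂ hq2R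
  have hcardA : (Nat.card ↥A).Coprime 72 := by
    have h2 : (Nat.card ↥A).Coprime 2 :=
      Nat.Coprime.symm ((Nat.Prime.coprime_iff_not_dvd Nat.prime_two).2 hodd)
    have h3 : (Nat.card ↥A).Coprime 3 :=
      Nat.Coprime.coprime_dvd_left (Subgroup.card_dvd_of_le hAR) h.cop
    have e : (72 : ℕ) = 2 ^ 3 * 3 ^ 2 := by norm_num
    rw [e]
    exact Nat.Coprime.mul_right (Nat.Coprime.pow_right 3 h2) (Nat.Coprime.pow_right 2 h3)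
  have hord : ∀ x ∈ A, (orderOf x).Coprime 72 := by
    intro x hx
    exact Nat.Coprime.coprime_dvd_left (Subgroup.orderOf_dvd_natCard A hx) hcardA
  have c12 := tnc_cent_step F h.faith hAR hord (fun x hx => hAn q₂ hq2R x hx)
  have c23 := tnc_cent_step F.rot h.faith hAR hord (fun x hx => hAn q₃ hq3R x hx)
  have c31 := tnc_cent_step F.rot.rot h.faith hAR hord (fun x hx => hAn q₁ hq1R x hx)
  have hcen1 : ∀ a ∈ A, q₁ * a * q₁⁻¹ = a := by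
    intro a ha
    have hx1 : q₁ * a * q₁⁻¹ ∈ A := hAn q₁ hq1R a ha
    have hx2 : q₂ * a * q₂⁻¹ ∈ A := hAn q₂ hq2R a ha
    have hx3 : q₃ * a * q₃⁻¹ ∈ A := hAn q₃ hq3R a ha
    have y2 : q₂ * (a * (q₂ * a * q₂⁻¹)) * q₂⁻¹ = a * (q₂ * a * q₂⁻¹) := by
      have e : q₂ * (a * (q₂ * a * q₂⁻¹)) * q₂⁻¹
          = (q₂ * a * q₂⁻¹) * ((q₂ * q₂) * a * (q₂ * q₂)⁻¹) := by group
      rw [e, T.sq2, one_mul, inv_one, mul_one]
      exact hcomm _ hx2 _ ha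
    have y2' : q₁ * (a * (q₂ * a * q₂⁻¹)) * q₁⁻¹ = a * (q₂ * a * q₂⁻¹) :=
      c31 _ (mul_mem ha hx2) (c23 _ (mul_mem ha hx2) y2)
    have E2 : (q₁ * a * q₁⁻¹) * (q₃ * a * q₃⁻¹) = a * (q₂ * a * q₂⁻¹) := by
      have e : (q₁ * a * q₁⁻¹) * ((q₁ * q₂) * a * (q₁ * q₂)⁻¹)
          = q₁ * (a * (q₂ * a * q₂⁻¹)) * q₁⁻¹ := by group
      rw [T.m12, y2'] at e
      exact e
    have y3 : q₃ * (a * (q₃ * a * q₃⁻¹)) * q₃⁻¹ = a * (q₃ * a * q₃⁻¹) := by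
      have e : q₃ * (a * (q₃ * a * q₃⁻¹)) * q₃⁻¹
          = (q₃ * a * q₃⁻¹) * ((q₃ * q₃) * a * (q₃ * q₃)⁻¹) := by group
      rw [e, T.sq3, one_mul, inv_one, mul_one]
      exact hcomm _ hx3 _ ha
    have y3' : q₁ * (a * (q₃ * a * q₃⁻¹)) * q₁⁻¹ = a * (q₃ * a * q₃⁻¹) :=
      c31 _ (mul_mem ha hx3) y3
    have E3 : (q₁ * a * q₁⁻¹) * (q₂ * a * q₂⁻¹) = a * (q₃ * a * q₃⁻¹) := by
      have e : (q₁ * a * q₁⁻¹) * ((q₁ * q₃) * a * (q₁ * q₃)⁻¹)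
          = q₁ * (a * (q₃ * a * q₃⁻¹)) * q₁⁻¹ := by group
      rw [T.m13, y3'] at e
      exact e
    have d1 : a⁻¹ * (q₁ * a * q₁⁻¹) = (q₂ * a * q₂⁻¹) * (q₃ * a * q₃⁻¹)⁻¹ := by
      calc a⁻¹ * (q₁ * a * q₁⁻¹)
          = a⁻¹ * ((q₁ * a * q₁⁻¹) * (q₃ * a * q₃⁻¹)) * (q₃ * a * q₃⁻¹)⁻¹ := by group
        _ = a⁻¹ * (a * (q₂ * a * q₂⁻¹)) * (q₃ * a * q₃⁻¹)⁻¹ := by rw [E2]
        _ = (q₂ * a * q₂⁻¹) * (q₃ * a * q₃⁻¹)⁻¹ := by group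
    have d2 : a⁻¹ * (q₁ * a * q₁⁻¹) = (q₃ * a * q₃⁻¹) * (q₂ * a * q₂⁻¹)⁻¹ := by
      calc a⁻¹ * (q₁ * a * q₁⁻¹)
          = a⁻¹ * ((q₁ * a * q₁⁻¹) * (q₂ * a * q₂⁻¹)) * (q₂ * a * q₂⁻¹)⁻¹ := by group
        _ = a⁻¹ * (a * (q₃ * a * q₃⁻¹)) * (q₂ * a * q₂⁻¹)⁻¹ := by rw [E3]
        _ = (q₃ * a * q₃⁻¹) * (q₂ * a * q₂⁻¹)⁻¹ := by group
    have dd : (a⁻¹ * (q₁ * a * q₁⁻¹)) * (a⁻¹ * (q₁ * a * q₁⁻¹)) = 1 := by
      calc (a⁻¹ * (q₁ * a * q₁⁻¹)) * (a⁻¹ * (q₁ * a * q₁⁻¹))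
          = ((q₂ * a * q₂⁻¹) * (q₃ * a * q₃⁻¹)⁻¹) * ((q₃ * a * q₃⁻¹) * (q₂ * a * q₂⁻¹)⁻¹) :=
            congrArg₂ (· * ·) d1 d2
        _ = 1 := by group
    have hdA : a⁻¹ * (q₁ * a * q₁⁻¹) ∈ A := mul_mem (inv_mem ha) hx1
    have hd1 : a⁻¹ * (q₁ * a * q₁⁻¹) = 1 := by
      have ho : orderOf (a⁻¹ * (q₁ * a * q₁⁻¹)) ∣ 2 :=
        orderOf_dvd_of_pow_eq_one (by rw [pow_two]; exact dd)
      have ho' : orderOf (a⁻¹ * (q₁ * a * q₁⁻¹)) ∣ 72 := dvd_trans ho (by norm_num)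
      exact orderOf_eq_one_iff.mp (Nat.Coprime.eq_one_of_dvd (hord _ hdA) ho')
    calc q₁ * a * q₁⁻¹ = a * (a⁻¹ * (q₁ * a * q₁⁻¹)) := by group
      _ = a := by rw [hd1, mul_one]
  have hcen2 : ∀ a ∈ A, q₂ * a * q₂⁻¹ = a := fun a ha => c12 a ha (hcen1 a ha)
  have hfix : ∀ a ∈ A, ρ a u₁ = u₁ := by
    intro a ha
    have e1 : a * q₁ = q₁ * a := by
      have := hcen1 a ha
      calc a * q₁ = (q₁ * a * q₁⁻¹) * q₁ := by rw [this]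
        _ = q₁ * a := by group
    have e2 : a * q₂ = q₂ * a := by
      have := hcen2 a ha
      calc a * q₂ = (q₂ * a * q₂⁻¹) * q₂ := by rw [this]
        _ = q₂ * a := by group
    obtain ⟨⟨ε, hε, hεu⟩, -⟩ := F.comm_diag e1 e2
    rcases hε with rfl | rfl
    · rw [hεu, one_smul]
    · exfalso
      have hp := tnc_eig_pow hεu (orderOf a)
      rw [pow_orderOf_eq_one, rho_one] at hp
      have hodd' : Odd (orderOf a) :=
        Nat.Coprime.odd_of_right (Nat.Coprime.coprime_dvd_right (by norm_num) (hord a ha))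
      rw [Odd.neg_one_pow hodd', neg_one_smul] at hp
      exact neg_ne_self F.u1 hp.symm
  have hbb : b * b = b⁻¹ := by
    apply eq_inv_of_mul_eq_one_left
    rw [← F.b3, pow_succ, pow_two]
  have hW : fixedSub ρ A = ⊥ ∨ fixedSub ρ A = ⊤ := by
    apply h.irr
    · intro r hr v hv
      rw [mem_fixedSub] at hv ⊢
      intro a ha
      have hc : r⁻¹ * a * r ∈ A := by
        have := hAn r⁻¹ (inv_mem hr) a ha
        rwa [inv_inv] at this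
      have e : a * r = r * (r⁻¹ * a * r) := by group
      rw [← rho_mul, e, rho_mul, hv _ hc]
    · intro v hv
      rw [mem_fixedSub] at hv ⊢
      intro a ha
      have hc : b⁻¹ * a * b ∈ A := by
        have h1 := hAb _ (hAb a ha)
        have e : b * (b * a * b⁻¹) * b⁻¹ = (b * b) * a * (b * b)⁻¹ := by group
        rw [e, hbb, inv_inv] at h1
        exact h1
      have e : a * b = b * (b⁻¹ * a * b) := by group
      rw [← rho_mul, e, rho_mul, hv _ hc]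
  rcases hW with hW | hW
  · exfalso
    have hu : u₁ ∈ fixedSub ρ A := hfix
    rw [hW, Submodule.mem_bot] at hu
    exact F.u1 hu
  · rw [Subgroup.eq_bot_iff_forall]
    intro a ha
    apply h.faith a (hAR ha)
    intro v
    have hv : v ∈ fixedSub ρ A := by rw [hW]; exact Submodule.mem_top
    exact hv a ha

end Cfsg.Agent.Lib.helper15
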