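import Mathlib
import Cfsg.Agent.Lib.helper16.U34CDefs

set_option autoImplicit false
set_option linter.unusedSectionVars false
set_option linter.unusedVariables false

namespace Cfsg.Agent.Lib.helper16.U34C

open Cfsg
open scoped commutatorElement
open Cfsg.Agent.Lib.helper58 Cfsg.Agent.Lib.helper7

section Concrete

variable {F : Type*} [Field F] [Fintype F]

/-- PIECE D3 -/
theorem exists_l (hF : Fintype.card F = 16) : ∃ l : F, l ^ 5 = 1 ∧ l ≠ 1 := by
  classical
  have hcard : Fintype.card Fˣ = 15 := by
    rw [Fintype.card_units, hF]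
  obtain ⟨g, hg⟩ := IsCyclic.exists_generator (α := Fˣ)
  have hord : orderOf g = 15 := by
    rw [orderOf_eq_card_of_forall_mem_zpowers hg, Nat.card_eq_fintype_card, hcard]
  refine ⟨((g ^ 3 : Fˣ) : F), ?_, ?_⟩
  · rw [← Units.val_pow_eq_pow_val, ← pow_mul]
    have : g ^ (3 * 5) = 1 := by
      have h15 : g ^ 15 = 1 := by rw [← hord]; exact pow_orderOf_eq_one g
      exact h15
    rw [this, Units.val_one]
  · intro h
    have h1 : g ^ 3 = 1 := Units.ext (by rw [h, Units.val_one])
    have := orderOf_dvd_of_pow_eq_one h1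
    rw [hord] at this
    revert this; decide

end Concrete

end Cfsg.Agent.Lib.helper16.U34C
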