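import Mathlib
import Cfsg.Agent.Lib.helper16.U34CDefs

set_option autoImplicit false
set_option linter.unusedSectionVars false
set_option linter.unusedVariables false

namespace Cfsg.Agent.Lib.helper16.U34C

open Cfsg
open scoped commutatorElement
open Cfsg.Agent.Lib.helper58 Cfsg.Agent.Lib.helper7

section Concrete

variable {F : Type*} [Field F] [Fintype F]

/-- PIECE D4a -/
theorem cent_card (hF : Fintype.card F = 16) (l : F) (hl : l ^ 5 = 1) (hl1 : l ≠ 1)
    (cd : CentData hF l hl) :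
    Nat.card ↥(Subgroup.centralizer ({tauE hF} : Set ↥(SU 3 F 4))) = 320 := by
  classical
  have hUcard : Nat.card ↥(UU hF) = 64 := by
    have := UCoord.card_eq (card16 hF) (two0 hF) (su3UCoord (card16 hF) (two0 hF))
    rw [this]; norm_num
  have hδ1 : dE l hl ≠ 1 := by
    intro h
    apply hl1
    have h1 : ((dE l hl).1.1 : Matrix (Fin 3) (Fin 3) F) = 1 := by rw [h]; rfl
    rw [dE_val] at h1
    have := congrFun (congrFun h1 0) 0
    simpa [dM] using this
  have hord : orderOf (dE l hl) = 5 := by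
    haveI : Fact (Nat.Prime 5) := ⟨by norm_num⟩
    exact orderOf_eq_prime cd.d5 hδ1
  have hZcard : Nat.card ↥(Subgroup.zpowers (dE l hl)) = 5 := by rw [Nat.card_zpowers, hord]
  have hmemC : ∀ g : ↥(SU 3 F 4),
      g ∈ Subgroup.centralizer ({tauE hF} : Set ↥(SU 3 F 4)) ↔ g * tauE hF = tauE hF * g := by
    intro g
    rw [Subgroup.mem_centralizer_iff]
    constructor
    · intro h; exact (h _ (Set.mem_singleton _)).symm
    · intro h x hx; rw [Set.mem_singleton_iff] at hx; rw [hx]; exact h.symm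
  have hUC : ∀ v ∈ UU hF, v ∈ Subgroup.centralizer ({tauE hF} : Set ↥(SU 3 F 4)) :=
    fun v hv => (hmemC v).2 (cd.tc v hv)
  have hδC : dE l hl ∈ Subgroup.centralizer ({tauE hF} : Set ↥(SU 3 F 4)) := (hmemC _).2 cd.dc
  have hZC : ∀ z ∈ Subgroup.zpowers (dE l hl),
      z ∈ Subgroup.centralizer ({tauE hF} : Set ↥(SU 3 F 4)) := by
    intro z hz
    exact (Subgroup.zpowers_le.2 hδC) hz
  have hdisj : ∀ w : ↥(SU 3 F 4), w ∈ Subgroup.zpowers (dE l hl) → w ∈ UU hF → w = 1 := by
    intro w hwZ hwU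
    have h5 : w ^ 5 = 1 := by
      obtain ⟨n, rfl⟩ := Subgroup.mem_zpowers_iff.1 hwZ
      rw [← zpow_natCast, ← zpow_mul, mul_comm, zpow_mul, zpow_natCast, cd.d5, one_zpow]
    have h64 : w ^ 64 = 1 := by
      have h := pow_card_eq_one' (G := ↥(UU hF)) (x := ⟨w, hwU⟩)
      rw [hUcard] at h
      have h' := congrArg Subtype.val h
      simpa using h'
    have h65 : w ^ 65 = 1 := by
      rw [show 65 = 5 * 13 from rfl, pow_mul, h5, one_pow]
    have : w = w ^ 65 * (w ^ 64)⁻¹ := by group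
    rw [this, h65, h64]; simp
  let f : ↥(Subgroup.zpowers (dE l hl)) × ↥(UU hF) →
      ↥(Subgroup.centralizer ({tauE hF} : Set ↥(SU 3 F 4))) :=
    fun p => ⟨p.1.1 * p.2.1, Subgroup.mul_mem _ (hZC _ p.1.2) (hUC _ p.2.2)⟩
  have hbij : Function.Bijective f := by
    constructor
    · rintro ⟨⟨z, hz⟩, ⟨v, hv⟩⟩ ⟨⟨z', hz'⟩, ⟨v', hv'⟩⟩ h
      have h0 : z * v = z' * v' := congrArg Subtype.val h
      have hw : z'⁻¹ * z = v' * v⁻¹ := by
        calc z'⁻¹ * z = z'⁻¹ * (z * v) * v⁻¹ := by group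
          _ = z'⁻¹ * (z' * v') * v⁻¹ := by rw [h0]
          _ = v' * v⁻¹ := by group
      have h1 : z'⁻¹ * z = 1 :=
        hdisj _ (Subgroup.mul_mem _ (Subgroup.inv_mem _ hz') hz)
          (by rw [hw]; exact Subgroup.mul_mem _ hv' (Subgroup.inv_mem _ hv))
      have hzz : z = z' := by
        have := inv_mul_eq_one.mp h1
        exact this.symm
      have hvv : v = v' := by
        rw [hzz] at h0
        exact mul_left_cancel h0
      subst hzz; subst hvv; rfl
    · rintro ⟨g, hg⟩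
      obtain ⟨k, v, hv, hgk⟩ := cd.up g ((hmemC g).1 hg)
      refine ⟨(⟨dE l hl ^ k, Subgroup.pow_mem _ (Subgroup.mem_zpowers _) k⟩, ⟨v, hv⟩), ?_⟩
      apply Subtype.ext
      exact hgk.symm
  rw [← Nat.card_congr (Equiv.ofBijective f hbij), Nat.card_prod, hZcard, hUcard]

end Concrete

end Cfsg.Agent.Lib.helper16.U34C
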