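import Mathlib

/-!
Definitions for the Zassenhaus project (S0690: a perfect group of fixed-point-free automorphisms
is `SL(2,5)`), helper15.  See `tools/S0690_SPEC.md`.
-/

set_option autoImplicit false

namespace Cfsg.Agent.Lib.helper15.Zass

/-- The subgroup `H` has order `24`, `48` or `120`. -/
def CS {G : Type*} [Group G] (H : Subgroup G) : Prop :=
  Nat.card H = 24 ∨ Nat.card H = 48 ∨ Nat.card H = 120

/-- `⟨u, v⟩` is a quaternion group of order `8` and conjugation by `g` maps `u ↦ v ↦ u * v`. -/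
structure PreStd {G : Type*} [Group G] (u v g : G) : Prop where
  u2 : u ^ 2 ≠ 1
  u4 : u ^ 4 = 1
  v2 : v ^ 2 = u ^ 2
  vu : v * u * v⁻¹ = u⁻¹
  gu : g * u * g⁻¹ = v
  gv : g * v * g⁻¹ = u * v

/-- A standard generating triple of a copy of `SL(2,3)`: `PreStd u v x` and `x ^ 3 = 1`. -/
structure Std {G : Type*} [Group G] (u v x : G) : Prop where
  u2 : u ^ 2 ≠ 1
  u4 : u ^ 4 = 1
  v2 : v ^ 2 = u ^ 2
  vu : v * u * v⁻¹ = u⁻¹
  x3 : x ^ 3 = 1
  xu : x * u * x⁻¹ = v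
  xv : x * v * x⁻¹ = u * v

theorem Std.pre {G : Type*} [Group G] {u v x : G} (h : Std u v x) : PreStd u v x :=
  ⟨h.u2, h.u4, h.v2, h.vu, h.xu, h.xv⟩

theorem PreStd.std {G : Type*} [Group G] {u v x : G} (h : PreStd u v x) (h3 : x ^ 3 = 1) :
    Std u v x :=
  ⟨h.u2, h.u4, h.v2, h.vu, h3, h.gu, h.gv⟩

/-- A linear representation in which no nonidentity element fixes a nonzero vector, every element
has an eigenvector in each nonzero invariant subspace, and the characteristic is not two. -/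
structure LinFpf {F : Type*} [Field F] {W : Type*} [AddCommGroup W] [Module F W] {G : Type*}
    [Group G] (ρ : G →* (W ≃ₗ[F] W)) : Prop where
  nt : Nontrivial W
  two : (2 : F) ≠ 0
  fpf : ∀ g : G, g ≠ 1 → ∀ w : W, ρ g w = w → w = 0
  eig : ∀ g : G, ∀ U : Submodule F W, U ≠ ⊥ → (∀ w ∈ U, ρ g w ∈ U) →
    ∃ w ∈ U, w ≠ 0 ∧ ∃ c : F, ρ g w = c • w

/-- The local properties of a group of fixed-point-free automorphisms used in the group-theoretic
part of the proof. -/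
structure ZH (G : Type*) [Group G] : Prop where
  invol : ∀ s t : G, s ≠ 1 → t ≠ 1 → s ^ 2 = 1 → t ^ 2 = 1 → s = t
  pgrp : ∀ (p : ℕ) [Fact p.Prime] (P : Subgroup G), IsPGroup p P →
    IsCyclic P ∨ (p = 2 ∧ ∃ n : ℕ, Nonempty (P ≃* QuaternionGroup (2 ^ n)))
  pq : ∀ (y c : G) (q s : ℕ), q.Prime → c ^ q = 1 → c⁻¹ * y * c = y ^ s →
    Nat.Coprime q (orderOf y) → c⁻¹ * y * c = y
  h3 : ∀ u v x a b x₂ : G, Std u v x → a * u = u * a → v * a * v⁻¹ = a⁻¹ →
    b ∈ Subgroup.closure {u, v, a} → b ^ 2 = u ^ 2 → b * u * b⁻¹ = u⁻¹ →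
    x₂ ^ 3 = 1 → x₂ * u * x₂⁻¹ = b → x₂ * b * x₂⁻¹ = u * b →
    CS (Subgroup.closure {u, v, x, a, x₂})
  h4 : ∀ y y' z : G, y ^ 3 = 1 → y' ^ 3 = 1 → y * y' ≠ y' * y → z ≠ 1 → z ^ 2 = 1 →
    CS (Subgroup.closure {y, y', z})
  h5 : ∀ u v x k : G, Std u v x → k * u = u * k → k * v = v * k → k * x = x * k

end Cfsg.Agent.Lib.helper15.Zass
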