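import Mathlib
import Cfsg.Agent.Lib.helper15.ZassDefs
import Cfsg.Agent.Lib.helper98.DicksonMax

/-!
S0690 piece C (`gc`): a fixed-point-free linear group preserving a plane with determinant one,
containing `-1` and two elements with noncommuting squares, has order `24`, `48` or `120`.
-/

set_option autoImplicit false

namespace Cfsg.Agent.Lib.helper15

open Cfsg.Agent.Lib.helper15.Zass
open Cfsg.Agent.Lib.helper98

section

variable {F : Type*} [Field F] {W : Type*} [AddCommGroup W] [Module F W] {G : Type*} [Group G]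

/-- `g` acts on the plane spanned by `w₁, w₂` through the matrix `A`. -/
def PRep (ρ : G →* (W ≃ₗ[F] W)) (w₁ w₂ : W) (g : G)
    (A : Matrix.SpecialLinearGroup (Fin 2) F) : Prop :=
  ρ g w₁ = A 0 0 • w₁ + A 1 0 • w₂ ∧ ρ g w₂ = A 0 1 • w₁ + A 1 1 • w₂

theorem pair_eq_of_li {w₁ w₂ : W} (hli : LinearIndependent F ![w₁, w₂]) {a c a' c' : F}
    (h : a • w₁ + c • w₂ = a' • w₁ + c' • w₂) : a = a' ∧ c = c' := by
  have h1 : (a - a') • w₁ + (c - c') • w₂ = 0 := by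
    rw [sub_smul, sub_smul]
    have : a • w₁ - a' • w₁ + (c • w₂ - c' • w₂) = (a • w₁ + c • w₂) - (a' • w₁ + c' • w₂) := by
      abel
    rw [this, h, sub_self]
  have h2 := (LinearIndependent.pair_iff.mp hli) _ _ h1
  exact ⟨sub_eq_zero.mp h2.1, sub_eq_zero.mp h2.2⟩

theorem PRep.uniq {ρ : G →* (W ≃ₗ[F] W)} {w₁ w₂ : W} (hli : LinearIndependent F ![w₁, w₂])
    {g : G} {A B : Matrix.SpecialLinearGroup (Fin 2) F} (hA : PRep ρ w₁ w₂ g A)
    (hB : PRep ρ w₁ w₂ g B) : A = B := by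
  have h1 := pair_eq_of_li hli (hA.1.symm.trans hB.1)
  have h2 := pair_eq_of_li hli (hA.2.symm.trans hB.2)
  apply Matrix.SpecialLinearGroup.ext
  intro i j
  fin_cases i <;> fin_cases j
  · exact h1.1
  · exact h2.1
  · exact h1.2
  · exact h2.2

theorem PRep.one (ρ : G →* (W ≃ₗ[F] W)) (w₁ w₂ : W) : PRep ρ w₁ w₂ 1 1 := by
  constructor
  · rw [map_one]; simp
  · rw [map_one]; simp

theorem PRep.mul {ρ : G →* (W ≃ₗ[F] W)} {w₁ w₂ : W} {g h : G}
    {A B : Matrix.SpecialLinearGroup (Fin 2) F} (hA : PRep ρ w₁ w₂ g A)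
    (hB : PRep ρ w₁ w₂ h B) : PRep ρ w₁ w₂ (g * h) (A * B) := by
  have e1 : ρ (g * h) w₁ = ρ g (ρ h w₁) := by rw [map_mul]; rfl
  have e2 : ρ (g * h) w₂ = ρ g (ρ h w₂) := by rw [map_mul]; rfl
  constructor
  · rw [e1, hB.1, map_add, map_smul, map_smul, hA.1, hA.2]
    simp only [Matrix.SpecialLinearGroup.coe_mul, Matrix.mul_apply, Fin.sum_univ_two]
    module
  · rw [e2, hB.2, map_add, map_smul, map_smul, hA.1, hA.2]
    simp only [Matrix.SpecialLinearGroup.coe_mul, Matrix.mul_apply, Fin.sum_univ_two]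
    module

theorem PRep.inv {ρ : G →* (W ≃ₗ[F] W)} {w₁ w₂ : W} {g : G}
    {A : Matrix.SpecialLinearGroup (Fin 2) F} (hA : PRep ρ w₁ w₂ g A) :
    PRep ρ w₁ w₂ g⁻¹ A⁻¹ := by
  have hdet : A 0 0 * A 1 1 - A 0 1 * A 1 0 = 1 := by
    have := A.det_coe
    rw [Matrix.det_fin_two] at this
    exact this
  have hinv : ∀ w y : W, ρ g y = w → ρ g⁻¹ w = y := by
    intro w y hy
    rw [← hy]
    have : ρ g⁻¹ (ρ g y) = ρ (g⁻¹ * g) y := by rw [map_mul]; rfl
    rw [this, inv_mul_cancel, map_one]; rfl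
  constructor
  · apply hinv
    rw [map_add, map_smul, map_smul, hA.1, hA.2]
    simp only [Matrix.SpecialLinearGroup.coe_inv, Matrix.adjugate_fin_two, Matrix.of_apply,
      Matrix.cons_val', Matrix.cons_val_zero, Matrix.cons_val_one, Matrix.empty_val',
      Matrix.cons_val_fin_one]
    have e : w₁ = (A 0 0 * A 1 1 - A 0 1 * A 1 0) • w₁ := by rw [hdet, one_smul]
    conv_rhs => rw [e]
    module
  · apply hinv
    rw [map_add, map_smul, map_smul, hA.1, hA.2]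
    simp only [Matrix.SpecialLinearGroup.coe_inv, Matrix.adjugate_fin_two, Matrix.of_apply,
      Matrix.cons_val', Matrix.cons_val_zero, Matrix.cons_val_one, Matrix.empty_val',
      Matrix.cons_val_fin_one]
    have e : w₂ = (A 0 0 * A 1 1 - A 0 1 * A 1 0) • w₂ := by rw [hdet, one_smul]
    conv_rhs => rw [e]
    module

theorem PRep.exists_of_mem_closure {ρ : G →* (W ≃ₗ[F] W)} {w₁ w₂ : W} {S : Set G}
    (hS : ∀ g ∈ S, ∃ a b c d : F, ρ g w₁ = a • w₁ + c • w₂ ∧ ρ g w₂ = b • w₁ + d • w₂ ∧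
      a * d - b * c = 1) {g : G} (hg : g ∈ Subgroup.closure S) :
    ∃ A : Matrix.SpecialLinearGroup (Fin 2) F, PRep ρ w₁ w₂ g A := by
  induction hg using Subgroup.closure_induction with
  | mem g hg =>
    obtain ⟨a, b, c, d, h1, h2, h3⟩ := hS g hg
    exact ⟨mkSL a b c d h3, h1, h2⟩
  | one => exact ⟨1, PRep.one ρ w₁ w₂⟩
  | mul g h _ _ ihg ihh =>
    obtain ⟨A, hA⟩ := ihg
    obtain ⟨B, hB⟩ := ihh
    exact ⟨A * B, hA.mul hB⟩
  | inv g _ ih =>
    obtain ⟨A, hA⟩ := ih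
    exact ⟨A⁻¹, hA.inv⟩

end

section Fin

variable {F : Type*} [Field F] [Fintype F] {W : Type*} [AddCommGroup W] [Module F W]
  {G : Type*} [Group G]

theorem gc (ρ : G →* (W ≃ₗ[F] W)) (h2 : (2 : F) ≠ 0)
    (hfpf : ∀ g : G, g ≠ 1 → ∀ w : W, ρ g w = w → w = 0)
    (S : Set G) (w₁ w₂ : W) (hli : LinearIndependent F ![w₁, w₂])
    (hS : ∀ g ∈ S, ∃ a b c d : F, ρ g w₁ = a • w₁ + c • w₂ ∧ ρ g w₂ = b • w₁ + d • w₂ ∧
      a * d - b * c = 1)
    (z : G) (hz : z ∈ Subgroup.closure S) (hzneg : ∀ w, ρ z w = -w)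
    (g₁ g₂ : G) (hg₁ : g₁ ∈ Subgroup.closure S) (hg₂ : g₂ ∈ Subgroup.closure S)
    (hnc : g₁ * g₁ * (g₂ * g₂) ≠ g₂ * g₂ * (g₁ * g₁)) :
    CS (Subgroup.closure S) := by
  classical
  have hw₁ : w₁ ≠ 0 := by
    have := hli.ne_zero 0
    simpa using this
  have hex : ∀ g : Subgroup.closure S, ∃ A : Matrix.SpecialLinearGroup (Fin 2) F,
      PRep ρ w₁ w₂ g.1 A := fun g => PRep.exists_of_mem_closure hS g.2
  choose φ₀ hφ₀ using hex
  let φ : Subgroup.closure S →* Matrix.SpecialLinearGroup (Fin 2) F :=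
    { toFun := φ₀
      map_one' := PRep.uniq hli (hφ₀ 1) (PRep.one ρ w₁ w₂)
      map_mul' := fun g h => PRep.uniq hli (hφ₀ (g * h)) ((hφ₀ g).mul (hφ₀ h)) }
  have hφ : ∀ g : Subgroup.closure S, PRep ρ w₁ w₂ g.1 (φ g) := hφ₀
  have hker : ∀ g : Subgroup.closure S, φ g = 1 → g = 1 := by
    intro g hg
    by_contra hne
    have h1 := (hφ g).1
    rw [hg] at h1
    have h3 : ρ g.1 w₁ = w₁ := by rw [h1]; simp
    exact hw₁ (hfpf g.1 (fun h => hne (Subtype.ext h)) w₁ h3)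
  have hinj : Function.Injective φ := by
    rw [injective_iff_map_eq_one]
    exact hker
  -- the image
  have hcard : Nat.card (Subgroup.closure S) = Nat.card φ.range :=
    Nat.card_congr (MonoidHom.ofInjective hinj).toEquiv
  obtain ⟨δ, hδ⟩ := FiniteField.exists_nonsquare (F := F) (by
    intro h
    apply h2
    have := CharP.cast_eq_zero F (ringChar F)
    rw [h] at this
    exact_mod_cast this)
  have hneg : negOne ∈ φ.range := by
    refine ⟨⟨z, hz⟩, ?_⟩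
    apply PRep.uniq hli (hφ ⟨z, hz⟩)
    constructor
    · rw [hzneg]; simp [negOne]
    · rw [hzneg]; simp [negOne]
  have htame : ∀ A ∈ φ.range, A 0 0 + A 1 1 = 2 → A = 1 := by
    rintro _ ⟨g, rfl⟩ htr
    by_cases hg : g = 1
    · rw [hg, map_one]
    exfalso
    have hg' : g.1 ≠ 1 := fun h => hg (Subtype.ext h)
    obtain ⟨h1, h2'⟩ := hφ g
    set A := φ g with hA
    have hdet : A 0 0 * A 1 1 - A 0 1 * A 1 0 = 1 := by
      have := A.det_coe
      rw [Matrix.det_fin_two] at this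
      exact this
    have hd : A 1 1 = 2 - A 0 0 := by rw [← htr]; ring
    -- `y₁ = (ρ g - 1) w₁` is fixed
    have hy₁ : ρ g.1 ((A 0 0 - 1) • w₁ + A 1 0 • w₂) = (A 0 0 - 1) • w₁ + A 1 0 • w₂ := by
      rw [map_add, map_smul, map_smul, h1, h2']
      have e1 : (A 0 0 - 1) * A 0 0 + A 1 0 * A 0 1 = A 0 0 - 1 := by
        rw [hd] at hdet; linear_combination (-1 : F) * hdet
      have e2 : (A 0 0 - 1) * A 1 0 + A 1 0 * A 1 1 = A 1 0 := by
        rw [hd]; ring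
      calc (A 0 0 - 1) • (A 0 0 • w₁ + A 1 0 • w₂) + A 1 0 • (A 0 1 • w₁ + A 1 1 • w₂)
          = ((A 0 0 - 1) * A 0 0 + A 1 0 * A 0 1) • w₁
            + ((A 0 0 - 1) * A 1 0 + A 1 0 * A 1 1) • w₂ := by module
        _ = (A 0 0 - 1) • w₁ + A 1 0 • w₂ := by rw [e1, e2]
    have hz₁ := hfpf g.1 hg' _ hy₁
    have hp := (LinearIndependent.pair_iff.mp hli) _ _ hz₁
    have ha : A 0 0 = 1 := sub_eq_zero.mp hp.1
    have hc : A 1 0 = 0 := hp.2
    have hd1 : A 1 1 = 1 := by rw [hd, ha]; ring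
    have hy₂ : ρ g.1 (A 0 1 • w₁) = A 0 1 • w₁ := by
      rw [map_smul, h1, ha, hc]; simp
    have hz₂ := hfpf g.1 hg' _ hy₂
    have hb : A 0 1 = 0 := by
      rcases smul_eq_zero.mp hz₂ with h | h
      · exact h
      · exact absurd h hw₁
    apply hg
    apply hker
    apply Matrix.SpecialLinearGroup.ext
    intro i j
    fin_cases i <;> fin_cases j
    · simpa using ha
    · simpa using hb
    · simpa using hc
    · simpa using hd1
  have hne : φ ⟨g₁, hg₁⟩ * φ ⟨g₁, hg₁⟩ * (φ ⟨g₂, hg₂⟩ * φ ⟨g₂, hg₂⟩)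
      ≠ φ ⟨g₂, hg₂⟩ * φ ⟨g₂, hg₂⟩ * (φ ⟨g₁, hg₁⟩ * φ ⟨g₁, hg₁⟩) := by
    intro h
    simp only [← map_mul] at h
    have := hinj h
    exact hnc (congrArg Subtype.val this)
  have key := tame_noncomm h2 hδ φ.range hneg htame (φ ⟨g₁, hg₁⟩) (φ ⟨g₂, hg₂⟩) ⟨_, rfl⟩ ⟨_, rfl⟩ hne
  unfold CS
  rw [hcard]
  rcases key with h | h | h
  · exact Or.inl h.1
  · exact Or.inr (Or.inl h.1)
  · exact Or.inr (Or.inr h.1)

end Fin

end Cfsg.Agent.Lib.helper15
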