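import Mathlib
import Cfsg.Prelude.Def_Transfer
import Cfsg.Agent.Lib.helper15.ZassDefs
import Cfsg.Agent.Lib.helper62.FrobExtract
import Cfsg.Agent.Lib.helper62.FrobSolvA
import Cfsg.Agent.Lib.helper62.LinRegQ8A
import Cfsg.Agent.Lib.helper32.ZassA
import Cfsg.Agent.Lib.helper80.ZassB
import Cfsg.Agent.Lib.helper15.ZassC
import Cfsg.Agent.Lib.helper19.ZassD
import Cfsg.Agent.Lib.helper19.ZassE
import Cfsg.Agent.Lib.helper19.ZassF
import Cfsg.Agent.Lib.helper17.ZassG
import Cfsg.Agent.Lib.helper65.ZassH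
import Cfsg.Agent.Lib.helper77.ZassI
import Cfsg.Agent.Lib.helper46.ZassJ
import Cfsg.Agent.Lib.helper46.ZassK
import Cfsg.Agent.Lib.helper92.ZassL
import Cfsg.Agent.Lib.helper97.ZassM
import Cfsg.Agent.Lib.helper77.ZassN
import Cfsg.Agent.Lib.helper97.ZassO

/-!
S0690 (Zassenhaus): assembly of the pieces A-O of `tools/S0690_SPEC.md` (helper15).
-/

set_option autoImplicit false

namespace Cfsg.Agent.Lib.helper15.ZassAsm
open Cfsg.Agent.Lib.helper15.Zass
open Cfsg.Agent.Lib.helper62.FrobExtract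

universe u v

section Grp

variable {G : Type*} [Group G]

/-- In a standard triple, `x` and `u x u⁻¹` have noncommuting squares. -/
theorem std_noncomm {u v x : G} (hs : Std u v x) :
    x * x * (u * x * u⁻¹ * (u * x * u⁻¹)) ≠ u * x * u⁻¹ * (u * x * u⁻¹) * (x * x) := by
  intro hcomm
  have hx3 : x * x * x = 1 := by rw [← pow_three']; exact hs.x3
  have hxx : x * x = x⁻¹ := eq_inv_of_mul_eq_one_left hx3
  have hc3 : u * x * u⁻¹ * (u * x * u⁻¹) * (u * x * u⁻¹) = 1 := by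
    have : u * x * u⁻¹ * (u * x * u⁻¹) * (u * x * u⁻¹) = u * (x * x * x) * u⁻¹ := by group
    rw [this, hx3]; group
  have hcc : u * x * u⁻¹ * (u * x * u⁻¹) = (u * x * u⁻¹)⁻¹ := eq_inv_of_mul_eq_one_left hc3
  rw [hxx, hcc] at hcomm
  -- `x⁻¹ * c⁻¹ = c⁻¹ * x⁻¹`
  have h1 : u * x * u⁻¹ * x = x * (u * x * u⁻¹) := by
    have := congrArg (fun g => g⁻¹) hcomm
    simp only [mul_inv_rev, inv_inv] at this
    exact this
  -- `v * u * v = u`
  have hv4 : v ^ 4 = 1 := by
    have : v ^ 4 = (v ^ 2) ^ 2 := by rw [← pow_mul]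
    rw [this, hs.v2, ← pow_mul]; exact hs.u4
  have hvuv : v * u * v = u := by
    have h2 : v * u = u⁻¹ * v := by
      have := hs.vu
      calc v * u = v * u * v⁻¹ * v := by group
        _ = u⁻¹ * v := by rw [this]
    calc v * u * v = u⁻¹ * v * v := by rw [h2]
      _ = u⁻¹ * v ^ 2 := by rw [pow_two, mul_assoc]
      _ = u⁻¹ * u ^ 2 := by rw [hs.v2]
      _ = u := by group
  -- `x * (u * v) * x⁻¹ = u`
  have hxuv : x * (u * v) * x⁻¹ = u := by
    calc x * (u * v) * x⁻¹ = (x * u * x⁻¹) * (x * v * x⁻¹) := by group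
      _ = v * (u * v) := by rw [hs.xu, hs.xv]
      _ = v * u * v := by rw [mul_assoc]
      _ = u := hvuv
  -- `u * x * u⁻¹ = x * v⁻¹`
  have h3 : u * x * u⁻¹ = x * v⁻¹ := by
    have h4 : u * x = x * (u * v) := by
      calc u * x = x * (u * v) * x⁻¹ * x := by rw [hxuv]
        _ = x * (u * v) := by group
    have h5 : u * v * u⁻¹ = v⁻¹ := by
      have : v * (u * v * u⁻¹) = 1 := by
        calc v * (u * v * u⁻¹) = v * u * v * u⁻¹ := by group
          _ = u * u⁻¹ := by rw [hvuv]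
          _ = 1 := by group
      exact eq_inv_of_mul_eq_one_right this
    calc u * x * u⁻¹ = x * (u * v) * u⁻¹ := by rw [h4]
      _ = x * (u * v * u⁻¹) := by group
      _ = x * v⁻¹ := by rw [h5]
  rw [h3] at h1
  -- `x * v⁻¹ * x = x * (x * v⁻¹)`
  have h6 : v⁻¹ * x = x * v⁻¹ := by
    have : x * (v⁻¹ * x) = x * (x * v⁻¹) := by rw [← mul_assoc]; exact h1
    exact mul_left_cancel this
  have h7 : x * v * x⁻¹ = v := by
    have h8 : x * v = v * x := by
      calc x * v = v * (v⁻¹ * x) * v := by group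
        _ = v * (x * v⁻¹) * v := by rw [h6]
        _ = v * x := by group
    rw [h8]; group
  have h9 : u * v = v := by rw [← hs.xv]; exact h7
  have h10 : u = 1 := by
    have : u * v = 1 * v := by rw [one_mul]; exact h9
    exact mul_right_cancel this
  exact hs.u2 (by rw [h10]; simp)

theorem std_sub {u v x : G} (hs : Std u v x) (H : Subgroup G) (hu : u ∈ H) (hv : v ∈ H)
    (hx : x ∈ H) : Std (⟨u, hu⟩ : H) ⟨v, hv⟩ ⟨x, hx⟩ where
  u2 := fun h => hs.u2 (by simpa using congrArg Subtype.val h)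
  u4 := Subtype.ext (by simpa using hs.u4)
  v2 := Subtype.ext (by simpa using hs.v2)
  vu := Subtype.ext (by simpa using hs.vu)
  x3 := Subtype.ext (by simpa using hs.x3)
  xu := Subtype.ext (by simpa using hs.xu)
  xv := Subtype.ext (by simpa using hs.xv)

theorem hT_of [Finite G] (h : ZH G) (u v x : G) (hs : Std u v x) (k : G)
    (hku : k * u = u * k) (hvk : v * k * v⁻¹ = k⁻¹) (hodd : Odd (orderOf k)) : k = 1 := by
  have hcs := h.h3 u v x k v x hs hku hvk (Subgroup.subset_closure (by simp)) hs.v2 hs.vu hs.x3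
    hs.xu hs.xv
  have hu : u ∈ Subgroup.closure ({u, v, x, k, x} : Set G) := Subgroup.subset_closure (by simp)
  have hv : v ∈ Subgroup.closure ({u, v, x, k, x} : Set G) := Subgroup.subset_closure (by simp)
  have hx : x ∈ Subgroup.closure ({u, v, x, k, x} : Set G) := Subgroup.subset_closure (by simp)
  have hk : k ∈ Subgroup.closure ({u, v, x, k, x} : Set G) := Subgroup.subset_closure (by simp)
  have := Cfsg.Agent.Lib.helper77.tgrp (H := Subgroup.closure ({u, v, x, k, x} : Set G)) hcs ⟨u, hu⟩ ⟨v, hv⟩ ⟨x, hx⟩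
    ⟨k, hk⟩ (std_sub hs _ hu hv hx) (Subtype.ext hku) (Subtype.ext (by simpa using hvk))
    (by rwa [Subgroup.orderOf_mk])
  exact congrArg Subtype.val this

theorem hPF_of [Finite G] (h : ZH G) (X : Subgroup G) (hX : ¬ Cfsg.HasNormalPComplement 2 X) :
    ∃ u v g : G, u ∈ X ∧ v ∈ X ∧ g ∈ X ∧ PreStd u v g ∧ ∃ k : ℕ, orderOf g = 3 ^ k := by
  have hp : ∀ P : Subgroup X, IsPGroup 2 P →
      IsCyclic P ∨ ∃ n : ℕ, Nonempty (P ≃* QuaternionGroup (2 ^ n)) := by
    intro P hP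
    have hP' : IsPGroup 2 (P.map X.subtype) := hP.map _
    have : Fact (Nat.Prime 2) := ⟨Nat.prime_two⟩
    let e : P ≃* P.map X.subtype := P.equivMapOfInjective _ X.subtype_injective
    rcases h.pgrp 2 (P.map X.subtype) hP' with hc | ⟨-, n, ⟨f⟩⟩
    · left
      exact isCyclic_of_surjective e.symm e.symm.surjective
    · right
      exact ⟨n, ⟨e.trans f⟩⟩
  obtain ⟨u, v, g, hpre, k, hk⟩ := Cfsg.Agent.Lib.helper17.pfrob hp hX
  refine ⟨u, v, g, u.2, v.2, g.2, ?_, k, ?_⟩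
  · exact ⟨fun h1 => hpre.u2 (Subtype.ext (by simpa using h1)),
      by simpa using congrArg Subtype.val hpre.u4,
      by simpa using congrArg Subtype.val hpre.v2,
      by simpa using congrArg Subtype.val hpre.vu,
      by simpa using congrArg Subtype.val hpre.gu,
      by simpa using congrArg Subtype.val hpre.gv⟩
  · rw [← hk]; exact Subgroup.orderOf_coe g

theorem zass_main [Finite G] (h : ZH G) (hperf : commutator G = ⊤) (hnt : Nontrivial G) :
    Nonempty (G ≃* Matrix.SpecialLinearGroup (Fin 2) (ZMod 5)) := by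
  obtain ⟨u, v, x, hs⟩ := Cfsg.Agent.Lib.helper65.exists_std h hperf hnt (hPF_of h)
  have hT := hT_of h u v x hs
  obtain ⟨hc, h3c⟩ := Cfsg.Agent.Lib.helper46.std_cent h u v x hs hT
  have h8 : ∀ S : Sylow 2 G, Nat.card S = 8 := by
    intro S
    rcases Cfsg.Agent.Lib.helper46.sylow_le_16 h u v x hs S with h8 | h16
    · exact h8
    · exfalso
      obtain ⟨α, n, hα, hvα, hnu, hnt⟩ := Cfsg.Agent.Lib.helper92.sylow_16_fusion h hperf u v x hs S h16
      exact Cfsg.Agent.Lib.helper97.sylow_16_false h u v x hs h3c α n hα hvα hnu hnt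
  exact Cfsg.Agent.Lib.helper97.zass_end h hperf u v x hs (Cfsg.Agent.Lib.helper77.cent_u h hperf u v x hs hc h8)

end Grp

section Lin

variable {F : Type*} [Field F] [Fintype F] {W : Type*} [AddCommGroup W] [Module F W]
  {G : Type*} [Group G]

theorem rho_invol (ρ : G →* (W ≃ₗ[F] W)) (h : LinFpf ρ) (z : G) (hz1 : z ≠ 1)
    (hz2 : z ^ 2 = 1) (w : W) : ρ z w = -w := by
  have h1 : ρ z (w + ρ z w) = w + ρ z w := by
    have hzz : ρ z (ρ z w) = w := by
      have : ρ (z ^ 2) w = ρ z (ρ z w) := by rw [pow_two, map_mul]; rfl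
      rw [← this, hz2, map_one]; rfl
    rw [map_add, hzz, add_comm]
  have h2 := h.fpf z hz1 _ h1
  exact (neg_eq_of_add_eq_zero_right h2).symm

theorem h3_of_lin (ρ : G →* (W ≃ₗ[F] W)) (h : LinFpf ρ) (u v x a b x₂ : G) (hs : Std u v x)
    (hau : a * u = u * a) (hva : v * a * v⁻¹ = a⁻¹)
    (hb : b ∈ Subgroup.closure {u, v, a}) (hb2 : b ^ 2 = u ^ 2) (hbu : b * u * b⁻¹ = u⁻¹)
    (hx₂ : x₂ ^ 3 = 1) (hx₂u : x₂ * u * x₂⁻¹ = b) (hx₂b : x₂ * b * x₂⁻¹ = u * b) :
    CS (Subgroup.closure {u, v, x, a, x₂}) := by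
  obtain ⟨w₁, w₂, hli, hS⟩ := Cfsg.Agent.Lib.helper19.l1_plane ρ h (fun u v x hs w => Cfsg.Agent.Lib.helper19.std_formula ρ h u v x hs w)
    u v x a b x₂ hs hau hva hb hb2 hbu hx₂ hx₂u hx₂b
  have hz2 : (u ^ 2) ^ 2 = 1 := by rw [← pow_mul]; exact hs.u4
  have hu : u ∈ Subgroup.closure ({u, v, x, a, x₂} : Set G) := Subgroup.subset_closure (by simp)
  have hx : x ∈ Subgroup.closure ({u, v, x, a, x₂} : Set G) := Subgroup.subset_closure (by simp)
  exact Cfsg.Agent.Lib.helper15.gc ρ h.two h.fpf _ w₁ w₂ hli hS (u ^ 2) (pow_mem hu 2) (rho_invol ρ h _ hs.u2 hz2)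
    x (u * x * u⁻¹) hx (mul_mem (mul_mem hu hx) (inv_mem hu)) (std_noncomm hs)

theorem h4_of_lin (ρ : G →* (W ≃ₗ[F] W)) (h : LinFpf ρ) (y y' z : G) (hy : y ^ 3 = 1)
    (hy' : y' ^ 3 = 1) (hnc : y * y' ≠ y' * y) (hz1 : z ≠ 1) (hz2 : z ^ 2 = 1) :
    CS (Subgroup.closure {y, y', z}) := by
  obtain ⟨w₁, w₂, hli, hS⟩ := Cfsg.Agent.Lib.helper19.l2_plane ρ h y y' z hy hy' hnc hz1 hz2
  have hym : y ∈ Subgroup.closure ({y, y', z} : Set G) := Subgroup.subset_closure (by simp)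
  have hym' : y' ∈ Subgroup.closure ({y, y', z} : Set G) := Subgroup.subset_closure (by simp)
  have hzm : z ∈ Subgroup.closure ({y, y', z} : Set G) := Subgroup.subset_closure (by simp)
  refine Cfsg.Agent.Lib.helper15.gc ρ h.two h.fpf _ w₁ w₂ hli hS z hzm (rho_invol ρ h z hz1 hz2) y y' hym hym' ?_
  intro hcomm
  have h1 : y * y = y⁻¹ := eq_inv_of_mul_eq_one_left (by rw [← pow_three']; exact hy)
  have h2 : y' * y' = y'⁻¹ := eq_inv_of_mul_eq_one_left (by rw [← pow_three']; exact hy')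
  rw [h1, h2] at hcomm
  apply hnc
  have := congrArg (fun g => g⁻¹) hcomm
  simp only [mul_inv_rev, inv_inv] at this
  exact this.symm

end Lin

theorem zh_of_lin {G : Type u} [Group G] [Finite G] (hm : HasFpfMod.{u, v} G)
    {F : Type*} [Field F] [Fintype F] {W : Type*} [AddCommGroup W] [Module F W]
    (ρ : G →* (W ≃ₗ[F] W)) (h : LinFpf ρ) : ZH G where
  invol := fun s t hs ht hs2 ht2 =>
    Cfsg.Agent.Lib.helper62.FrobSolv.fpf_involution_unique hm s t hs ht hs2 ht2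
  pgrp := by
    intro p _ P hP
    have hmP : HasFpfMod.{u, v} P := HasFpfMod.comap P.subtype P.subtype_injective hm
    exact Cfsg.Agent.Lib.helper62.LinRegQ8.fpf_pgroup_cyclic_or_quat hmP p hP
  pq := fun y c q s hq hc hrel hcop =>
    Cfsg.Agent.Lib.helper62.FrobSolv.fpf_prime_centralizes hm y c q s hq hc hrel hcop
  h3 := fun u v x a b x₂ hs hau hva hb hb2 hbu hx₂ hx₂u hx₂b =>
    h3_of_lin ρ h u v x a b x₂ hs hau hva hb hb2 hbu hx₂ hx₂u hx₂b
  h4 := fun y y' z hy hy' hnc hz1 hz2 => h4_of_lin ρ h y y' z hy hy' hnc hz1 hz2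
  h5 := fun u v x k hs hku hkv => Cfsg.Agent.Lib.helper19.l5 ρ h u v x k hs hku hkv

theorem even_card {G : Type u} [Group G] [Finite G] [Nontrivial G] (hm : HasFpfMod.{u, v} G)
    (hperf : commutator G = ⊤) : 2 ∣ Nat.card G := by
  by_contra h2
  have hz : IsZGroup G := by
    refine ⟨fun p hp P => ?_⟩
    have : Fact p.Prime := ⟨hp⟩
    have hmP : HasFpfMod.{u, v} (P : Subgroup G) :=
      HasFpfMod.comap (P : Subgroup G).subtype (P : Subgroup G).subtype_injective hm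
    rcases Cfsg.Agent.Lib.helper62.LinRegQ8.fpf_pgroup_cyclic_or_quat hmP p P.isPGroup' with
      hc | ⟨rfl, -⟩
    · exact hc
    · have h1 : Nat.card (P : Subgroup G) = 1 := by
        obtain ⟨n, hn⟩ := IsPGroup.iff_card.mp P.isPGroup'
        rcases n with _ | n
        · simpa using hn
        · exfalso
          apply h2
          have h3 : Nat.card (P : Subgroup G) ∣ Nat.card G := Subgroup.card_subgroup_dvd_card _
          rw [hn] at h3
          exact dvd_trans (dvd_pow_self 2 (Nat.succ_ne_zero n)) h3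
      have : Subsingleton (P : Subgroup G) := (Nat.card_eq_one_iff_unique.mp h1).1
      exact isCyclic_of_subsingleton
  have := IsZGroup.commutator_lt G
  rw [hperf] at this
  exact lt_irrefl _ this

/-- A nontrivial perfect finite group with a fixed-point-free module is `SL(2,5)`. -/
theorem zass_of_fpfmod {G : Type u} [Group G] [Finite G] [Nontrivial G]
    (hm : HasFpfMod.{u, v} G) (hperf : commutator G = ⊤) :
    Nonempty (G ≃* Matrix.SpecialLinearGroup (Fin 2) (ZMod 5)) := by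
  obtain ⟨F, _, _, W, _, _, ρ, hnt, hcard, hfpf', heig⟩ := Cfsg.Agent.Lib.helper80.lin_b hm
  have heven : 2 ∣ Nat.card G := even_card hm hperf
  have h2 : (2 : F) ≠ 0 := by
    intro h0
    apply hcard
    obtain ⟨m, hm'⟩ := heven
    rw [hm']; push_cast; rw [h0, zero_mul]
  exact zass_main (zh_of_lin hm ρ ⟨hnt, h2, hfpf', heig⟩) hperf inferInstance

theorem pgrp_of_fpfmod {G : Type u} [Group G] [Finite G] (hm : HasFpfMod.{u, v} G)
    (p : ℕ) [Fact p.Prime] (P : Subgroup G) (hP : IsPGroup p P) :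
    IsCyclic P ∨ (p = 2 ∧ ∃ n : ℕ, Nonempty (P ≃* QuaternionGroup (2 ^ n))) := by
  have hmP : HasFpfMod.{u, v} P := HasFpfMod.comap P.subtype P.subtype_injective hm
  exact Cfsg.Agent.Lib.helper62.LinRegQ8.fpf_pgroup_cyclic_or_quat hmP p hP

theorem s0690 {K : Type u} [Group K] [Finite K] (G : Subgroup (MulAut K))
    (hfpf : ∀ φ ∈ G, φ ≠ 1 → ∀ k : K, φ k = k → k = 1) (hperf : commutator G = ⊤)
    (hne : G ≠ ⊥) : Nonempty (G ≃* Matrix.SpecialLinearGroup (Fin 2) (ZMod 5)) := by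
  have hm : HasFpfMod.{u, u} G := Cfsg.Agent.Lib.helper32.lin_a G hfpf hne
  have : Nontrivial G := (Subgroup.nontrivial_iff_ne_bot G).mpr hne
  exact zass_of_fpfmod hm hperf

end Cfsg.Agent.Lib.helper15.ZassAsm
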